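import Cfsg.Agent.H72.OrthPlanes.Stab
import Cfsg.Agent.H57.ExtOrth.Main
import Cfsg.Agent.H97.OmegaEight.Nondeg
import Cfsg.Agent.H97.OmegaEight.Eight

/-!
Maximality in Ω of the stabiliser of a decomposition into at least five isometric planes.
-/

set_option autoImplicit false
set_option linter.unusedSectionVars false

namespace Cfsg.Agent.H72.OrthPlanes

open QuadraticMap Module Cfsg.Agent.Orthogonal
open Cfsg.Agent.H98.OrthMax (rO_mul_mem)

section Abstract

variable {F V : Type*} [Field F] [Fintype F] [AddCommGroup V] [Module F V] [FiniteDimensional F V]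
  {Q : QuadraticForm F V} {t : ℕ} {D : Fin t → Submodule F V} {X : Subgroup (O Q)}

namespace PDec

variable (H : PDec Q D)
include H

/-- The dimension of the space. -/
theorem finrank_eq : finrank F V = 2 * t := by
  let e : V →ₗ[F] (∀ i, D i) := LinearMap.pi fun i => (H.pr i).codRestrict (D i) (H.pr_mem i)
  have hinj : Function.Injective e := fun x y h => H.ext_pr fun i => congrArg Subtype.val (congrFun h i)
  have hsurj : Function.Surjective e := fun f => by
    refine ⟨∑ j, (f j : V), funext fun i => Subtype.ext ?_⟩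
    show H.pr i (∑ j, (f j : V)) = (f i : V)
    rw [map_sum, Finset.sum_eq_single i]
    · exact H.pr_self (f i).2
    · exact fun j _ hj => H.pr_other (f j).2 hj.symm
    · exact fun h => absurd (Finset.mem_univ i) h
  rw [(LinearEquiv.ofBijective e ⟨hinj, hsurj⟩).finrank_eq, finrank_pi_fintype,
    Finset.sum_congr rfl fun i _ => H.rk i, Finset.sum_const, Finset.card_univ, Fintype.card_fin, smul_eq_mul]
  ring

theorem pr_zero_iff {b : Fin t} {x : V} : H.pr b x = 0 ↔ x ∈ perp Q (D b) :=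
  ⟨fun h _ hw => H.polar_of_pr_zero hw h, fun h => H.pr_of_perp h⟩

theorem finrank_perp (b : Fin t) : finrank F (perp Q (D b)) + 2 = 2 * t := by
  have h := H.nQ.finrank_add_perp (D b)
  rw [H.rk, H.finrank_eq] at h
  omega

/-- A vector with exactly one component lies in a block. -/
theorem exists_block_of_card {x : V} (hx : x ≠ 0) (h : (H.supp x).card ≤ 1) : ∃ i, x ∈ D i := by
  obtain ⟨i, hi⟩ : ∃ i, H.pr i x ≠ 0 := by
    by_contra hc
    push Not at hc
    exact hx (H.ext_pr fun i => by rw [hc i, map_zero])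
  refine ⟨i, H.mem_block_of_supp fun j hj => ?_⟩
  by_contra hjx
  exact hj (Finset.card_le_one.1 h j (H.mem_supp.2 hjx) i (H.mem_supp.2 hi))

/-- A vector in no block, with nonzero value. -/
theorem exists_wide (ht : 5 ≤ t) : ∃ a : V, Q a ≠ 0 ∧ ∀ i, a ∉ D i := by
  set p : Fin t := ⟨0, by omega⟩
  set q : Fin t := ⟨1, by omega⟩
  set r : Fin t := ⟨2, by omega⟩
  have hpq : p ≠ q := by simp [p, q]
  have hpr : p ≠ r := by simp [p, r]
  have hqr : q ≠ r := by simp [q, r]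
  obtain ⟨x, hx, hQx⟩ := H98.OrthDecomp.exists_value_mem (H.nd p) (by rw [H.rk]) (1 : F)
  obtain ⟨y, hy, hQy⟩ := H98.OrthDecomp.exists_value_mem (H.nd q) (by rw [H.rk]) (1 : F)
  have hy0 : y ≠ 0 := fun e => one_ne_zero (α := F) (by rw [← hQy, e, map_zero])
  have hx0 : x ≠ 0 := fun e => one_ne_zero (α := F) (by rw [← hQx, e, map_zero])
  by_cases h2 : (2 : F) = 0
  · obtain ⟨z, hz, hQz⟩ := H98.OrthDecomp.exists_value_mem (H.nd r) (by rw [H.rk]) (1 : F)
    refine ⟨x + y + z, ?_, H.two_of_not_mem hpq ?_ ?_⟩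
    · rw [map_add_polar, map_add_polar, polar_add_left, H.orth p r hpr x hx z hz, H.orth q r hqr y hy z hz,
        H.orth p q hpq x hx y hy, hQx, hQy, hQz, add_zero, add_zero, add_zero,
        show (1 : F) + 1 + 1 = 1 by linear_combination h2]
      exact one_ne_zero
    · rw [map_add, map_add, H.pr_self hx, H.pr_other hy hpq, H.pr_other hz hpr, add_zero, add_zero]
      exact hx0
    · rw [map_add, map_add, H.pr_other hx hpq.symm, H.pr_self hy, H.pr_other hz hqr, zero_add, add_zero]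
      exact hy0
  · refine ⟨x + y, ?_, H.two_of_not_mem hpq ?_ ?_⟩
    · rw [map_add_polar, hQx, hQy, H.orth p q hpq x hx y hy, add_zero, one_add_one_eq_two]
      exact h2
    · rw [map_add, H.pr_self hx, H.pr_other hy hpq, add_zero]; exact hx0
    · rw [map_add, H.pr_other hx hpq.symm, H.pr_self hy, zero_add]; exact hy0

/-- An element of Ω outside the stabiliser. -/
theorem exists_not_perm (ht : 5 ≤ t) : ∃ x ∈ commutator (O Q), ¬ Perm D x := by
  obtain ⟨a, hQa, ha⟩ := H.exists_wide ht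
  obtain ⟨c, hc, hQc⟩ := H98.OrthDecomp.exists_value_mem (H.nd ⟨0, by omega⟩) (by rw [H.rk]) (Q a)
  refine ⟨rot Q a c, rO_mul_mem H.nQ hQa hQc, fun hp => ?_⟩
  have h := hp.mul (H.perm_rO hc)
  rw [rot, mul_assoc, rO_mul_self, mul_one] at h
  obtain ⟨i, hi⟩ := H.exists_block_of_perm_rO hQa h
  exact ha i hi

/-- The vectors whose reflection is induced by `X` on the orthogonal of a block. -/
def reflSet (X : Subgroup (O Q)) (b : Fin t) : Set V :=
  {x | Q x ≠ 0 ∧ H.pr b x = 0 ∧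
    ∃ g ∈ X, ∀ v, H.pr b v = 0 → (g : V ≃ₗ[F] V) v = (rO Q x : V ≃ₗ[F] V) v}

theorem mem_reflSet {X : Subgroup (O Q)} {b : Fin t} {x : V} : x ∈ H.reflSet X b ↔ Q x ≠ 0 ∧ H.pr b x = 0 ∧
    ∃ g ∈ X, ∀ v, H.pr b v = 0 → (g : V ≃ₗ[F] V) v = (rO Q x : V ≃ₗ[F] V) v := Iff.rfl

variable (hX : Over D X) (ht : 5 ≤ t)
include hX ht

theorem rSys_reflSet (b : Fin t) : RSys H b (H.reflSet X b) where
  aniso x hx := hx.1
  avoid x hx := hx.2.1
  block l hl x hx hQx := by
    refine H.mem_reflSet.2 ⟨hQx, H.pr_other hx hl.symm, ?_⟩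
    obtain ⟨c, hc, hQc⟩ := H98.OrthDecomp.exists_value_mem (H.nd b) (by rw [H.rk]) (Q x)
    refine ⟨rot Q x c, H.rot_mem hX hx hc hQx hQc, fun v hv => ?_⟩
    rw [rot, Subgroup.coe_mul, mul_app, rO_fix (H.polar_of_pr_zero hc hv)]
  refl x hx y hy := by
    obtain ⟨hQx, hxb, gx, hgx, ex⟩ := H.mem_reflSet.1 hx
    obtain ⟨hQy, hyb, gy, hgy, ey⟩ := H.mem_reflSet.1 hy
    have hpr : ∀ v, H.pr b v = 0 → H.pr b ((rO Q x : V ≃ₗ[F] V) v) = 0 := fun v hv => by
      rw [rO_app, map_sub, map_smul, hv, hxb, smul_zero, sub_zero]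
    refine H.mem_reflSet.2 ⟨by rw [O.map_app]; exact hQy, hpr y hyb, gx * gy * gx⁻¹,
      X.mul_mem (X.mul_mem hgx hgy) (X.inv_mem hgx), fun v hv => ?_⟩
    have hxx : ∀ w, (rO Q x : V ≃ₗ[F] V) ((rO Q x : V ≃ₗ[F] V) w) = w := fun w => by
      rw [← mul_app, ← Subgroup.coe_mul, rO_mul_self, OneMemClass.coe_one, one_app]
    have hinv : ((gx⁻¹ : O Q) : V ≃ₗ[F] V) v = (rO Q x : V ≃ₗ[F] V) v := by
      apply (gx : V ≃ₗ[F] V).injective
      rw [ex _ (hpr v hv), hxx, ← mul_app, ← Subgroup.coe_mul, mul_inv_cancel, OneMemClass.coe_one, one_app]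
    have hy' : H.pr b ((rO Q y : V ≃ₗ[F] V) ((rO Q x : V ≃ₗ[F] V) v)) = 0 := by
      rw [rO_app, map_sub, map_smul, hpr v hv, hyb, smul_zero, sub_zero]
    rw [Subgroup.coe_mul, mul_app, Subgroup.coe_mul, mul_app, hinv, ey _ (hpr v hv), ex _ hy',
      ← conj_rO (rO Q x) y, rO_inv, Subgroup.coe_mul, mul_app, Subgroup.coe_mul, mul_app]
  smul x hx c hc := by
    obtain ⟨hQx, hxb, g, hg, e⟩ := H.mem_reflSet.1 hx
    exact H.mem_reflSet.2 ⟨by rw [qmap_smul]; exact mul_ne_zero (pow_ne_zero 2 hc) hQx,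
      by rw [map_smul, hxb, smul_zero], g, hg, fun v hv => by rw [rO_smul hc]; exact e v hv⟩
  inv σ hσ hσb x hx := by
    obtain ⟨hQx, hxb, g, hg, e⟩ := H.mem_reflSet.1 hx
    obtain ⟨ρ, hρ, hmem⟩ := H98.OrthDecomp.exists_corr H.nQ (by rw [H.finrank_eq]; omega) (H.nd b)
      (by rw [H.rk]) σ
    have hρperm : Perm D ρ := fun i => ⟨i, fun v hv => by
      rcases eq_or_ne i b with rfl | hi
      · have h := H98.OrthMax.perp_invariant ρ (W := perp Q (D i)) (fun w hw => by rw [hρ w hw]; exact hw) v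
          (by rw [H.nQ.perp_perp]; exact hv)
        rwa [H.nQ.perp_perp] at h
      · rw [hρ v fun w hw => H.orth b i hi.symm w hw v hv]; exact hv⟩
    set k := σ * ρ with hk
    have hkX : k ∈ X := hX _ hmem (hσ.mul hρperm)
    have hkσ : ∀ w, H.pr b w = 0 → (k : V ≃ₗ[F] V) w = (σ : V ≃ₗ[F] V) w := fun w hw => by
      rw [hk, Subgroup.coe_mul, mul_app, hρ w (H.pr_zero_iff.1 hw)]
    have hfwd : ∀ w, H.pr b w = 0 → H.pr b ((σ : V ≃ₗ[F] V) w) = 0 := fun w hw =>
      H.pr_zero_iff.2 (map_mem_perp σ hσb (H.pr_zero_iff.1 hw))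
    refine H.mem_reflSet.2 ⟨by rw [O.map_app]; exact hQx, hfwd x hxb, k * g * k⁻¹,
      X.mul_mem (X.mul_mem hkX hg) (X.inv_mem hkX), fun v hv => ?_⟩
    set w := ((σ⁻¹ : O Q) : V ≃ₗ[F] V) v with hwdef
    have hσw : (σ : V ≃ₗ[F] V) w = v := by
      rw [hwdef, ← mul_app, ← Subgroup.coe_mul, mul_inv_cancel, OneMemClass.coe_one, one_app]
    have hw : H.pr b w = 0 := H.pr_zero_iff.2 (map_mem_perp σ⁻¹ (H.inv_maps hσb) (H.pr_zero_iff.1 hv))
    have hkv : ((k⁻¹ : O Q) : V ≃ₗ[F] V) v = w := by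
      apply (k : V ≃ₗ[F] V).injective
      rw [hkσ w hw, hσw, ← mul_app, ← Subgroup.coe_mul, mul_inv_cancel, OneMemClass.coe_one, one_app]
    have hrw : H.pr b ((rO Q x : V ≃ₗ[F] V) w) = 0 := by
      rw [rO_app, map_sub, map_smul, hw, hxb, smul_zero, sub_zero]
    rw [Subgroup.coe_mul, mul_app, Subgroup.coe_mul, mul_app, hkv, e w hw, hkσ _ hrw, ← conj_rO σ x,
      Subgroup.coe_mul, mul_app, Subgroup.coe_mul, mul_app]

variable (hL : Large Q D)
include hL

/-- An element stabilising a block without permuting all of them gives a wide member. -/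
theorem exists_member {b : Fin t} {y : O Q} (hy : y ∈ X) (hyb : ∀ v ∈ D b, (y : V ≃ₗ[F] V) v ∈ D b)
    (hyp : ¬ Perm D y) : ∃ u ∈ H.reflSet X b, 2 ≤ (H.supp u).card := by
  unfold Perm at hyp
  push Not at hyp
  obtain ⟨l, hl⟩ := hyp
  have hlb : l ≠ b := fun e => by
    obtain ⟨v, hv, hv'⟩ := hl b
    exact hv' (hyb v (e ▸ hv))
  obtain ⟨x₁, h₁, x₂, hx₂, x₃, h₃, q₁, q₂, q₃, l₁₂, l₁₃, l₂₃⟩ := H.exists_three_value hL l (one_ne_zero (α := F))
  obtain ⟨x, hx, hQx, hw⟩ : ∃ x ∈ D l, Q x = 1 ∧ ∀ j, (y : V ≃ₗ[F] V) x ∉ D j := by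
    by_contra hc
    push Not at hc
    obtain ⟨j, hj⟩ := H.three_lines h₁ hx₂ h₃ l₁₂ l₁₃ l₂₃ (g := y) (hc x₁ h₁ q₁) (hc x₂ hx₂ q₂) (hc x₃ h₃ q₃)
    obtain ⟨v, hv, hv'⟩ := hl j
    exact hv' (hj v hv)
  obtain ⟨c, hc, hQc⟩ := H98.OrthDecomp.exists_value_mem (H.nd b) (by rw [H.rk]) (1 : F)
  have hQu : Q ((y : V ≃ₗ[F] V) x) = 1 := by rw [O.map_app, hQx]
  have hub : H.pr b ((y : V ≃ₗ[F] V) x) = 0 :=
    H.pr_zero_iff.2 (map_mem_perp y hyb (H.pr_zero_iff.1 (H.pr_other hx hlb.symm)))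
  refine ⟨(y : V ≃ₗ[F] V) x, H.mem_reflSet.2 ⟨by rw [hQu]; exact one_ne_zero, hub, y * rot Q x c * y⁻¹,
    X.mul_mem (X.mul_mem hy (H.rot_mem hX hx hc (by rw [hQx]; exact one_ne_zero) (hQc.trans hQx.symm)))
      (X.inv_mem hy), fun v hv => ?_⟩, ?_⟩
  · rw [conj_rot, rot, Subgroup.coe_mul, mul_app, rO_fix (H.polar_of_pr_zero (hyb c hc) hv)]
  · by_contra hcard
    push Not at hcard
    obtain ⟨i, hi⟩ := H.exists_block_of_card
      (fun e0 => one_ne_zero (α := F) (by rw [← hQu, e0, map_zero])) (Nat.le_of_lt_succ hcard)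
    exact hw i hi

/-- If some element of `X` stabilises a block without permuting all of them then `X` contains every element
of Ω stabilising that block. -/
theorem block_stab_mem (hXc : X ≤ commutator (O Q)) {b : Fin t} {y : O Q} (hy : y ∈ X)
    (hyb : ∀ v ∈ D b, (y : V ≃ₗ[F] V) v ∈ D b) (hyp : ¬ Perm D y) {s : O Q} (hs : s ∈ commutator (O Q))
    (hsb : ∀ v ∈ D b, (s : V ≃ₗ[F] V) v ∈ D b) : s ∈ X := by
  obtain ⟨u, hu, hu2⟩ := H.exists_member hX ht hL hy hyb hyp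
  have hU : Nondeg (restr Q (perp Q (D b))) := H.nQ.nondeg_perp (H.nd b)
  have hsU : ∀ v ∈ perp Q (D b), (s : V ≃ₗ[F] V) v ∈ perp Q (D b) := fun v hv => map_mem_perp s hsb hv
  have hall : ∀ h : O (restr Q (perp Q (D b))), ∃ g ∈ X, ∀ v : perp Q (D b),
      (g : V ≃ₗ[F] V) v = ((h : perp Q (D b) ≃ₗ[F] perp Q (D b)) v : V) := by
    intro h
    have hh : h ∈ reflGroup (restr Q (perp Q (D b))) := by
      rw [reflGroup_eq_top hU (Or.inr (by have := H.finrank_perp b; omega))]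
      exact Subgroup.mem_top h
    induction hh using Subgroup.closure_induction with
    | mem h hh =>
      obtain ⟨w, rfl⟩ := hh
      by_cases hw : restr Q (perp Q (D b)) w = 0
      · exact ⟨1, X.one_mem, fun v => by rw [rO_of_singular hw]; rfl⟩
      obtain ⟨-, -, g, hg, e⟩ := H.mem_reflSet.1 ((H.rSys_reflSet hX ht b).all_mem ht hL hu hu2
        (x := (w : V)) hw (H.pr_zero_iff.2 w.2))
      refine ⟨g, hg, fun v => ?_⟩
      rw [e _ (H.pr_zero_iff.2 v.2), rO_app, rO_app, polar_restr, restr_apply, Submodule.coe_sub,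
        Submodule.coe_smul]
    | one => exact ⟨1, X.one_mem, fun v => rfl⟩
    | mul h h' _ _ ih ih' =>
      obtain ⟨g, hg, e⟩ := ih
      obtain ⟨g', hg', e'⟩ := ih'
      exact ⟨g * g', X.mul_mem hg hg', fun v => by
        rw [Subgroup.coe_mul, mul_app, e' v, e, Subgroup.coe_mul, mul_app]⟩
    | inv h _ ih =>
      obtain ⟨g, hg, e⟩ := ih
      refine ⟨g⁻¹, X.inv_mem hg, fun v => ?_⟩
      apply (g : V ≃ₗ[F] V).injective
      rw [e, ← mul_app (g : V ≃ₗ[F] V), ← Subgroup.coe_mul, mul_inv_cancel, OneMemClass.coe_one, one_app,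
        ← mul_app (h : perp Q (D b) ≃ₗ[F] perp Q (D b)), ← Subgroup.coe_mul, mul_inv_cancel, OneMemClass.coe_one,
        one_app]
  obtain ⟨g, hg, e⟩ := hall (restrictO s hsU)
  have hfix : ∀ v ∈ perp Q (D b), ((g⁻¹ * s : O Q) : V ≃ₗ[F] V) v = v := fun v hv => by
    apply (g : V ≃ₗ[F] V).injective
    rw [← mul_app, ← Subgroup.coe_mul, mul_inv_cancel_left, e ⟨v, hv⟩, restrictO_app]
  have hperm : Perm D (g⁻¹ * s) := fun i => ⟨i, fun v hv => by
    rcases eq_or_ne i b with rfl | hi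
    · have h := H98.OrthMax.perp_invariant (g⁻¹ * s) (W := perp Q (D i))
        (fun w hw => by rw [hfix w hw]; exact hw) v (by rw [H.nQ.perp_perp]; exact hv)
      rwa [H.nQ.perp_perp] at h
    · rw [hfix v fun w hw => H.orth b i hi.symm w hw v hv]; exact hv⟩
  have := X.mul_mem hg (hX _ (Subgroup.mul_mem _ (Subgroup.inv_mem _ (hXc hg)) hs) hperm)
  rwa [mul_inv_cancel_left] at this

/-- An overgroup with an element outside the stabiliser is everything. -/
theorem sieGroup_le (hXc : X ≤ commutator (O Q)) {g : O Q} (hg : g ∈ X) (hgp : ¬ Perm D g) :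
    sieGroup Q ≤ X := by
  classical
  by_cases hNW : NoStab D X
  · exact absurd (H.perm_of_noStab hX hNW hL ht hg) hgp
  unfold NoStab at hNW
  push Not at hNW
  obtain ⟨y, hy, ⟨b, hyb⟩, hyp⟩ := hNW
  obtain ⟨j, hjb⟩ : ∃ j, j ≠ b := by
    obtain ⟨j, -, hj⟩ := Finset.exists_mem_notMem_of_card_lt_card (s := ({b} : Finset (Fin t))) (t := Finset.univ)
      (by rw [Finset.card_singleton, Finset.card_univ, Fintype.card_fin]; omega)
    exact ⟨j, fun e => hj (Finset.mem_singleton.2 e)⟩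
  obtain ⟨π, hπ, -, hπb⟩ := H.exists_perm_to hX ht j b
  obtain ⟨v, hv, hv0⟩ := (Submodule.ne_bot_iff _).1 (H.pos b)
  have hπv : (π : V ≃ₗ[F] V) v ∉ D b := fun h =>
    hjb (H.eq_of_mem_mem (fun e => hv0 ((π : V ≃ₗ[F] V).map_eq_zero_iff.1 e)) (hπb v hv) h)
  have hd := H.finrank_perp b
  refine H97.OmegaEight.sieGroup_le_of_plane H.nQ (by rw [H.finrank_eq]; omega) (H.nd b) (by omega)
    (fun h => absurd h (by omega))
    (H97.OmegaEight.hasSingularPlane_of_five (H.nQ.nondeg_perp (H.nd b)) (by omega)) ?_ ?_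
    (fun s hs hsb => H.block_stab_mem hX ht hL hXc hy hyb hyp hs hsb) ⟨π, hπ, v, hv, hπv⟩
  · intro p hp r hr hQp hQr hpr hp0
    obtain ⟨f, hf, hQf, hpf, -, hco⟩ := exists_hyperbolic (H.nd b) (H.rk b) hp hp0 hQp
    obtain ⟨s, u, rfl⟩ := hco r hr
    rw [polar_add_right, polar_smul_right', polar_smul_right', polar_self', hQp, hpf, mul_zero, mul_zero,
      zero_add, mul_one] at hpr
    rw [hpr, zero_smul, add_zero]
    exact Submodule.smul_mem _ _ (Submodule.mem_span_singleton_self p)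
  · rintro - ⟨x, hx, hx0, hQx⟩
    rcases hL with h | h
    · exact absurd (h.1 b x hx hQx) hx0
    · omega

end PDec

end Abstract

universe u₀

variable {F : Type u₀} [Field F] [Fintype F] {ι : Type} [Fintype ι] [DecidableEq ι]
  {Q : QuadraticForm F (ι → F)} {t : ℕ} {D : Fin t → Submodule F (ι → F)}

theorem PDec.mem_stabilizer (H : PDec Q D) (x : O Q) (h : Perm D x) :
    H96.om Q x ∈ Cfsg.Geo.decompositionStabilizer D := by
  choose τ hτ using h
  have hmap : ∀ i, (D i).map ((x : (ι → F) ≃ₗ[F] (ι → F)) : (ι → F) →ₗ[F] (ι → F)) = D (τ i) := fun i =>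
    Submodule.eq_of_le_of_finrank_eq (by rintro _ ⟨v, hv, rfl⟩; exact hτ i v hv)
      (by rw [LinearEquiv.finrank_map_eq, H.rk, H.rk])
  have hinj : Function.Injective τ := fun i j e => by
    by_contra hne
    have hm : D i = D j := Submodule.map_injective_of_injective
      (x : (ι → F) ≃ₗ[F] (ι → F)).injective ((hmap i).trans ((congrArg D e).trans (hmap j).symm))
    obtain ⟨v, hv, hv0⟩ := (Submodule.ne_bot_iff _).1 (H.pos i)
    exact hv0 ((H.pr_self hv).symm.trans (H.pr_other (hm ▸ hv) hne))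
  refine ⟨Equiv.ofBijective τ (Finite.injective_iff_bijective.1 hinj), fun i => ?_⟩
  rw [H96.om_toLin']
  exact hmap i

theorem perm_of_mem_stabilizer {x : O Q} (h : H96.om Q x ∈ Cfsg.Geo.decompositionStabilizer D) : Perm D x := by
  obtain ⟨σ, hσ⟩ := h
  refine fun i => ⟨σ i, fun v hv => ?_⟩
  rw [← hσ i, H96.om_toLin']
  exact Submodule.mem_map_of_mem hv

/-- Maximality for at least five planes. -/
theorem isMaximalIn_planes (H : PDec Q D) (ht : 5 ≤ t) (hL : Large Q D) :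
    Cfsg.Geo.IsMaximalIn (Cfsg.Geo.omegaGL ⇑Q) (Cfsg.Geo.decompositionStabilizer D ⊓ Cfsg.Geo.omegaGL ⇑Q) := by
  refine H57.ExtOrth.isMaximalIn_omega_le H.nQ (by rw [H.finrank_eq]; omega) _ ?_
    fun X hXc hXS ⟨g, hgX, hgS⟩ => ?_
  · obtain ⟨x, hx, hxp⟩ := H.exists_not_perm ht
    exact ⟨x, hx, fun h => hxp (perm_of_mem_stabilizer h)⟩
  exact H.sieGroup_le (fun s hs hp => hXS s hs (H.mem_stabilizer s hp)) ht hL hXc hgX
    fun hp => hgS (H.mem_stabilizer g hp)

end Cfsg.Agent.H72.OrthPlanes
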