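import Cfsg.Agent.H72.OrthPlanes.Sums
import Cfsg.Agent.H98.OrthDecomp.Reduce

/-!
Decompositions into nondegenerate planes: projections, isometries permuting the planes, and their elements with
two-dimensional residual space.
-/

set_option autoImplicit false

namespace Cfsg.Agent.H72.OrthPlanes

open QuadraticMap Module Cfsg.Agent.Orthogonal

variable {F V : Type*} [Field F] [AddCommGroup V] [Module F V]

theorem qmap_sum_ortho {ι : Type*} (Q : QuadraticForm F V) (s : Finset ι) (f : ι → V)
    (h : ∀ i ∈ s, ∀ j ∈ s, i ≠ j → polar Q (f i) (f j) = 0) : Q (∑ i ∈ s, f i) = ∑ i ∈ s, Q (f i) := by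
  classical
  induction s using Finset.induction_on with
  | empty => simp
  | @insert a s ha ih =>
    have h0 : polar Q (f a) (∑ i ∈ s, f i) = 0 := by
      rw [← polarBilin_apply', map_sum]
      exact Finset.sum_eq_zero fun j hj => h a (Finset.mem_insert_self a s) j (Finset.mem_insert_of_mem hj)
        fun e => ha (e ▸ hj)
    rw [Finset.sum_insert ha, Finset.sum_insert ha, map_add_polar, h0, add_zero,
      ih fun i hi j hj => h i (Finset.mem_insert_of_mem hi) j (Finset.mem_insert_of_mem hj)]

/-- An isometry stabilising a plane and fixing one of its nonzero vectors squares to the identity there. -/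
theorem sq_fix_of_fix [FiniteDimensional F V] {Q : QuadraticForm F V} {W : Submodule F V}
    (hW : Nondeg (restr Q W)) (h2 : finrank F W = 2) (g : O Q)
    (hg : ∀ x ∈ W, (g : V ≃ₗ[F] V) x ∈ W) {w : V} (hw : w ∈ W) (hw0 : w ≠ 0) (hgw : (g : V ≃ₗ[F] V) w = w)
    {y : V} (hy : y ∈ W) : (g : V ≃ₗ[F] V) ((g : V ≃ₗ[F] V) y) = y := by
  set G := (g : V ≃ₗ[F] V) with hG
  obtain ⟨⟨v, hv⟩, hv0, hwv⟩ := hW.exists_perp_vec h2 (v := ⟨w, hw⟩) fun h => hw0 (congrArg Subtype.val h)
  rw [polar_restr] at hwv
  replace hwv : polar Q w v = 0 := hwv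
  replace hv0 : v ≠ 0 := fun h => hv0 (Subtype.ext h)
  have hline : ∀ x ∈ W, polar Q w x = 0 → ∃ c : F, x = c • v := by
    intro x hx hwx
    by_contra hc
    push Not at hc
    exact hw0 (eq_zero_of_polar_pair hW h2 hv hx (linearIndependent_of_not_smul hv0 hc) hw
      (by rw [polar_comm]; exact hwv) (by rw [polar_comm]; exact hwx))
  have hfixline : ∀ x ∈ W, polar Q w x = 0 → polar Q w (G x) = 0 := fun x _ hwx => by
    rw [← hgw, hG, O.polar_app, hwx]
  obtain ⟨l, hl⟩ := hline (G v) (hg v hv) (hfixline v hv hwv)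
  obtain ⟨c, hc⟩ := hline (G y - y) (W.sub_mem (hg y hy) hy) (by
    rw [polar_sub_right]
    nth_rw 1 [← hgw]
    rw [hG, O.polar_app, sub_self])
  have hgy : G y = y + c • v := by rw [← hc, add_sub_cancel]
  have hkey : c * (1 + l) = 0 := by
    have hQv := O.map_app g v
    rw [← hG, hl, qmap_smul] at hQv
    have hQy := O.map_app g y
    rw [← hG, hgy, map_add_polar, qmap_smul, polar_smul_right'] at hQy
    by_cases hvw : ∀ d : F, w ≠ d • v
    · have hQv0 : Q v ≠ 0 := fun h0 => hv0 (eq_zero_of_polar_pair hW h2 hv hw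
        (linearIndependent_of_not_smul hv0 hvw) hv (by rw [polar_self', h0, mul_zero]) hwv)
      have h1 : (l - 1) * (l + 1) = 0 := mul_right_cancel₀ hQv0 (by rw [zero_mul]; linear_combination hQv)
      rcases mul_eq_zero.1 h1 with h | h
      · by_cases hc0 : c = 0
        · rw [hc0, zero_mul]
        refine absurd ?_ hc0
        obtain ⟨s, u, hs⟩ := mem_span_pair_of_li h2 hv hw (linearIndependent_of_not_smul hv0 hvw) hy
        have : G y = y := by
          rw [hs, map_add, map_smul, map_smul, hl, hgw, sub_eq_zero.1 h, one_smul]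
        rw [this, eq_comm, add_eq_left, smul_eq_zero] at hgy
        exact hgy.resolve_right hv0
      · rw [show 1 + l = 0 by linear_combination h, mul_zero]
    · push Not at hvw
      obtain ⟨d, hd⟩ := hvw
      have hd0 : d ≠ 0 := fun h => hw0 (by rw [hd, h, zero_smul])
      have hl1 : l = 1 := by
        rw [hd, map_smul, hl, smul_smul] at hgw
        have := smul_left_injective F hv0 hgw
        exact mul_left_cancel₀ hd0 (by rw [mul_one]; exact this)
      by_cases hQv0 : Q v = 0
      · have hyv : polar Q y v ≠ 0 ∨ c = 0 := by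
          by_contra h
          push Not at h
          have hpy : polar Q w y = 0 := by rw [hd, polar_smul_left', polar_comm, h.1, mul_zero]
          obtain ⟨e, rfl⟩ := hline y hy hpy
          rw [map_smul, hl, hl1, one_smul, eq_comm, add_eq_left, smul_eq_zero] at hgy
          exact h.2 (hgy.resolve_right hv0)
        rcases hyv with hyv | hc0
        · have : c * polar Q y v = 0 := by rw [hQv0] at hQy; linear_combination hQy
          rw [(mul_eq_zero.1 this).resolve_right hyv, zero_mul]
        · rw [hc0, zero_mul]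
      · rw [hd, polar_smul_left', polar_self', mul_eq_zero, mul_eq_zero] at hwv
        have h20 : (2 : F) = 0 := (hwv.resolve_left hd0).resolve_right hQv0
        rw [hl1]; linear_combination c * h20
  rw [hgy, map_add, map_smul, hgy, hl, smul_smul, add_assoc, ← add_smul,
    show c + c * l = 0 by linear_combination hkey, zero_smul, add_zero]

/-- An orthogonal decomposition into isometric nondegenerate planes. -/
structure PDec (Q : QuadraticForm F V) {t : ℕ} (D : Fin t → Submodule F V) : Prop where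
  rk : ∀ i, finrank F (D i) = 2
  nd : ∀ i, Nondeg (F := F) (V := D i) (restr Q (D i))
  orth : ∀ i j, i ≠ j → ∀ x ∈ D i, ∀ y ∈ D j, polar Q x y = 0
  isom : ∀ i j, ∃ e : D i ≃ₗ[F] D j, ∀ w, Q ((e w : D j) : V) = Q (w : V)
  top : iSup D = ⊤
  nQ : Nondeg Q

variable {Q : QuadraticForm F V} {t : ℕ} {D : Fin t → Submodule F V}

/-- The element maps every block into a block. -/
def Perm (D : Fin t → Submodule F V) (g : O Q) : Prop := ∀ i, ∃ j, ∀ v ∈ D i, (g : V ≃ₗ[F] V) v ∈ D j

/-- `X` contains the elements of Ω permuting the blocks. -/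
def Over (D : Fin t → Submodule F V) (X : Subgroup (O Q)) : Prop := ∀ s ∈ commutator (O Q), Perm D s → s ∈ X

theorem Perm.mul {g h : O Q} (hg : Perm D g) (hh : Perm D h) : Perm D (g * h) := fun i => by
  obtain ⟨j, hj⟩ := hh i
  obtain ⟨k, hk⟩ := hg j
  exact ⟨k, fun v hv => by rw [Subgroup.coe_mul, mul_app]; exact hk _ (hj v hv)⟩

namespace PDec

variable [FiniteDimensional F V] (H : PDec Q D)
include H

omit [FiniteDimensional F V] in
theorem pos (i : Fin t) : D i ≠ ⊥ := fun e => by
  have := H.rk i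
  rw [e, finrank_bot] at this
  omega

/-- The orthogonal projection onto a block. -/
noncomputable def pr (i : Fin t) : V →ₗ[F] V := (D i).projection (perp Q (D i)) (H.nQ.isCompl_perp (H.nd i))

theorem pr_mem (i : Fin t) (x : V) : H.pr i x ∈ D i := Submodule.projection_apply_mem _ x

theorem pr_self {i : Fin t} {x : V} (hx : x ∈ D i) : H.pr i x = x := Submodule.projection_apply_of_mem_left _ hx

theorem polar_sub_pr {i : Fin t} {y : V} (hy : y ∈ D i) (x : V) : polar Q y (x - H.pr i x) = 0 := by
  have h : x - H.pr i x ∈ perp Q (D i) := by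
    refine (Submodule.projection_apply_eq_zero_iff (H.nQ.isCompl_perp (H.nd i))).1 ?_
    show H.pr i (x - H.pr i x) = 0
    rw [map_sub, H.pr_self (H.pr_mem i x), sub_self]
  exact h y hy

theorem polar_pr {i : Fin t} {y : V} (hy : y ∈ D i) (x : V) : polar Q y (H.pr i x) = polar Q y x := by
  have := H.polar_sub_pr hy x
  rw [polar_sub_right, sub_eq_zero] at this
  exact this.symm

theorem pr_of_perp {i : Fin t} {x : V} (h : ∀ y ∈ D i, polar Q y x = 0) : H.pr i x = 0 :=
  (Submodule.projection_apply_eq_zero_iff (H.nQ.isCompl_perp (H.nd i))).2 h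

theorem pr_other {i j : Fin t} {x : V} (hx : x ∈ D j) (hij : i ≠ j) : H.pr i x = 0 :=
  H.pr_of_perp fun y hy => H.orth i j hij y hy x hx

theorem polar_of_pr_zero {i : Fin t} {y : V} (hy : y ∈ D i) {x : V} (h : H.pr i x = 0) : polar Q y x = 0 := by
  rw [← H.polar_pr hy, h, polar_zero_right]

theorem sum_pr (x : V) : ∑ i, H.pr i x = x := by
  refine H.nQ.eq_of_polar fun z => ?_
  have hz : z ∈ iSup D := H.top ▸ Submodule.mem_top
  induction hz using Submodule.iSup_induction' with
  | mem i y hy =>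
    rw [polar_comm (⇑Q), polar_comm (⇑Q) x, ← polarBilin_apply', map_sum, Finset.sum_eq_single i]
    · rw [polarBilin_apply']; exact H.polar_pr hy x
    · intro j _ hji
      rw [polarBilin_apply']
      exact H.orth i j hji.symm y hy _ (H.pr_mem j x)
    · exact fun h => absurd (Finset.mem_univ i) h
  | zero => rw [polar_zero_right, polar_zero_right]
  | add p r _ _ hp hr => rw [polar_add_right, polar_add_right, hp, hr]

theorem ext_pr {x y : V} (h : ∀ i, H.pr i x = H.pr i y) : x = y := by
  rw [← H.sum_pr x, ← H.sum_pr y, Finset.sum_congr rfl fun i _ => h i]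

theorem polar_sum (x y : V) : polar Q x y = ∑ i, polar Q (H.pr i x) (H.pr i y) := by
  conv_lhs => rw [← H.sum_pr y, ← polarBilin_apply', map_sum]
  refine Finset.sum_congr rfl fun i _ => ?_
  rw [polarBilin_apply', polar_comm, polar_comm (⇑Q) (H.pr i x), H.polar_pr (H.pr_mem i y)]

theorem q_sum (x : V) : Q x = ∑ i, Q (H.pr i x) := by
  conv_lhs => rw [← H.sum_pr x]
  exact qmap_sum_ortho Q _ _ fun i _ j _ hij => H.orth i j hij _ (H.pr_mem i x) _ (H.pr_mem j x)

/-- The support of a vector. -/
noncomputable def supp (x : V) : Finset (Fin t) :=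
  haveI := Classical.decPred fun i => H.pr i x ≠ 0
  Finset.univ.filter fun i => H.pr i x ≠ 0

theorem mem_supp {x : V} {i : Fin t} : i ∈ H.supp x ↔ H.pr i x ≠ 0 := by simp [supp]

theorem pr_zero_of_not_mem {x : V} {i : Fin t} (h : i ∉ H.supp x) : H.pr i x = 0 := by
  by_contra hc
  exact h (H.mem_supp.2 hc)

theorem q_sum_supp (x : V) {S : Finset (Fin t)} (hS : ∀ i ∉ S, H.pr i x = 0) :
    Q x = ∑ i ∈ S, Q (H.pr i x) := by
  rw [H.q_sum x]
  exact (Finset.sum_subset (Finset.subset_univ S) fun i _ hi => by rw [hS i hi, map_zero]).symm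

theorem polar_sum_supp (x y : V) {S : Finset (Fin t)} (hS : ∀ i ∉ S, H.pr i x = 0 ∨ H.pr i y = 0) :
    polar Q x y = ∑ i ∈ S, polar Q (H.pr i x) (H.pr i y) := by
  rw [H.polar_sum x y]
  refine (Finset.sum_subset (Finset.subset_univ S) fun i _ hi => ?_).symm
  rcases hS i hi with h | h
  · rw [h, polar_zero_left]
  · rw [h, polar_zero_right]

theorem mem_block_of_supp {x : V} {i : Fin t} (h : ∀ j, j ≠ i → H.pr j x = 0) : x ∈ D i := by
  have : x = H.pr i x := H.ext_pr fun j => by
    rcases eq_or_ne j i with rfl | hj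
    · rw [H.pr_self (H.pr_mem j x)]
    · rw [h j hj, H.pr_other (H.pr_mem i x) hj]
  rw [this]; exact H.pr_mem i x

theorem eq_of_mem_mem {x : V} {i j : Fin t} (hx : x ≠ 0) (hi : x ∈ D i) (hj : x ∈ D j) : i = j := by
  by_contra h
  exact hx ((H.pr_self hi).symm.trans (H.pr_other hj h))

/-- An element mapping each block into itself commutes with the projections. -/
theorem pr_app_of_stab {g : O Q} (hg : ∀ i, ∀ v ∈ D i, (g : V ≃ₗ[F] V) v ∈ D i) (i : Fin t) (x : V) :
    H.pr i ((g : V ≃ₗ[F] V) x) = (g : V ≃ₗ[F] V) (H.pr i x) := by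
  conv_lhs => rw [← H.sum_pr x, map_sum, map_sum]
  rw [Finset.sum_eq_single i]
  · exact H.pr_self (hg i _ (H.pr_mem i x))
  · exact fun j _ hji => H.pr_other (hg j _ (H.pr_mem j x)) hji.symm
  · exact fun h => absurd (Finset.mem_univ i) h

omit [FiniteDimensional F V] in
theorem rO_block {i j : Fin t} {c : V} (hc : c ∈ D j) {v : V} (hv : v ∈ D i) :
    (rO Q c : V ≃ₗ[F] V) v ∈ D i := by
  rcases eq_or_ne j i with rfl | hne
  · rw [rO_app]; exact (D j).sub_mem hv ((D j).smul_mem _ hc)
  · rw [rO_fix (H.orth j i hne c hc v hv)]; exact hv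

omit [FiniteDimensional F V] in
theorem perm_rO {j : Fin t} {c : V} (hc : c ∈ D j) : Perm D (rO Q c) := fun i => ⟨i, fun _ hv => H.rO_block hc hv⟩

omit [FiniteDimensional F V] in
theorem rot_block {i j : Fin t} {a b : V} (ha : a ∈ D j) (hb : b ∈ D j) {v : V} (hv : v ∈ D i) :
    (rot Q a b : V ≃ₗ[F] V) v ∈ D i := by
  rw [rot, Subgroup.coe_mul, mul_app]
  exact H.rO_block ha (H.rO_block hb hv)

theorem pr_rot {j : Fin t} {a b : V} (ha : a ∈ D j) (hb : b ∈ D j) (i : Fin t) (x : V) :
    H.pr i ((rot Q a b : V ≃ₗ[F] V) x) = (rot Q a b : V ≃ₗ[F] V) (H.pr i x) :=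
  H.pr_app_of_stab (fun _ _ hv => H.rot_block ha hb hv) i x

omit [FiniteDimensional F V] in
theorem rot_fix_block {i j : Fin t} {a b : V} (ha : a ∈ D j) (hb : b ∈ D j) (hij : i ≠ j) {v : V} (hv : v ∈ D i) :
    (rot Q a b : V ≃ₗ[F] V) v = v :=
  rot_fix (H.orth j i hij.symm a ha v hv) (H.orth j i hij.symm b hb v hv)

/-- A reflection permuting the blocks has its vector in a block. -/
theorem exists_block_of_perm_rO {u : V} (hu : Q u ≠ 0) (h : Perm D (rO Q u)) : ∃ i, u ∈ D i := by
  have hu0 : u ≠ 0 := fun e => hu (by rw [e, map_zero])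
  obtain ⟨i, hi⟩ : ∃ i, ∃ v ∈ D i, polar Q u v ≠ 0 := by
    by_contra hc
    push Not at hc
    refine hu0 (H.ext_pr fun i => ?_)
    rw [map_zero]
    exact H.pr_of_perp fun y hy => by rw [polar_comm]; exact hc i y hy
  obtain ⟨v, hv, huv⟩ := hi
  obtain ⟨j, hj⟩ := h i
  -- a vector of the block fixed by the reflection
  obtain ⟨x, hx, hx0, hux⟩ : ∃ x ∈ D i, x ≠ 0 ∧ polar Q u x = 0 := by
    obtain ⟨w, hw, hwv⟩ : ∃ w ∈ D i, ∀ c : F, w ≠ c • v := by
      by_contra hc
      push Not at hc
      have := Submodule.finrank_mono (show D i ≤ Submodule.span F {v} from fun w hw => by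
        obtain ⟨c, rfl⟩ := hc w hw
        exact Submodule.smul_mem _ c (Submodule.mem_span_singleton_self v))
      rw [H.rk, finrank_span_singleton (fun e => huv (by rw [e, polar_zero_right]))] at this
      omega
    refine ⟨polar Q u v • w - polar Q u w • v, (D i).sub_mem ((D i).smul_mem _ hw) ((D i).smul_mem _ hv),
      fun e => ?_, by rw [polar_sub_right, polar_smul_right', polar_smul_right']; ring⟩
    refine hwv ((polar Q u v)⁻¹ * polar Q u w) ?_
    rw [mul_smul, ← sub_eq_zero.1 e, inv_smul_smul₀ huv]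
  have hji : j = i := H.eq_of_mem_mem hx0 (by simpa [rO_fix hux] using hj x hx) hx
  subst hji
  refine ⟨j, ?_⟩
  have h1 := (D j).sub_mem hv (hj v hv)
  rw [rO_app, sub_sub_cancel] at h1
  exact (Submodule.smul_mem_iff _ (mul_ne_zero (inv_ne_zero hu) huv)).1 h1

/-- The support of a vector spanning the residual space of a permuting element is small. -/
theorem residual_cases {a b : V} (hab : LinearIndependent F ![a, b]) (hQa : Q a ≠ 0) (hQb : Q b ≠ 0)
    (hp : Perm D (rot Q a b)) :
    (∃ i j, ∀ l, l ≠ i → l ≠ j → H.pr l a = 0 ∧ H.pr l b = 0) ∧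
      ((rot Q a b * rot Q a b : O Q) ≠ 1 → ∃ i, a ∈ D i ∧ b ∈ D i) := by
  set g := rot Q a b with hg
  set G := (g : V ≃ₗ[F] V) with hG
  have hres : ∀ x, G x - x ∈ Submodule.span F {a, b} := fun x => by
    rw [hG, hg, rot_app, show ∀ p q r : V, p - q - r - p = -(q + r) from fun p q r => by abel]
    exact Submodule.neg_mem _ (Submodule.add_mem _ (Submodule.smul_mem _ _ (Submodule.subset_span (by simp)))
      (Submodule.smul_mem _ _ (Submodule.subset_span (by simp))))
  have hdim : finrank F (Submodule.span F ({a, b} : Set V)) = 2 := by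
    have h := finrank_span_eq_card hab
    rwa [Matrix.range_cons, Matrix.range_cons, Matrix.range_empty, Set.union_empty, Set.singleton_union,
      Fintype.card_fin] at h
  -- both vectors are residual
  have hsurj : ∀ c d : F, ∃ x, polar Q a x = c ∧ polar Q b x = d := by
    let φ : V →ₗ[F] F × F := (Q.polarBilin a).prod (Q.polarBilin b)
    have hker : LinearMap.ker φ = perp Q (Submodule.span F {a, b}) := by
      ext x
      rw [LinearMap.mem_ker, mem_perp_span_pair]
      exact Prod.ext_iff
    have hr : LinearMap.range φ = ⊤ := by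
      refine Submodule.eq_top_of_finrank_eq ?_
      have h1 := φ.finrank_range_add_finrank_ker
      have h3 := H.nQ.finrank_add_perp (Submodule.span F ({a, b} : Set V))
      rw [hker] at h1
      rw [hdim] at h3
      rw [finrank_prod, finrank_self]
      omega
    intro c d
    obtain ⟨x, hx⟩ := LinearMap.range_eq_top.1 hr (c, d)
    exact ⟨x, congrArg Prod.fst hx, congrArg Prod.snd hx⟩
  have hran : ∀ z ∈ Submodule.span F ({a, b} : Set V), ∃ x, G x - x = z := by
    intro z hz
    obtain ⟨p, r, rfl⟩ := Submodule.mem_span_pair.1 hz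
    obtain ⟨x, hx1, hx2⟩ := hsurj (-(p * Q a) + -r * polar Q a b) (-(r * Q b))
    refine ⟨x, ?_⟩
    rw [hG, hg, rot_app, hx1, hx2, show ∀ p q r : V, p - q - r - p = -(q + r) from fun p q r => by abel]
    match_scalars <;> field_simp <;> ring
  by_cases hmove : ∃ i j, i ≠ j ∧ ∀ v ∈ D i, G v ∈ D j
  · obtain ⟨i, j, hij, hj⟩ := hmove
    let L : V →ₗ[F] V := (G : V →ₗ[F] V) - LinearMap.id
    have hL : ∀ x, L x = G x - x := fun x => rfl
    have himg : (D i).map L = Submodule.span F {a, b} := by
      refine Submodule.eq_of_le_of_finrank_le (by rintro _ ⟨v, -, rfl⟩; exact hres v) ?_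
      rw [hdim, ← H.rk i]
      refine LinearMap.finrank_le_finrank_of_injective (f := L.submoduleMap (D i)) fun x y hxy => ?_
      have h1 := congrArg Subtype.val hxy
      rw [LinearMap.submoduleMap_coe_apply, LinearMap.submoduleMap_coe_apply, hL, hL] at h1
      have h3 := congrArg (H.pr i) h1
      rw [map_sub, map_sub, H.pr_other (hj x x.2) hij, H.pr_other (hj y y.2) hij, H.pr_self x.2,
        H.pr_self y.2, zero_sub, zero_sub, neg_inj] at h3
      exact Subtype.ext h3
    have hmem : ∀ z ∈ Submodule.span F ({a, b} : Set V), ∃ x ∈ D i, G x - x = z := fun z hz => by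
      obtain ⟨x, hx, e⟩ := himg.symm ▸ hz
      exact ⟨x, hx, e⟩
    have hsup : ∀ z ∈ Submodule.span F ({a, b} : Set V), ∀ l, l ≠ i → l ≠ j → H.pr l z = 0 := by
      intro z hz l hli hlj
      obtain ⟨x, hx, rfl⟩ := hmem z hz
      rw [map_sub, H.pr_other (hj x hx) hlj, H.pr_other hx hli, sub_zero]
    refine ⟨⟨i, j, fun l hli hlj => ⟨hsup a (Submodule.subset_span (by simp)) l hli hlj,
      hsup b (Submodule.subset_span (by simp)) l hli hlj⟩⟩, fun hne => absurd ?_ hne⟩
    -- it is an involution
    have hinv : ∀ x ∈ D i, G (G x) = x := by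
      intro x hx
      obtain ⟨k, hk⟩ := hp j
      rcases eq_or_ne x 0 with rfl | hx0
      · simp
      have hy := hj x hx
      obtain ⟨x', hx', e⟩ := hmem _ (hres (G x))
      have hki : k = i := by
        by_contra hki
        have h3 := congrArg (H.pr i) e
        rw [map_sub, map_sub, H.pr_other (hk _ hy) (Ne.symm hki), H.pr_other hy hij, sub_self,
          H.pr_other (hj x' hx') hij, H.pr_self hx', zero_sub, neg_eq_zero] at h3
        subst h3
        rw [map_zero, sub_self, eq_comm, sub_eq_zero] at e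
        exact hx0 (H.ext_pr fun l => by
          have := G.injective e
          rcases eq_or_ne l i with rfl | hl
          · rw [map_zero, ← this, H.pr_other hy hij]
          · rw [map_zero, H.pr_other hx hl])
      subst hki
      have h3 := congrArg (H.pr k) e
      rw [map_sub, map_sub, H.pr_self (hk _ hy), H.pr_other hy hij, sub_zero,
        H.pr_other (hj x' hx') hij, H.pr_self hx', zero_sub] at h3
      have h4 := congrArg (H.pr j) e
      rw [map_sub, map_sub, H.pr_self (hj x' hx'), H.pr_other hx' hij.symm, sub_zero, H.pr_self hy,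
        H.pr_other (hk _ hy) hij.symm, zero_sub] at h4
      have h5 : x' = -x := G.injective (by rw [map_neg]; exact h4)
      rw [← h3, h5, neg_neg]
    have hfix : ∀ l, l ≠ i → l ≠ j → ∀ x ∈ D l, G x = x := by
      intro l hli hlj x hx
      obtain ⟨m, hm⟩ := hp l
      have h1 := hsup _ (hres x) l hli hlj
      rw [map_sub, H.pr_self hx, sub_eq_zero] at h1
      rcases eq_or_ne l m with rfl | hlm
      · exact (H.pr_self (hm x hx)).symm.trans h1
      · rw [H.pr_other (hm x hx) hlm] at h1
        rw [← h1, map_zero]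
    have hall : ∀ l, ∀ x ∈ D l, G (G x) = x := by
      intro l x hx
      rcases eq_or_ne l i with rfl | hli
      · exact hinv x hx
      rcases eq_or_ne l j with rfl | hlj
      · obtain ⟨x', hx', e⟩ : ∃ x' ∈ D i, G x' = x := by
          have hmap : (D i).map (G : V →ₗ[F] V) = D l := Submodule.eq_of_le_of_finrank_eq
            (by rintro _ ⟨v, hv, rfl⟩; exact hj v hv) (by rw [LinearEquiv.finrank_map_eq, H.rk, H.rk])
          obtain ⟨x', hx', e⟩ := hmap.symm ▸ hx
          exact ⟨x', hx', e⟩
        rw [← e, hinv x' hx']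
      · rw [hfix l hli hlj x hx, hfix l hli hlj x hx]
    refine O.ext_app fun x => ?_
    rw [Subgroup.coe_mul, mul_app, OneMemClass.coe_one, one_app]
    conv_lhs => rw [← H.sum_pr x]
    rw [← hG, map_sum, map_sum, Finset.sum_congr rfl fun l _ => hall l _ (H.pr_mem l x), H.sum_pr]
  · push Not at hmove
    have hst : ∀ i, ∀ v ∈ D i, G v ∈ D i := fun i v hv => by
      obtain ⟨j, hj⟩ := hp i
      rcases eq_or_ne i j with rfl | hij
      · exact hj v hv
      · obtain ⟨w, hw, hw'⟩ := hmove i j hij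
        exact absurd (hj w hw) hw'
    classical
    let M := Finset.univ.filter fun l => ∃ v ∈ D l, G v ≠ v
    have hM : ∀ l, l ∈ M ↔ ∃ v ∈ D l, G v ≠ v := fun l => by simp [M]
    choose v hv hvne using fun l : M => (hM l.1).1 l.2
    have hli : LinearIndependent F fun l : M => (⟨G (v l) - v l, hres _⟩ :
        Submodule.span F ({a, b} : Set V)) := by
      refine Fintype.linearIndependent_iff.2 fun c hc l => ?_
      have h1 := congrArg (H.pr l.1) (congrArg Subtype.val hc)
      simp only [Submodule.coe_sum, Submodule.coe_smul, ZeroMemClass.coe_zero, map_sum, map_smul, map_zero]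
        at h1
      rw [Finset.sum_eq_single l] at h1
      · rw [H.pr_self ((D l.1).sub_mem (hst _ _ (hv l)) (hv l)), smul_eq_zero] at h1
        exact h1.resolve_right (sub_ne_zero.2 (hvne l))
      · intro m _ hml
        rw [H.pr_other ((D m.1).sub_mem (hst _ _ (hv m)) (hv m)) (fun e => hml (Subtype.ext e.symm)), smul_zero]
      · exact fun h => absurd (Finset.mem_univ l) h
    have hcard : M.card ≤ 2 := by
      have := hli.fintype_card_le_finrank
      rwa [Fintype.card_coe, hdim] at this
    have hprzero : ∀ l ∉ M, ∀ z ∈ Submodule.span F ({a, b} : Set V), H.pr l z = 0 := by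
      intro l hl z hz
      obtain ⟨x, rfl⟩ := hran z hz
      have hl' : ∀ v ∈ D l, G v = v := fun w hw => by
        by_contra h
        exact hl ((hM l).2 ⟨w, hw, h⟩)
      rw [map_sub, hG, H.pr_app_of_stab hst, hl' _ (H.pr_mem l x), sub_self]
    have hMne : M.Nonempty := by
      by_contra hc
      rw [Finset.not_nonempty_iff_eq_empty] at hc
      obtain ⟨x, hx⟩ := hran a (Submodule.subset_span (by simp))
      refine hQa ?_
      rw [show a = 0 from H.ext_pr fun l => by
        rw [map_zero]; exact hprzero l (by rw [hc]; simp) a (Submodule.subset_span (by simp)), map_zero]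
    obtain ⟨i, hi⟩ := hMne
    obtain ⟨j, hjM, hM2⟩ : ∃ j ∈ M, ∀ l ∈ M, l = i ∨ l = j := by
      by_cases h : ∃ j ∈ M, j ≠ i
      · obtain ⟨j, hj, hji⟩ := h
        refine ⟨j, hj, fun l hl => ?_⟩
        by_contra hc
        push Not at hc
        have := Finset.card_le_card (show {l, i, j} ⊆ M by simp [Finset.insert_subset_iff, hl, hi, hj])
        rw [Finset.card_insert_of_notMem (by simp [hc.1, hc.2]), Finset.card_insert_of_notMem (by simp [hji.symm]),
          Finset.card_singleton] at this
        omega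
      · push Not at h
        exact ⟨i, hi, fun l hl => Or.inl (h l hl)⟩
    have hsup : ∀ l, l ≠ i → l ≠ j → l ∉ M := fun l h1 h3 hl => by
      rcases hM2 l hl with h | h <;> contradiction
    refine ⟨⟨i, j, fun l h1 h3 => ⟨hprzero l (hsup l h1 h3) a (Submodule.subset_span (by simp)),
      hprzero l (hsup l h1 h3) b (Submodule.subset_span (by simp))⟩⟩, fun hne => ?_⟩
    rcases eq_or_ne i j with rfl | hij
    · exact ⟨i, H.mem_block_of_supp fun l hl => hprzero l (hsup l hl hl) a (Submodule.subset_span (by simp)),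
        H.mem_block_of_supp fun l hl => hprzero l (hsup l hl hl) b (Submodule.subset_span (by simp))⟩
    refine absurd (O.ext_app fun x => ?_) hne
    rw [Subgroup.coe_mul, mul_app, OneMemClass.coe_one, one_app, ← hG]
    refine H.ext_pr fun l => ?_
    rw [hG, H.pr_app_of_stab hst, H.pr_app_of_stab hst, ← hG]
    by_cases hlM : l ∈ M
    swap
    · have : ∀ w ∈ D l, G w = w := fun w hw => by
        by_contra h
        exact hlM ((hM l).2 ⟨w, hw, h⟩)
      rw [this _ (H.pr_mem l x), this _ (H.pr_mem l x)]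
    -- each of two moved blocks has a fixed vector
    obtain ⟨m, hmM, hml⟩ : ∃ m ∈ M, m ≠ l := by
      rcases hM2 l hlM with rfl | rfl
      · exact ⟨j, hjM, hij.symm⟩
      · exact ⟨i, hi, hij⟩
    obtain ⟨w, hw, hw0, hgw⟩ : ∃ w ∈ D l, w ≠ 0 ∧ G w = w := by
      by_contra hc
      push Not at hc
      let L : V →ₗ[F] V := (G : V →ₗ[F] V) - LinearMap.id
      have hinj : Function.Injective (L.submoduleMap (D l)) := fun p r hpr => by
        refine Subtype.ext (sub_eq_zero.1 ?_)
        by_contra hne0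
        refine hc _ ((D l).sub_mem p.2 r.2) hne0 ?_
        have h1 := congrArg Subtype.val hpr
        rw [LinearMap.submoduleMap_coe_apply, LinearMap.submoduleMap_coe_apply] at h1
        change G p - p = G r - r at h1
        rw [map_sub, ← sub_eq_zero]
        linear_combination (norm := abel) h1
      have himg : (D l).map L = Submodule.span F {a, b} := by
        refine Submodule.eq_of_le_of_finrank_le (by rintro _ ⟨z, -, rfl⟩; exact hres z) ?_
        rw [hdim, ← H.rk l]
        exact LinearMap.finrank_le_finrank_of_injective hinj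
      obtain ⟨z, hz, hzne⟩ := (hM m).1 hmM
      obtain ⟨y, hy, e⟩ := himg.symm ▸ hres z
      change G y - y = G z - z at e
      have h1 := congrArg (H.pr m) e
      rw [H.pr_other ((D l).sub_mem (hst l y hy) hy) hml, H.pr_self ((D m).sub_mem (hst m z hz) hz)] at h1
      exact hzne (sub_eq_zero.1 h1.symm)
    exact sq_fix_of_fix (H.nd l) (H.rk l) g (hst l) hw hw0 hgw (H.pr_mem l x)

variable [Finite F]

omit [Finite F] in
/-- Equal nonzero vectors of a block are related by an isometry fixing the other blocks. -/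
theorem exists_move_block {l : Fin t} {x y : V} (hx : x ∈ D l) (hy : y ∈ D l) (hx0 : x ≠ 0) (hy0 : y ≠ 0)
    (h : Q x = Q y) : ∃ g : O Q, (∀ i, ∀ v ∈ D i, (g : V ≃ₗ[F] V) v ∈ D i) ∧
      (∀ i, i ≠ l → ∀ v ∈ D i, (g : V ≃ₗ[F] V) v = v) ∧ (g : V ≃ₗ[F] V) x = y := by
  obtain ⟨g, hg⟩ := exists_map_vec (H.nd l) (v := (⟨x, hx⟩ : D l)) (w := ⟨y, hy⟩)
    (fun e => hx0 (congrArg Subtype.val e)) (fun e => hy0 (congrArg Subtype.val e))
    (by rw [restr_apply, restr_apply]; exact h.symm)
  refine ⟨extendO H.nQ (H.nd l) g, fun i v hv => ?_, fun i hi v hv =>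
    extendO_app_perp _ _ _ fun w hw => H.orth l i hi.symm w hw v hv, ?_⟩
  · rcases eq_or_ne i l with rfl | hi
    · rw [show v = ((⟨v, hv⟩ : D i) : V) from rfl, extendO_app]; exact Subtype.prop _
    · rw [extendO_app_perp _ _ _ fun w hw => H.orth l i hi.symm w hw v hv]; exact hv
  · rw [show x = ((⟨x, hx⟩ : D l) : V) from rfl, extendO_app, hg]

omit [Finite F] in
/-- An isometry exchanging two blocks and fixing the others. -/
theorem exists_swap {i r : Fin t} (hir : i ≠ r) :
    ∃ g : O Q, (∀ v ∈ D i, (g : V ≃ₗ[F] V) v ∈ D r) ∧ (∀ v ∈ D r, (g : V ≃ₗ[F] V) v ∈ D i) ∧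
      ∀ j, j ≠ i → j ≠ r → ∀ v ∈ D j, (g : V ≃ₗ[F] V) v = v := by
  obtain ⟨e, he⟩ := H.isom i r
  let Pi : V →ₗ[F] D i := (H.pr i).codRestrict (D i) (H.pr_mem i)
  let Pr : V →ₗ[F] D r := (H.pr r).codRestrict (D r) (H.pr_mem r)
  let s : V →ₗ[F] V := LinearMap.id - H.pr i - H.pr r + (D r).subtype ∘ₗ e.toLinearMap ∘ₗ Pi +
    (D i).subtype ∘ₗ e.symm.toLinearMap ∘ₗ Pr
  have hs : ∀ x, s x = x - H.pr i x - H.pr r x + (e (Pi x) : V) + (e.symm (Pr x) : V) := fun x => rfl
  have hperp : ∀ (x : V) (j : Fin t), j = i ∨ j = r → ∀ v ∈ D j, polar Q v (x - H.pr i x - H.pr r x) = 0 := by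
    rintro x j (rfl | rfl) v hv
    · rw [polar_sub_right, H.polar_sub_pr hv, H.orth j r hir v hv _ (H.pr_mem r x), sub_zero]
    · rw [sub_right_comm, polar_sub_right, H.polar_sub_pr hv, H.orth j i hir.symm v hv _ (H.pr_mem i x), sub_zero]
  have hQs : ∀ x, Q (s x) = Q x := by
    intro x
    have h1 : Q (e.symm (Pr x) : V) = Q (H.pr r x) := by
      conv_rhs => rw [show H.pr r x = ((e (e.symm (Pr x)) : D r) : V) by rw [e.apply_symm_apply]; rfl, he]
    have h2 : Q (e (Pi x) : V) = Q (H.pr i x) := he (Pi x)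
    have ea : ∀ y z : V, y ∈ D r → z ∈ D i →
        Q (x - H.pr i x - H.pr r x + y + z) = Q (x - H.pr i x - H.pr r x) + Q y + Q z := fun y z hy hz => by
      rw [map_add_polar, map_add_polar, polar_add_left, polar_comm (⇑Q) _ y, hperp x r (Or.inr rfl) y hy,
        polar_comm (⇑Q) _ z, hperp x i (Or.inl rfl) z hz, H.orth r i hir.symm y hy z hz]
      ring
    calc Q (s x) = Q (x - H.pr i x - H.pr r x) + Q (H.pr r x) + Q (H.pr i x) := by
          rw [hs, ea _ _ (e (Pi x)).2 (e.symm (Pr x)).2, h1, h2]; ring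
      _ = Q x := by rw [← ea _ _ (H.pr_mem r x) (H.pr_mem i x)]; congr 1; abel
  refine ⟨H.nQ.ofLinear s hQs, fun v hv => ?_, fun v hv => ?_, fun j hji hjr v hv => ?_⟩
  · rw [Nondeg.ofLinear_app, hs]
    have h2 : Pr v = 0 := Subtype.ext (H.pr_other hv hir.symm)
    rw [h2, H.pr_self hv, H.pr_other hv hir.symm]
    simp
  · rw [Nondeg.ofLinear_app, hs]
    have h1 : Pi v = 0 := Subtype.ext (H.pr_other hv hir)
    rw [h1, H.pr_self hv, H.pr_other hv hir]
    simp
  · rw [Nondeg.ofLinear_app, hs]
    have h1 : Pi v = 0 := Subtype.ext (H.pr_other hv hji.symm)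
    have h2 : Pr v = 0 := Subtype.ext (H.pr_other hv hjr.symm)
    rw [h1, h2, H.pr_other hv hji.symm, H.pr_other hv hjr.symm]
    simp

omit [FiniteDimensional F V] [Finite F] in
/-- A parameter realised in one block is realised in every block. -/
theorem realises {i : Fin t} {T : F} (h : Realises Q (D i) T) (j : Fin t) : Realises Q (D j) T := by
  obtain ⟨e, he⟩ := H.isom i j
  obtain ⟨a, ha, b, hb, hQa, hQb, rfl⟩ := h
  refine ⟨_, (e ⟨a, ha⟩).2, _, (e ⟨b, hb⟩).2, by rw [he]; exact hQa, by rw [he]; exact hQb, ?_⟩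
  have hp : polar Q (e ⟨a, ha⟩ : V) (e ⟨b, hb⟩ : V) = polar Q a b := by
    have h1 := he (⟨a, ha⟩ + ⟨b, hb⟩)
    rw [map_add, Submodule.coe_add, Submodule.coe_add] at h1
    simp only [polar, h1, he]
  rw [tval, tval, hp, he, he]

end PDec

end Cfsg.Agent.H72.OrthPlanes
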