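import Cfsg.Agent.H72.OrthPlanes.Basic

/-!
Elements of Ω built from reflections in the blocks.
-/

set_option autoImplicit false

namespace Cfsg.Agent.H72.OrthPlanes

open QuadraticMap Module Cfsg.Agent.Orthogonal
open Cfsg.Agent.H98.OrthMax (rO_mul_mem)

variable {F V : Type*} [Field F] [AddCommGroup V] [Module F V] {Q : QuadraticForm F V}

theorem rO_comm_of_orth {a b : V} (h : polar Q a b = 0) : rO Q a * rO Q b = rO Q b * rO Q a := by
  have := conj_rO (rO Q a) b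
  rw [rO_fix h, mul_inv_eq_iff_eq_mul] at this
  exact this

/-- In characteristic two every product of two reflections is a commutator. -/
theorem rot_mem_commutator_two [Fintype F] [FiniteDimensional F V] (hQ : Nondeg Q) (h2 : (2 : F) = 0) {a b : V}
    (ha : Q a ≠ 0) (hb : Q b ≠ 0) : rot Q a b ∈ commutator (O Q) := by
  obtain ⟨c, hc⟩ := exists_sq h2 (Q a / Q b)
  have hc0 : c ≠ 0 := fun e => div_ne_zero ha hb (by rw [← hc, e, zero_pow two_ne_zero])
  rw [rot, ← rO_smul hc0 b]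
  exact rO_mul_mem hQ ha (by rw [qmap_smul, hc, div_mul_cancel₀ _ hb])

variable {t : ℕ} {D : Fin t → Submodule F V} {X : Subgroup (O Q)}

namespace PDec

variable [FiniteDimensional F V] (H : PDec Q D)
include H

omit [FiniteDimensional F V] in
theorem perm_rot {i j : Fin t} {a b : V} (ha : a ∈ D i) (hb : b ∈ D j) : Perm D (rot Q a b) :=
  (H.perm_rO ha).mul (H.perm_rO hb)

/-- Reflections in two blocks with vectors of equal value. -/
theorem rot_mem (hX : Over D X) {i j : Fin t} {a b : V} (ha : a ∈ D i) (hb : b ∈ D j) (hQa : Q a ≠ 0)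
    (h : Q b = Q a) : rot Q a b ∈ X :=
  hX _ (rO_mul_mem H.nQ hQa h) (H.perm_rot ha hb)

/-- Two rotations with the same parameters in two blocks. -/
theorem rot_rot_mem (hX : Over D X) {i j : Fin t} (hij : i ≠ j) {a b a' b' : V} (ha : a ∈ D i) (hb : b ∈ D i)
    (ha' : a' ∈ D j) (hb' : b' ∈ D j) (hQa : Q a ≠ 0) (hQb : Q b ≠ 0) (h : Q a' = Q a) (h' : Q b' = Q b) :
    rot Q a b * rot Q a' b' ∈ X := by
  have e : rot Q a b * rot Q a' b' = rot Q a a' * rot Q b b' := by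
    rw [rot, rot, rot, rot, mul_assoc, mul_assoc, ← mul_assoc (rO Q b) (rO Q a'),
      rO_comm_of_orth (H.orth i j hij b hb a' ha'), mul_assoc (rO Q a') (rO Q b)]
  rw [e]
  exact X.mul_mem (H.rot_mem hX ha ha' hQa h) (H.rot_mem hX hb hb' hQb h')

theorem rot_mem_two [Fintype F] (h2 : (2 : F) = 0) (hX : Over D X) {i j : Fin t} {a b : V} (ha : a ∈ D i)
    (hb : b ∈ D j) (hQa : Q a ≠ 0) (hQb : Q b ≠ 0) : rot Q a b ∈ X :=
  hX _ (rot_mem_commutator_two H.nQ h2 hQa hQb) (H.perm_rot ha hb)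

/-- The polar value of a vector and its image under an element stabilising the blocks. -/
theorem polar_app_stab {h : O Q} (hst : ∀ i, ∀ v ∈ D i, (h : V ≃ₗ[F] V) v ∈ D i) (u : V) (S : Finset (Fin t))
    (hS : ∀ i ∉ S, (h : V ≃ₗ[F] V) (H.pr i u) = H.pr i u) :
    polar Q u ((h : V ≃ₗ[F] V) u) =
      2 * Q u + ∑ i ∈ S, (polar Q ((h : V ≃ₗ[F] V) (H.pr i u)) (H.pr i u) - 2 * Q (H.pr i u)) := by
  rw [H.polar_sum, Finset.sum_subset (Finset.subset_univ S) fun i _ hi => by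
    rw [hS i hi, polar_self', sub_self]]
  rw [H.q_sum u, Finset.mul_sum, ← Finset.sum_add_distrib]
  exact Finset.sum_congr rfl fun i _ => by
    rw [H.pr_app_of_stab hst, polar_comm]; ring

/-- The parameters shared by the blocks. -/
theorem exists_kind [Finite F] (ht : 0 < t) :
    ∃ δ η : F, Kind δ η ∧ ((∀ i, ∀ x ∈ D i, Q x = 0 → x = 0) → ∀ w ∈ asImage F, w + η ≠ 0) ∧
      ((∀ w ∈ asImage F, w + η ≠ 0) ∨ ∀ i, ∃ e ∈ D i, e ≠ 0 ∧ Q e = 0) ∧
      ∀ i, ∀ T ∈ tset δ η, Realises Q (D i) T := by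
  set i₀ : Fin t := ⟨0, ht⟩
  by_cases ha : ∀ x ∈ D i₀, Q x = 0 → x = 0
  · obtain ⟨δ, η, hk, hη, hT⟩ := exists_kind_elliptic (H.nd i₀) (H.rk i₀) ha
    exact ⟨δ, η, hk, fun _ => hη, Or.inl hη, fun i T h => H.realises (hT T h) i⟩
  · push Not at ha
    obtain ⟨e, he, hQe, he0⟩ := ha
    have hT := exists_kind_hyperbolic (H.nd i₀) (H.rk i₀) he he0 hQe
    refine ⟨1, 0, ⟨by ring, one_ne_zero, Or.inr rfl⟩, fun h => absurd (h i₀ e he hQe) he0, Or.inr fun i => ?_,
      fun i T h => H.realises (hT T h) i⟩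
    obtain ⟨f, hf⟩ := H.isom i₀ i
    refine ⟨_, (f ⟨e, he⟩).2, fun h => he0 ?_, by rw [hf]; exact hQe⟩
    have h0 : f ⟨e, he⟩ = 0 := Subtype.ext h
    exact congrArg Subtype.val (f.map_eq_zero_iff.1 h0)

end PDec

end Cfsg.Agent.H72.OrthPlanes
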