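import Mathlib

/-!
Counting lemmas in finite fields: two large sets cover all sums, and the image of `s ↦ s ^ 2 + s` is neither
closed under a scaled inversion nor periodic after inversion.
-/

set_option autoImplicit false

namespace Cfsg.Agent.H72.OrthPlanes

variable {F : Type*} [Field F]

omit [Field F] in
theorem exists_mem_mem_of_card [Fintype F] [DecidableEq F] {A B U : Finset F} (hA : A ⊆ U) (hB : B ⊆ U)
    (h : U.card < A.card + B.card) : ∃ x, x ∈ A ∧ x ∈ B := by
  by_contra hc
  push Not at hc
  have h1 : Disjoint A B := Finset.disjoint_left.2 hc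
  have h2 := Finset.card_le_card (Finset.union_subset hA hB)
  rw [Finset.card_union_of_disjoint h1] at h2
  omega

/-- Two sets of total size above `q` represent every element as a weighted sum. -/
theorem exists_lincomb [Fintype F] [DecidableEq F] {A B : Finset F} (h : Fintype.card F < A.card + B.card)
    {r s : F} (hr : r ≠ 0) (hs : s ≠ 0) (c : F) : ∃ a ∈ A, ∃ b ∈ B, r * a + s * b = c := by
  obtain ⟨x, hxA, hxB⟩ := exists_mem_mem_of_card (A := A.image (fun a => r * a))
    (B := B.image (fun b => c - s * b)) (U := Finset.univ) (Finset.subset_univ _) (Finset.subset_univ _) (by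
      rw [Finset.card_image_of_injective _ (mul_right_injective₀ hr),
        Finset.card_image_of_injective _ (fun x y e => mul_left_cancel₀ hs (sub_right_injective e)),
        Finset.card_univ]
      exact h)
  obtain ⟨a, ha, rfl⟩ := Finset.mem_image.1 hxA
  obtain ⟨b, hb, hbe⟩ := Finset.mem_image.1 hxB
  exact ⟨a, ha, b, hb, by linear_combination -hbe⟩

/-- The image of `s ↦ s ^ 2 + s`. -/
def asImage (F : Type*) [Field F] : Set F := Set.range fun s : F => s ^ 2 + s

theorem card_le_two_mul_asImage [Fintype F] [DecidableEq F] :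
    Fintype.card F ≤ 2 * (Finset.univ.image fun s : F => s ^ 2 + s).card := by
  rw [← Finset.card_univ (α := F)]
  refine Finset.card_le_mul_card_image _ 2 fun b hb => ?_
  obtain ⟨s₀, -, rfl⟩ := Finset.mem_image.1 hb
  refine (Finset.card_le_card (t := ({s₀, -1 - s₀} : Finset F)) fun s hs => ?_).trans Finset.card_le_two
  rw [Finset.mem_filter] at hs
  have h : (s - s₀) * (s - (-1 - s₀)) = 0 := by linear_combination hs.2
  rcases mul_eq_zero.1 h with h | h
  · exact Finset.mem_insert.2 (Or.inl (sub_eq_zero.1 h))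
  · exact Finset.mem_insert.2 (Or.inr (Finset.mem_singleton.2 (sub_eq_zero.1 h)))

section CharTwo

variable (h2 : (2 : F) = 0)
include h2

theorem asImage_add {x y : F} (hx : x ∈ asImage F) (hy : y ∈ asImage F) : x + y ∈ asImage F := by
  obtain ⟨s, rfl⟩ := hx
  obtain ⟨t, rfl⟩ := hy
  exact ⟨s + t, by linear_combination s * t * h2⟩

theorem neg_eq_self (x : F) : -x = x := by linear_combination -x * h2

theorem sq_inj {x y : F} (h : x ^ 2 = y ^ 2) : x = y := by
  have : (x - y) ^ 2 = 0 := by linear_combination h + (y ^ 2 - x * y) * h2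
  exact sub_eq_zero.1 (pow_eq_zero_iff two_ne_zero |>.1 this)

theorem asImage_zero : (0 : F) ∈ asImage F := ⟨0, by linear_combination (0 : F) * h2⟩

variable [Fintype F]

theorem exists_sq (a : F) : ∃ t : F, t ^ 2 = a := by
  have hinj : Function.Injective (fun x : F => x ^ 2) := fun x y h => sq_inj h2 h
  exact (Finite.injective_iff_surjective.1 hinj) a

theorem two_mul_natCard_asImage : 2 * Nat.card (asImage F) = Fintype.card F := by
  classical
  rw [Nat.card_eq_card_toFinset, ← Finset.card_univ (α := F)]
  symm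
  have hset : (asImage F).toFinset = Finset.univ.image fun s : F => s ^ 2 + s := by
    ext x
    simp only [Finset.mem_image, Finset.mem_univ, true_and]
    exact Set.mem_toFinset
  rw [hset, Finset.card_eq_sum_card_image (fun s : F => s ^ 2 + s) Finset.univ,
    Finset.sum_const_nat (m := 2) ?_, mul_comm]
  intro b hb
  obtain ⟨s₀, -, rfl⟩ := Finset.mem_image.1 hb
  rw [Finset.card_eq_two]
  refine ⟨s₀, s₀ + 1, fun h => one_ne_zero (α := F) (by linear_combination -h), ?_⟩
  ext s
  simp only [Finset.mem_filter, Finset.mem_univ, true_and, Finset.mem_insert, Finset.mem_singleton]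
  constructor
  · intro h
    have h' : (s - s₀) * (s - (s₀ + 1)) = 0 := by linear_combination h + (-(s₀ * s) + s₀ ^ 2 + s₀ - s) * h2
    rcases mul_eq_zero.1 h' with h' | h'
    · exact Or.inl (sub_eq_zero.1 h')
    · exact Or.inr (sub_eq_zero.1 h')
  · rintro (rfl | rfl)
    · rfl
    · linear_combination (s₀ + 1) * h2

/-- An element outside the image has as its translates by the image the whole complement. -/
theorem asImage_add_of_not_mem {η y : F} (hη : η ∉ asImage F) (hy : y ∉ asImage F) : y + η ∈ asImage F := by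
  classical
  by_contra hc
  have h2c := two_mul_natCard_asImage h2
  rw [Nat.card_eq_card_toFinset] at h2c
  set S := (asImage F).toFinset with hS
  have hmem : ∀ x, x ∈ S ↔ x ∈ asImage F := fun x => Set.mem_toFinset
  have hdisj : Disjoint S (S.image (· + η)) := Finset.disjoint_left.2 fun x hx hx' => by
    obtain ⟨z, hz, rfl⟩ := Finset.mem_image.1 hx'
    refine hη ?_
    have := asImage_add h2 ((hmem _).1 hz) ((hmem _).1 hx)
    rwa [show z + (z + η) = η by linear_combination z * h2] at this
  have huniv : S ∪ S.image (· + η) = Finset.univ := Finset.eq_univ_of_card _ (by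
    rw [Finset.card_union_of_disjoint hdisj, Finset.card_image_of_injective _ (add_left_injective η)]
    omega)
  have : y ∈ S ∪ S.image (· + η) := huniv ▸ Finset.mem_univ y
  rcases Finset.mem_union.1 this with h | h
  · exact hy ((hmem y).1 h)
  · obtain ⟨z, hz, rfl⟩ := Finset.mem_image.1 h
    exact hc (by rwa [show z + η + η = z by linear_combination η * h2, ← hmem])

/-- An additive set of index two closed under inversion occurs only for `q ≤ 4`. -/
theorem card_le_four_of_inv_stable (S : AddSubgroup F) (hS : 2 * Nat.card S = Fintype.card F)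
    (hinv : ∀ x ∈ S, x⁻¹ ∈ S) : Fintype.card F ≤ 4 := by
  classical
  by_contra hq4
  have hmem2 : ∀ a ∈ S, ∀ b ∈ S, a ^ 2 * b ∈ S := by
    intro a ha b hb
    rcases eq_or_ne a 0 with rfl | ha0
    · rw [zero_pow two_ne_zero, zero_mul]; exact S.zero_mem
    rcases eq_or_ne b 0 with rfl | hb0
    · rw [mul_zero]; exact S.zero_mem
    rcases eq_or_ne (a * b) 1 with hab | hab
    · rwa [show a ^ 2 * b = a * (a * b) by ring, hab, mul_one]
    have hd : b⁻¹ - a ≠ 0 := fun e => hab (by
      rw [← sub_eq_zero.1 e, inv_mul_cancel₀ hb0])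
    have key : a - (a⁻¹ + (b⁻¹ - a)⁻¹)⁻¹ = a ^ 2 * b := by
      have hd' : 1 - a * b ≠ 0 := sub_ne_zero.2 (Ne.symm hab)
      have e1 : (b⁻¹ - a)⁻¹ = b / (1 - a * b) := by
        refine inv_eq_of_mul_eq_one_right ?_
        field_simp
        rw [mul_comm b a]
        exact div_self hd'
      have e2 : a⁻¹ + b / (1 - a * b) = 1 / (a * (1 - a * b)) := by
        field_simp
        ring
      rw [e1, e2, one_div, inv_inv]
      ring
    rw [← key]
    exact S.sub_mem ha (hinv _ (S.add_mem (hinv a ha) (hinv _ (S.sub_mem (hinv b hb) ha))))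
  let M : Subring F :=
    { carrier := {m | ∀ x ∈ S, m * x ∈ S}
      mul_mem' := fun {a b} ha hb x hx => by rw [mul_assoc]; exact ha _ (hb x hx)
      one_mem' := fun x hx => by rwa [one_mul]
      add_mem' := fun {a b} ha hb x hx => by rw [add_mul]; exact S.add_mem (ha x hx) (hb x hx)
      zero_mem' := fun x hx => by rw [zero_mul]; exact S.zero_mem
      neg_mem' := fun {a} ha x hx => by rw [neg_mul]; exact S.neg_mem (ha x hx) }
  have hcard : Nat.card S ≤ Nat.card M :=
    Nat.card_le_card_of_injective (fun a : S => (⟨(a : F) ^ 2, fun x hx => hmem2 a a.2 x hx⟩ : M))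
      fun a b e => Subtype.ext (sq_inj h2 (congrArg Subtype.val e))
  obtain ⟨m₀, hm₀⟩ : ∃ m₀, m₀ ∉ M := by
    by_contra hc
    push Not at hc
    have h1 : 1 < Fintype.card F := Fintype.one_lt_card
    by_cases hS0 : ∃ x ∈ S, x ≠ 0
    · obtain ⟨x, hx, hx0⟩ := hS0
      have htop : S = ⊤ := eq_top_iff.2 fun y _ => by
        have := hc (y / x) x hx
        rwa [div_mul_cancel₀ y hx0] at this
      rw [htop, Nat.card_congr AddSubgroup.topEquiv.toEquiv, Nat.card_eq_fintype_card] at hS
      omega
    · push Not at hS0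
      have : Nat.card S = 1 := Nat.card_eq_one_iff_unique.2
        ⟨⟨fun a b => Subtype.ext ((hS0 a a.2).trans (hS0 b b.2).symm)⟩, ⟨0⟩⟩
      omega
  have hinvM : ∀ y ∈ M, y⁻¹ ∈ M := by
    intro y hy
    rcases eq_or_ne y 0 with rfl | hy0
    · rwa [inv_zero]
    have hq : 2 ≤ Fintype.card F := Fintype.one_lt_card
    have h1 := FiniteField.pow_card_sub_one_eq_one y hy0
    rw [show Fintype.card F - 1 = (Fintype.card F - 2) + 1 by omega, pow_succ'] at h1
    rw [inv_eq_of_mul_eq_one_right h1]
    exact pow_mem hy _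
  have hinj : Nat.card M * Nat.card M ≤ Fintype.card F := by
    rw [← Nat.card_prod, ← Nat.card_eq_fintype_card]
    refine Nat.card_le_card_of_injective (fun p : M × M => (p.1 : F) + (p.2 : F) * m₀) ?_
    rintro ⟨⟨a, ha⟩, ⟨b, hb⟩⟩ ⟨⟨a', ha'⟩, ⟨b', hb'⟩⟩ e
    dsimp at e
    by_cases hbb : b = b'
    · subst hbb
      simp [add_right_cancel e]
    · refine absurd ?_ hm₀
      have : m₀ = (a' - a) * (b - b')⁻¹ := by
        rw [eq_mul_inv_iff_mul_eq₀ (sub_ne_zero.2 hbb)]
        linear_combination e
      rw [this]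
      exact M.mul_mem (M.sub_mem ha' ha) (hinvM _ (M.sub_mem hb hb'))
  have h3 := Nat.mul_le_mul hcard hcard
  nlinarith

/-- No scaled inversion preserves the image, for `q > 4`. -/
theorem card_le_four_of_scaled_inv {a : F} (ha : a ≠ 0) (h : ∀ y ∈ asImage F, a / y ∈ asImage F) :
    Fintype.card F ≤ 4 := by
  classical
  obtain ⟨l, hl⟩ := exists_sq h2 a⁻¹
  have hl0 : l ≠ 0 := fun e => ha (by rw [e, zero_pow two_ne_zero, eq_comm, inv_eq_zero] at hl; exact hl)
  let S : AddSubgroup F :=
    { carrier := {x | x / l ∈ asImage F}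
      add_mem' := fun {x y} hx hy => by
        show (x + y) / l ∈ asImage F
        rw [add_div]; exact asImage_add h2 hx hy
      zero_mem' := by
        show (0 : F) / l ∈ asImage F
        rw [zero_div]; exact asImage_zero h2
      neg_mem' := fun {x} hx => by
        show -x / l ∈ asImage F
        rw [neg_eq_self h2]; exact hx }
  refine card_le_four_of_inv_stable h2 S ?_ fun x hx => ?_
  · rw [← two_mul_natCard_asImage h2]
    congr 1
    exact Nat.card_congr
      { toFun := fun x : S => (⟨(x : F) / l, x.2⟩ : asImage F)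
        invFun := fun y => ⟨l * (y : F), by
          show l * (y : F) / l ∈ asImage F
          rw [mul_div_cancel_left₀ _ hl0]; exact y.2⟩
        left_inv := fun x => Subtype.ext (mul_div_cancel₀ _ hl0)
        right_inv := fun y => Subtype.ext (mul_div_cancel_left₀ _ hl0) }
  · have h3 := h _ hx
    show x⁻¹ / l ∈ asImage F
    have h4 : a = (l ^ 2)⁻¹ := by rw [hl, inv_inv]
    rw [h4, div_div_eq_mul_div] at h3
    rcases eq_or_ne x 0 with rfl | hx0
    · rw [inv_zero, zero_div]; exact asImage_zero h2
    convert h3 using 1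
    field_simp

/-- The reciprocals of the image together with zero have no period, for `q > 4`. -/
theorem card_le_four_of_period {p : F} (hp : p ≠ 0)
    (h : ∀ x, x⁻¹ ∈ asImage F → (x + p)⁻¹ ∈ asImage F) : Fintype.card F ≤ 4 := by
  have hp' : p⁻¹ ∈ asImage F := by
    have := h 0 (by rw [inv_zero]; exact asImage_zero h2)
    rwa [zero_add] at this
  refine card_le_four_of_scaled_inv h2 (a := (p ^ 2)⁻¹) (inv_ne_zero (pow_ne_zero 2 hp)) fun y hy => ?_
  rcases eq_or_ne y 0 with rfl | hy0
  · rw [div_zero]; exact asImage_zero h2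
  rcases eq_or_ne (y + p⁻¹) 0 with he | hw0
  · have : y = p⁻¹ := by rw [eq_neg_of_add_eq_zero_left he, neg_eq_self h2]
    subst this
    rwa [show (p ^ 2)⁻¹ / p⁻¹ = p⁻¹ by field_simp]
  have hw : ((y + p⁻¹)⁻¹)⁻¹ ∈ asImage F := by rw [inv_inv]; exact asImage_add h2 hy hp'
  have := asImage_add h2 (h _ hw) hp'
  convert this using 1
  have e : (y + p⁻¹)⁻¹ + p = p * y / (y + p⁻¹) := by
    rw [eq_div_iff hw0, add_mul, inv_mul_cancel₀ hw0, mul_add, mul_inv_cancel₀ hp]
    linear_combination h2
  rw [e, inv_div]
  field_simp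
  linear_combination -(p * y) * h2

end CharTwo

end Cfsg.Agent.H72.OrthPlanes
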