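import Cfsg.Agent.H72.OrthPlanes.Fix
import Cfsg.Agent.Orthogonal.Spinor

/-!
If no element outside the stabiliser of the decomposition stabilises a block, there is no such element at all.
-/

set_option autoImplicit false
set_option linter.unusedSectionVars false

namespace Cfsg.Agent.H72.OrthPlanes

open QuadraticMap Module Cfsg.Agent.Orthogonal

variable {F V : Type*} [Field F] [AddCommGroup V] [Module F V] {Q : QuadraticForm F V} {t : ℕ}
  {D : Fin t → Submodule F V} {X : Subgroup (O Q)}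

theorem conj_rot (g : O Q) (a b : V) :
    g * rot Q a b * g⁻¹ = rot Q ((g : V ≃ₗ[F] V) a) ((g : V ≃ₗ[F] V) b) := by
  rw [rot, rot, ← conj_rO, ← conj_rO]
  group

theorem rot_sq (a b : V) : rot Q a b * rot Q a b = rot Q a ((rO Q b : V ≃ₗ[F] V) a) := by
  rw [rot, rot, ← conj_rO, rO_inv]
  group

theorem li_of_map {g : V ≃ₗ[F] V} {a b : V} (h : LinearIndependent F ![a, b]) :
    LinearIndependent F ![g a, g b] := by
  rw [LinearIndependent.pair_iff] at h ⊢
  intro s u e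
  refine h s u (g.injective ?_)
  rw [map_zero, map_add, map_smul, map_smul, e]

namespace PDec

variable [FiniteDimensional F V] (H : PDec Q D)
include H

/-- A map sending two independent vectors of a block into a block sends the block there. -/
theorem maps_of_pair {i j : Fin t} {g : O Q} {a b : V} (ha : a ∈ D i) (hb : b ∈ D i)
    (hab : LinearIndependent F ![a, b]) (hga : (g : V ≃ₗ[F] V) a ∈ D j) (hgb : (g : V ≃ₗ[F] V) b ∈ D j) :
    ∀ v ∈ D i, (g : V ≃ₗ[F] V) v ∈ D j := fun v hv => by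
  obtain ⟨s, u, rfl⟩ := mem_span_pair_of_li (H.rk i) ha hb hab hv
  rw [map_add, map_smul, map_smul]
  exact (D j).add_mem ((D j).smul_mem _ hga) ((D j).smul_mem _ hgb)

theorem map_block_eq {i j : Fin t} {g : O Q} (h : ∀ v ∈ D i, (g : V ≃ₗ[F] V) v ∈ D j) :
    (D i).map ((g : V ≃ₗ[F] V) : V →ₗ[F] V) = D j :=
  Submodule.eq_of_le_of_finrank_eq (by rintro _ ⟨v, hv, rfl⟩; exact h v hv)
    (by rw [LinearEquiv.finrank_map_eq, H.rk, H.rk])

theorem inv_maps {i j : Fin t} {g : O Q} (h : ∀ v ∈ D i, (g : V ≃ₗ[F] V) v ∈ D j) :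
    ∀ v ∈ D j, ((g⁻¹ : O Q) : V ≃ₗ[F] V) v ∈ D i := fun v hv => by
  obtain ⟨w, hw, rfl⟩ := (H.map_block_eq h).symm ▸ hv
  show ((g⁻¹ : O Q) : V ≃ₗ[F] V) ((g : V ≃ₗ[F] V) w) ∈ D i
  rwa [← mul_app, ← Subgroup.coe_mul, inv_mul_cancel, OneMemClass.coe_one, one_app]

theorem perm_inv {g : O Q} (hg : Perm D g) : Perm D g⁻¹ := by
  choose τ hτ using hg
  have hinj : Function.Injective τ := fun i j e => by
    obtain ⟨v, hv, hv0⟩ := (Submodule.ne_bot_iff _).1 (H.pos i)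
    obtain ⟨w, hw, e'⟩ := (H.map_block_eq (hτ j)).symm ▸ (e ▸ hτ i v hv : (g : V ≃ₗ[F] V) v ∈ D (τ j))
    exact H.eq_of_mem_mem hv0 hv ((g : V ≃ₗ[F] V).injective e' ▸ hw)
  intro j
  obtain ⟨i, rfl⟩ := (Finite.injective_iff_surjective.1 hinj) j
  exact ⟨i, H.inv_maps (hτ i)⟩

theorem three_lines {i : Fin t} {x₁ x₂ x₃ : V} (h₁ : x₁ ∈ D i) (hx₂ : x₂ ∈ D i) (h₃ : x₃ ∈ D i)
    (l₁₂ : LinearIndependent F ![x₁, x₂]) (l₁₃ : LinearIndependent F ![x₁, x₃])
    (l₂₃ : LinearIndependent F ![x₂, x₃]) {g : O Q} (hg₁ : ∃ j, (g : V ≃ₗ[F] V) x₁ ∈ D j)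
    (hg₂ : ∃ j, (g : V ≃ₗ[F] V) x₂ ∈ D j) (hg₃ : ∃ j, (g : V ≃ₗ[F] V) x₃ ∈ D j) :
    ∃ j, ∀ v ∈ D i, (g : V ≃ₗ[F] V) v ∈ D j := by
  obtain ⟨j₁, e₁⟩ := hg₁
  obtain ⟨j₂, e₂⟩ := hg₂
  obtain ⟨j₃, e₃⟩ := hg₃
  by_cases h12 : j₁ = j₂
  · exact ⟨j₁, H.maps_of_pair h₁ hx₂ l₁₂ e₁ (h12 ▸ e₂)⟩
  by_cases h13 : j₁ = j₃
  · exact ⟨j₁, H.maps_of_pair h₁ h₃ l₁₃ e₁ (h13 ▸ e₃)⟩
  exfalso
  have p12 : polar Q x₂ x₁ = 0 := by
    rw [← O.polar_app g]; exact H.orth j₂ j₁ (Ne.symm h12) _ e₂ _ e₁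
  have p13 : polar Q x₃ x₁ = 0 := by
    rw [← O.polar_app g]; exact H.orth j₃ j₁ (Ne.symm h13) _ e₃ _ e₁
  have := eq_zero_of_polar_pair (H.nd i) (H.rk i) hx₂ h₃ l₂₃ h₁ p12 p13
  exact l₁₂.ne_zero (0 : Fin 2) this

variable [Fintype F]

/-- An element permuting the blocks inside `X` with a prescribed block image. -/
theorem exists_perm_to (hX : Over D X) (ht : 5 ≤ t) (i j : Fin t) :
    ∃ π ∈ X, Perm D π ∧ ∀ v ∈ D j, (π : V ≃ₗ[F] V) v ∈ D i := by
  rcases eq_or_ne j i with rfl | hji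
  · exact ⟨1, X.one_mem, fun l => ⟨l, fun v hv => hv⟩, fun v hv => hv⟩
  obtain ⟨σ, hσj, hσi, hσ⟩ := H.exists_swap hji
  obtain ⟨k, hk⟩ : ∃ k, k ∉ ({j, i} : Finset (Fin t)) := by
    obtain ⟨k, -, hk⟩ := Finset.exists_mem_notMem_of_card_lt_card (s := ({j, i} : Finset (Fin t)))
      (t := Finset.univ) (lt_of_le_of_lt Finset.card_le_two (by rw [Finset.card_univ, Fintype.card_fin]; omega))
    exact ⟨k, hk⟩
  simp only [Finset.mem_insert, Finset.mem_singleton, not_or] at hk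
  have hd : finrank F V ≥ 5 := by
    by_contra hc
    have h1 : finrank F (D j ⊔ D i ⊔ D k : Submodule F V) ≤ finrank F V := Submodule.finrank_le _
    have e1 : D j ⊓ D i = ⊥ := eq_bot_iff.2 fun x hx => by
      by_contra hx0
      exact hji (H.eq_of_mem_mem hx0 hx.1 hx.2)
    have e2 : (D j ⊔ D i) ⊓ D k = ⊥ := eq_bot_iff.2 fun x hx => by
      obtain ⟨p, hp, r, hr, rfl⟩ := Submodule.mem_sup.1 hx.1
      have := (H.pr_self hx.2).symm.trans (by rw [map_add, H.pr_other hp hk.1, H.pr_other hr hk.2, add_zero])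
      exact this
    have h3 := Submodule.finrank_sup_add_finrank_inf_eq (D j) (D i)
    have h4 := Submodule.finrank_sup_add_finrank_inf_eq (D j ⊔ D i) (D k)
    rw [e1, finrank_bot, H.rk, H.rk] at h3
    rw [e2, finrank_bot, H.rk] at h4
    omega
  obtain ⟨ρ, hρ, hmem⟩ := H98.OrthDecomp.exists_corr H.nQ hd (H.nd k) (by rw [H.rk]) σ
  have hρfix : ∀ l, l ≠ k → ∀ v ∈ D l, (ρ : V ≃ₗ[F] V) v = v := fun l hl v hv =>
    hρ v fun w hw => H.orth k l hl.symm w hw v hv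
  have hρk : ∀ v ∈ D k, (ρ : V ≃ₗ[F] V) v ∈ D k := fun v hv => by
    have h := H98.OrthMax.perp_invariant ρ (W := perp Q (D k)) (fun w hw => by rw [hρ w hw]; exact hw) v
      (by rw [H.nQ.perp_perp]; exact hv)
    rwa [H.nQ.perp_perp] at h
  have hperm : Perm D (σ * ρ) := fun l => by
    by_cases hlk : l = k
    · subst hlk
      exact ⟨l, fun v hv => by rw [Subgroup.coe_mul, mul_app, hσ l hk.1 hk.2 _ (hρk v hv)]; exact hρk v hv⟩
    by_cases hlj : l = j
    · subst hlj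
      exact ⟨i, fun v hv => by rw [Subgroup.coe_mul, mul_app, hρfix l hlk v hv]; exact hσj v hv⟩
    by_cases hli : l = i
    · subst hli
      exact ⟨j, fun v hv => by rw [Subgroup.coe_mul, mul_app, hρfix l hlk v hv]; exact hσi v hv⟩
    exact ⟨l, fun v hv => by rw [Subgroup.coe_mul, mul_app, hρfix l hlk v hv, hσ l hlj hli v hv]; exact hv⟩
  exact ⟨σ * ρ, hX _ hmem hperm, hperm, fun v hv => by
    rw [Subgroup.coe_mul, mul_app, hρfix j (Ne.symm hk.1) v hv]; exact hσj v hv⟩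

/-- An element carrying a block to a block permutes the blocks. -/
theorem perm_of_block_to_block (hX : Over D X) (hNW : NoStab D X) (ht : 5 ≤ t) {y : O Q} (hy : y ∈ X)
    {i j : Fin t} (h : ∀ v ∈ D i, (y : V ≃ₗ[F] V) v ∈ D j) : Perm D y := by
  obtain ⟨π, hπ, hπp, hπj⟩ := H.exists_perm_to hX ht i j
  have h1 := hNW _ (X.mul_mem hπ hy) ⟨i, fun v hv => by rw [Subgroup.coe_mul, mul_app]; exact hπj _ (h v hv)⟩
  have := (H.perm_inv hπp).mul h1
  rwa [inv_mul_cancel_left] at this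

/-- Three pairwise independent vectors of a given value. -/
theorem exists_three_value (hL : Large Q D) (i : Fin t) {c : F} (hc : c ≠ 0) :
    ∃ x₁ ∈ D i, ∃ x₂ ∈ D i, ∃ x₃ ∈ D i, Q x₁ = c ∧ Q x₂ = c ∧ Q x₃ = c ∧ LinearIndependent F ![x₁, x₂] ∧
      LinearIndependent F ![x₁, x₃] ∧ LinearIndependent F ![x₂, x₃] := by
  classical
  have : Finite V := Module.finite_of_finite F
  have := Fintype.ofFinite V
  set S := Finset.univ.filter fun x : V => x ∈ D i ∧ Q x = c with hS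
  have hmem : ∀ x, x ∈ S ↔ x ∈ D i ∧ Q x = c := fun x => by simp [S]
  have hcard : 5 ≤ S.card ∨ ((2 : F) = 0 ∧ 3 ≤ S.card) := by
    by_cases han : ∀ x ∈ D i, Q x = 0 → x = 0
    · have h := (H.nd i).card_sphere_plane (H.rk i) (fun x hx => Subtype.ext (han x x.2 hx)) hc
      rw [Nat.card_eq_fintype_card (α := F)] at h
      have h1 : Nat.card {x : D i // restr Q (D i) x = c} = S.card := by
        rw [← Fintype.card_coe S, ← Nat.card_eq_fintype_card]
        exact Nat.card_congr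
          { toFun := fun x => ⟨x.1.1, (hmem _).2 ⟨x.1.2, x.2⟩⟩
            invFun := fun x => ⟨⟨x.1, ((hmem _).1 x.2).1⟩, ((hmem _).1 x.2).2⟩
            left_inv := fun _ => rfl
            right_inv := fun _ => rfl }
      have hq := Fintype.one_lt_card (α := F)
      rw [h1] at h
      rcases eq_or_ne (Fintype.card F) 2 with h2 | h2
      · refine Or.inr ⟨?_, by omega⟩
        have := Nat.cast_card_eq_zero F
        rw [h2] at this
        exact_mod_cast this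
      rcases hL with ⟨-, h3⟩ | h3 <;> exact Or.inl (by omega)
    · push Not at han
      obtain ⟨e, he, hQe, he0⟩ := han
      have h7 : 7 ≤ Fintype.card F := hL.resolve_left fun h => he0 (h.1 i e he hQe)
      obtain ⟨f, hf, hQf, hef, hli, -⟩ := exists_hyperbolic (H.nd i) (H.rk i) he he0 hQe
      refine Or.inl (le_trans ?_ (Finset.card_le_card_of_injOn (s := Finset.univ.erase (0 : F))
        (fun s => s • e + (c / s) • f) (fun s hs => ?_) fun s _ s' _ e' => ?_))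
      · rw [Finset.card_erase_of_mem (Finset.mem_univ _), Finset.card_univ]; omega
      · refine (hmem _).2 ⟨(D i).add_mem ((D i).smul_mem _ he) ((D i).smul_mem _ hf), ?_⟩
        rw [hyp_q hQe hQf hef, mul_div_cancel₀ _ (Finset.ne_of_mem_erase hs)]
      · have := congrArg (polar Q f) e'
        simpa [polar_add_right, polar_smul_right', polar_self', hQf, polar_comm (⇑Q) f e, hef] using this
  have hli : ∀ x y, x ∈ S → y ∈ S → y ≠ x → y ≠ -x → LinearIndependent F ![x, y] := by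
    intro x y hx hy h1 h3
    have hQx := ((hmem x).1 hx).2
    refine linearIndependent_of_not_smul (fun e => hc (by rw [← hQx, e, map_zero])) fun d e => ?_
    have hQy := ((hmem y).1 hy).2
    rw [e, qmap_smul, hQx] at hQy
    have : (d - 1) * (d + 1) = 0 := mul_right_cancel₀ hc (by linear_combination hQy)
    rcases mul_eq_zero.1 this with h | h
    · exact h1 (by rw [e, sub_eq_zero.1 h, one_smul])
    · exact h3 (by rw [e, eq_neg_of_add_eq_zero_left h, neg_one_smul])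
  have hneg : (2 : F) = 0 → ∀ x : V, -x = x := fun h2 x => by
    rw [← neg_one_smul F x, show (-1 : F) = 1 from neg_eq_self h2 1, one_smul]
  obtain ⟨x₁, h₁⟩ := Finset.card_pos.1 (show 0 < S.card by rcases hcard with h | ⟨-, h⟩ <;> omega)
  obtain ⟨x₂, hx₂, hn₂⟩ : ∃ x₂ ∈ S, x₂ ∉ ({x₁, -x₁} : Finset V) :=
    Finset.exists_mem_notMem_of_card_lt_card (lt_of_le_of_lt Finset.card_le_two
      (by rcases hcard with h | ⟨-, h⟩ <;> omega))
  obtain ⟨x₃, h₃, hn₃⟩ : ∃ x₃ ∈ S, x₃ ∉ ({x₁, -x₁, x₂, -x₂} : Finset V) := by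
    refine Finset.exists_mem_notMem_of_card_lt_card ?_
    rcases hcard with h | ⟨h2, h⟩
    · exact lt_of_le_of_lt Finset.card_le_four (by omega)
    · rw [hneg h2, hneg h2]
      refine lt_of_le_of_lt (Finset.card_le_card (t := {x₁, x₂}) (by simp))
        (lt_of_le_of_lt Finset.card_le_two (by omega))
  simp only [Finset.mem_insert, Finset.mem_singleton, not_or] at hn₂ hn₃
  exact ⟨x₁, ((hmem _).1 h₁).1, x₂, ((hmem _).1 hx₂).1, x₃, ((hmem _).1 h₃).1, ((hmem _).1 h₁).2,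
    ((hmem _).1 hx₂).2, ((hmem _).1 h₃).2, hli _ _ h₁ hx₂ hn₂.1 hn₂.2, hli _ _ h₁ h₃ hn₃.1 hn₃.2.1,
    hli _ _ hx₂ h₃ hn₃.2.2.1 hn₃.2.2.2⟩

variable (hX : Over D X) (hNW : NoStab D X) (hL : Large Q D) (ht : 5 ≤ t)
include hX hNW hL ht

/-- An element fixing an anisotropic vector of a block permutes the blocks. -/
theorem perm_of_fix {y : O Q} (hy : y ∈ X) {a : Fin t} {z : V} (hz : z ∈ D a) (hQz : Q z ≠ 0)
    (hyz : (y : V ≃ₗ[F] V) z = z) : Perm D y := by
  classical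
  have hblock : ∀ m, m ≠ a → ∃ j, ∀ v ∈ D m, (y : V ≃ₗ[F] V) v ∈ D j := by
    intro m hm
    obtain ⟨x₁, h₁, x₂, hx₂, x₃, h₃, q₁, q₂, q₃, l₁₂, l₁₃, l₂₃⟩ := H.exists_three_value hL m hQz
    have key : ∀ x ∈ D m, Q x = Q z → ∃ j, (y : V ≃ₗ[F] V) x ∈ D j := by
      intro x hx hQx
      by_contra hc
      push Not at hc
      refine H.not_link hX hNW hL ht hz hQz (u := (y : V ≃ₗ[F] V) x)
        ⟨by rw [O.map_app, hQx], by rw [← hyz, O.polar_app]; exact H.orth a m hm.symm z hz x hx, ?_, hc⟩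
      have := X.mul_mem (X.mul_mem hy (H.rot_mem hX hz hx hQz hQx)) (X.inv_mem hy)
      rwa [conj_rot, hyz] at this
    exact H.three_lines h₁ hx₂ h₃ l₁₂ l₁₃ l₂₃ (key _ h₁ q₁) (key _ hx₂ q₂) (key _ h₃ q₃)
  let τ : {m : Fin t // m ≠ a} → Fin t := fun m => (hblock m.1 m.2).choose
  have hτ : ∀ m, ∀ v ∈ D m.1, (y : V ≃ₗ[F] V) v ∈ D (τ m) := fun m => (hblock m.1 m.2).choose_spec
  have hinj : Function.Injective τ := fun m m' e => by
    obtain ⟨v, hv, hv0⟩ := (Submodule.ne_bot_iff _).1 (H.pos m.1)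
    obtain ⟨w, hw, e'⟩ := (H.map_block_eq (hτ m')).symm ▸ (e ▸ hτ m v hv : (y : V ≃ₗ[F] V) v ∈ D (τ m'))
    exact Subtype.ext (H.eq_of_mem_mem hv0 hv ((y : V ≃ₗ[F] V).injective e' ▸ hw))
  have hcard : (Finset.univ.image τ).card + 1 = t := by
    rw [Finset.card_image_of_injective _ hinj, Finset.card_univ, Fintype.card_subtype_compl, Fintype.card_fin,
      Fintype.card_subtype_eq]
    omega
  obtain ⟨j, -, hj⟩ := Finset.exists_mem_notMem_of_card_lt_card (s := Finset.univ.image τ) (t := Finset.univ)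
    (by rw [Finset.card_univ, Fintype.card_fin]; omega)
  intro m
  by_cases hm : m = a
  · subst hm
    refine ⟨j, fun v hv => H.mem_block_of_supp fun l hl => H.pr_of_perp fun w hw => ?_⟩
    obtain ⟨m', hm'⟩ : ∃ m', τ m' = l := by
      by_contra hc
      push Not at hc
      have h2 : ({j, l} : Finset (Fin t)) ⊆ Finset.univ \ Finset.univ.image τ := fun x hx => by
        rw [Finset.mem_sdiff]
        refine ⟨Finset.mem_univ x, ?_⟩
        rcases Finset.mem_insert.1 hx with rfl | hx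
        · exact hj
        · rw [Finset.mem_singleton.1 hx, Finset.mem_image]
          rintro ⟨m', -, e⟩
          exact hc m' e
      have h3 := Finset.card_le_card h2
      rw [Finset.card_pair hl.symm, Finset.card_sdiff_of_subset (Finset.subset_univ _), Finset.card_univ,
        Fintype.card_fin] at h3
      omega
    obtain ⟨w', hw', rfl⟩ := (H.map_block_eq (hτ m')).symm ▸ (hm'.symm ▸ hw : w ∈ D (τ m'))
    show polar Q ((y : V ≃ₗ[F] V) w') _ = 0
    rw [O.polar_app]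
    exact H.orth m'.1 m m'.2 w' hw' v hv
  · exact hblock m hm

/-- A rotation of order at least three in a block, inside `X`. -/
theorem exists_rot_big (j : Fin t) : ∃ a ∈ D j, ∃ a' ∈ D j, Q a ≠ 0 ∧ Q a' ≠ 0 ∧
    LinearIndependent F ![a, a'] ∧ rot Q a a' ∈ X ∧
    ∀ x ∈ D j, x ≠ 0 → (rot Q a a' : V ≃ₗ[F] V) ((rot Q a a' : V ≃ₗ[F] V) x) ≠ x := by
  classical
  obtain ⟨δ, η, hk, hη, hsing, hT⟩ := H.exists_kind (by omega)
  obtain ⟨T, hTm, hT4, hT2⟩ : ∃ T ∈ tfin δ η, T ≠ -4 ∧ T ≠ -2 := by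
    by_contra hc
    push Not at hc
    have hsub : tfin δ η ⊆ ({-4, -2} : Finset F) := fun T hT => by
      rcases eq_or_ne T (-4) with h | h
      · simp [h]
      · simp [hc T hT h]
    have h1 := (Finset.card_le_card hsub).trans Finset.card_le_two
    by_cases h2 : (2 : F) = 0
    · have h0 : ∀ T ∈ tfin δ η, False := fun T hT => by
        rcases Finset.mem_insert.1 (hsub hT) with h | h
        · exact ne_zero_of_mem_tfin hk hT (by rw [h]; linear_combination (-2 : F) * h2)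
        · rw [Finset.mem_singleton] at h
          exact ne_zero_of_mem_tfin hk hT (by rw [h]; linear_combination -h2)
      have h3 : (tfin δ η).card = 0 := Finset.card_eq_zero.2 (Finset.eq_empty_of_forall_notMem h0)
      have := two_mul_pfin h2
      have := Fintype.one_lt_card (α := F)
      rcases hL with ⟨ha, -⟩ | h7
      · have := card_tfin_aniso hk (hη ha); omega
      · have := card_tfin hk; omega
    · have := card_lt_two_mul_pfin h2
      have := five_le_card_odd hL h2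
      rcases hL with ⟨ha, -⟩ | h7
      · have := card_tfin_aniso hk (hη ha); omega
      · have := card_tfin hk; omega
  obtain ⟨a, ha, b, hb, hQa, hQb, e⟩ := hT j T (tfin_subset hTm)
  set a' := (rO Q b : V ≃ₗ[F] V) a with ha'
  have hmem : a' ∈ D j := H.rO_block hb ha
  have hQa' : Q a' = Q a := O.map_app _ a
  have hval : tval Q a a' = (T + 4) * T := by
    rw [← e, tval, tval, hQa', ha', rO_app, polar_sub_right, polar_smul_right', polar_self',
      polar_comm (⇑Q) b a]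
    field_simp
    ring
  have hne : tval Q a a' ≠ 0 := by
    rw [hval]
    exact mul_ne_zero (fun h => hT4 (by linear_combination h)) (ne_zero_of_mem_tfin hk hTm)
  have hli := li_of_tval_ne hQa (hQa'.symm ▸ hQa) hne
  refine ⟨a, ha, a', hmem, hQa, hQa'.symm ▸ hQa, hli, H.rot_mem hX ha hmem hQa hQa', fun x hx hx0 h => ?_⟩
  set G := (rot Q a a' : V ≃ₗ[F] V) with hG
  -- the square fixes a nonzero vector, so it is trivial
  set a'' := (rO Q a' : V ≃ₗ[F] V) a with ha''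
  have hm'' : a'' ∈ D j := H.rO_block hmem ha
  have hQ'' : Q a'' = Q a := O.map_app _ a
  have hnli : ¬ LinearIndependent F ![a, a''] := fun hl => by
    refine hx0 (rot_fix_only (H.nd j) (H.rk j) ha hm'' hQa (hQ''.symm ▸ hQa) hl hx ?_)
    rw [ha'', ← rot_sq, Subgroup.coe_mul, mul_app]
    exact h
  obtain ⟨c, hc⟩ : ∃ c : F, a'' = c • a := by
    by_contra hc
    push Not at hc
    exact hnli (linearIndependent_of_not_smul (fun e0 => hQa (by rw [e0, map_zero])) hc)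
  have hc0 : c ≠ 0 := fun e0 => hQa (by rw [← hQ'', hc, e0, zero_smul, map_zero])
  have hone : rot Q a a' * rot Q a a' = 1 := by
    rw [rot_sq, ← ha'', hc, rot, rO_smul hc0, rO_mul_self]
  obtain ⟨w, hw, hQw⟩ : ∃ w ∈ D j, Q w ≠ 0 := ⟨a, ha, hQa⟩
  have hGw : G (G w) = w := by
    rw [hG, ← mul_app, ← Subgroup.coe_mul, hone, OneMemClass.coe_one, one_app]
  have hsumw : G w + w = 0 := rot_fix_only (H.nd j) (H.rk j) ha hmem hQa (hQa'.symm ▸ hQa) hli
    ((D j).add_mem (OrthPlanes.rot_mem ha hmem hw) hw) (by rw [← hG, map_add, hGw, add_comm])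
  have hp := polar_rot (H.rk j) ha hmem hQa (hQa'.symm ▸ hQa) hw
  rw [← hG, eq_neg_of_add_eq_zero_left hsumw, polar_neg_left, polar_self', hval] at hp
  have h5 : (T + 2) ^ 2 * Q w = 0 := by linear_combination -hp
  exact hT2 (eq_neg_of_add_eq_zero_left (pow_eq_zero_iff two_ne_zero |>.1 ((mul_eq_zero.1 h5).resolve_right hQw)))

/-- A rotation `r` of order at least three, conjugated: permuting means carrying its block to a block. -/
theorem maps_of_conj_perm {g : O Q} {j : Fin t} {a a' : V} (ha : a ∈ D j) (hb : a' ∈ D j) (hQa : Q a ≠ 0)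
    (hQb : Q a' ≠ 0) (hab : LinearIndependent F ![a, a'])
    (hbig : ∀ x ∈ D j, x ≠ 0 → (rot Q a a' : V ≃ₗ[F] V) ((rot Q a a' : V ≃ₗ[F] V) x) ≠ x)
    (hp : Perm D (g * rot Q a a' * g⁻¹)) : ∃ i, ∀ v ∈ D j, (g : V ≃ₗ[F] V) v ∈ D i := by
  rw [conj_rot] at hp
  obtain ⟨-, hcase⟩ := H.residual_cases (li_of_map (g := (g : V ≃ₗ[F] V)) hab) (by rw [O.map_app]; exact hQa)
    (by rw [O.map_app]; exact hQb) hp
  obtain ⟨i, h1, h3⟩ := hcase fun h => by
    rw [← conj_rot, show g * rot Q a a' * g⁻¹ * (g * rot Q a a' * g⁻¹) = g * (rot Q a a' * rot Q a a') * g⁻¹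
      by group, conj_eq_one_iff] at h
    have ha0 : a ≠ 0 := fun e => hQa (by rw [e, map_zero])
    exact hbig a ha ha0 (by rw [← mul_app, ← Subgroup.coe_mul, h, OneMemClass.coe_one, one_app])
  exact ⟨i, H.maps_of_pair ha hb hab h1 h3⟩

/-- The images of block vectors under elements outside the stabiliser have full support. -/
theorem image_full {y : O Q} (hy : y ∈ X) (hyp : ¬ Perm D y) {b : Fin t} {z : V} (hz : z ∈ D b) (hQz : Q z ≠ 0)
    (j : Fin t) : H.pr j ((y : V ≃ₗ[F] V) z) ≠ 0 := by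
  intro h0
  obtain ⟨a, ha, a', ha', hQa, hQa', hab, hmem, hbig⟩ := H.exists_rot_big hX hNW hL ht j
  have hfix : (rot Q a a' : V ≃ₗ[F] V) ((y : V ≃ₗ[F] V) z) = (y : V ≃ₗ[F] V) z :=
    rot_fix (H.polar_of_pr_zero ha h0) (H.polar_of_pr_zero ha' h0)
  have hg : (y⁻¹ * rot Q a a' * y⁻¹⁻¹ : O Q) ∈ X :=
    X.mul_mem (X.mul_mem (X.inv_mem hy) hmem) (X.inv_mem (X.inv_mem hy))
  have hperm := H.perm_of_fix hX hNW hL ht hg hz hQz (by
    rw [inv_inv, Subgroup.coe_mul, mul_app, Subgroup.coe_mul, mul_app, hfix, ← mul_app, ← Subgroup.coe_mul,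
      inv_mul_cancel, OneMemClass.coe_one, one_app])
  obtain ⟨i, hi⟩ := H.maps_of_conj_perm hX hNW hL ht ha ha' hQa hQa' hab hbig hperm
  have h := H.inv_maps hi
  rw [inv_inv] at h
  exact hyp (H.perm_of_block_to_block hX hNW ht hy h)

/-- No image of a block vector has three anisotropic components. -/
theorem not_three {y : O Q} (hy : y ∈ X) (hyp : ¬ Perm D y) {b p q r : Fin t} {z : V} (hz : z ∈ D b)
    (hQz : Q z ≠ 0) (hpq : p ≠ q) (hpr : p ≠ r) (hqr : q ≠ r) (h1 : Q (H.pr p ((y : V ≃ₗ[F] V) z)) ≠ 0)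
    (h2 : Q (H.pr q ((y : V ≃ₗ[F] V) z)) ≠ 0) (h3 : Q (H.pr r ((y : V ≃ₗ[F] V) z)) ≠ 0) : False := by
  set u := (y : V ≃ₗ[F] V) z with hu
  have key : ∀ i k, i ≠ k → ∀ v ∈ D i, ∀ w ∈ D k, Q v ≠ 0 → Q w = Q v → polar Q v u = 0 → polar Q w u = 0 →
      False := by
    intro i k hik v hv w hw hQv hQw hvu hwu
    have hQw0 : Q w ≠ 0 := by rw [hQw]; exact hQv
    have hg : (y⁻¹ * rot Q v w * y⁻¹⁻¹ : O Q) ∈ X :=
      X.mul_mem (X.mul_mem (X.inv_mem hy) (H.rot_mem hX hv hw hQv hQw)) (X.inv_mem (X.inv_mem hy))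
    have hperm := H.perm_of_fix hX hNW hL ht hg hz hQz (by
      rw [inv_inv, Subgroup.coe_mul, mul_app, Subgroup.coe_mul, mul_app, ← hu, rot_fix hvu hwu, hu, ← mul_app,
        ← Subgroup.coe_mul, inv_mul_cancel, OneMemClass.coe_one, one_app])
    rw [conj_rot] at hperm
    have hli : LinearIndependent F ![v, w] := linearIndependent_of_not_smul (fun e => hQv (by rw [e, map_zero]))
      fun c e => hik (H.eq_of_mem_mem (fun e0 => hQw0 (by rw [e0, map_zero]))
        (e ▸ (D i).smul_mem c hv) hw)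
    obtain ⟨⟨m, n, hmn⟩, -⟩ := H.residual_cases (li_of_map (g := ((y⁻¹ : O Q) : V ≃ₗ[F] V)) hli)
      (by rw [O.map_app]; exact hQv) (by rw [O.map_app]; exact hQw0) hperm
    obtain ⟨l, -, hl⟩ := Finset.exists_mem_notMem_of_card_lt_card (s := ({m, n} : Finset (Fin t)))
      (t := Finset.univ) (lt_of_le_of_lt Finset.card_le_two (by rw [Finset.card_univ, Fintype.card_fin]; omega))
    simp only [Finset.mem_insert, Finset.mem_singleton, not_or] at hl
    exact H.image_full hX hNW hL ht (X.inv_mem hy) (fun h => hyp (by have := H.perm_inv h; rwa [inv_inv] at this))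
      hv hQv l (hmn l hl.1 hl.2).1
  obtain ⟨v₁, hv₁, p₁, q₁⟩ := exists_perp_aniso (H.nd p) (H.rk p) (H.pr_mem p u) h1
  obtain ⟨v₂, hv₂, p₂, q₂⟩ := exists_perp_aniso (H.nd q) (H.rk q) (H.pr_mem q u) h2
  obtain ⟨v₃, hv₃, p₃, q₃⟩ := exists_perp_aniso (H.nd r) (H.rk r) (H.pr_mem r u) h3
  rw [H.polar_pr hv₁] at p₁
  rw [H.polar_pr hv₂] at p₂
  rw [H.polar_pr hv₃] at p₃
  have same : ∀ i k, i ≠ k → ∀ v ∈ D i, ∀ w ∈ D k, Q v ≠ 0 → Q w ≠ 0 → IsSquare (Q v / Q w) →
      polar Q v u = 0 → polar Q w u = 0 → False := by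
    rintro i k hik v hv w hw hQv hQw ⟨c, hc⟩ hvu hwu
    refine key i k hik v hv (c • w) ((D k).smul_mem c hw) hQv ?_ hvu (by rw [polar_smul_left', hwu, mul_zero])
    rw [qmap_smul, pow_two, ← hc, div_mul_cancel₀ _ hQw]
  by_cases h12 : IsSquare (Q v₁ / Q v₂)
  · exact same p q hpq v₁ hv₁ v₂ hv₂ q₁ q₂ h12 p₁ p₂
  by_cases h13 : IsSquare (Q v₁ / Q v₃)
  · exact same p r hpr v₁ hv₁ v₃ hv₃ q₁ q₃ h13 p₁ p₃
  by_cases h2' : (2 : F) = 0
  · exact h12 (isSquare_of_two_eq_zero h2' _)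
  refine same q r hqr v₂ hv₂ v₃ hv₃ q₂ q₃ ?_ p₂ p₃
  rw [show Q v₂ / Q v₃ = (Q v₁ / Q v₃) / (Q v₁ / Q v₂) by field_simp, div_eq_mul_inv]
  exact (isSquare_mul_iff h2' (div_ne_zero q₁ q₃) (inv_ne_zero (div_ne_zero q₁ q₂))).2
    (iff_of_false h13 (by rw [isSquare_inv]; exact h12))

end PDec

end Cfsg.Agent.H72.OrthPlanes
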