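import Cfsg.Agent.H72.OrthPlanes.Elements

/-!
If `X` has no new element stabilising a block, a product `r_z r_u` in `X` with `z` in a block has `u` in a block.
-/

set_option autoImplicit false
set_option linter.unusedSectionVars false

namespace Cfsg.Agent.H72.OrthPlanes

open QuadraticMap Module Cfsg.Agent.Orthogonal

variable {F V : Type*} [Field F] [AddCommGroup V] [Module F V] {Q : QuadraticForm F V} {t : ℕ}
  {D : Fin t → Submodule F V} {X : Subgroup (O Q)}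

/-- No element of `X` stabilises a block without permuting all of them. -/
def NoStab (D : Fin t → Submodule F V) (X : Subgroup (O Q)) : Prop :=
  ∀ y ∈ X, (∃ i, ∀ v ∈ D i, (y : V ≃ₗ[F] V) v ∈ D i) → Perm D y

/-- `r_z r_u` lies in `X` and `u` lies in no block. -/
structure Link (D : Fin t → Submodule F V) (X : Subgroup (O Q)) (z u : V) : Prop where
  val : Q u = Q z
  orth : polar Q z u = 0
  mem : rot Q z u ∈ X
  wide : ∀ i, u ∉ D i

/-- Four indices. -/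
theorem exists_four {α : Type*} [DecidableEq α] {S : Finset α} (h : 4 ≤ S.card) :
    ∃ p ∈ S, ∃ q ∈ S, ∃ r ∈ S, ∃ s ∈ S, p ≠ q ∧ p ≠ r ∧ p ≠ s ∧ q ≠ r ∧ q ≠ s ∧ r ≠ s := by
  obtain ⟨p, hp⟩ := Finset.card_pos.1 (show 0 < S.card by omega)
  obtain ⟨q, hq⟩ := Finset.card_pos.1 (show 0 < (S.erase p).card by rw [Finset.card_erase_of_mem hp]; omega)
  obtain ⟨r, hr⟩ := Finset.card_pos.1 (show 0 < ((S.erase p).erase q).card by
    rw [Finset.card_erase_of_mem hq, Finset.card_erase_of_mem hp]; omega)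
  obtain ⟨s, hs⟩ := Finset.card_pos.1 (show 0 < (((S.erase p).erase q).erase r).card by
    rw [Finset.card_erase_of_mem hr, Finset.card_erase_of_mem hq, Finset.card_erase_of_mem hp]; omega)
  simp only [Finset.mem_erase] at hq hr hs
  exact ⟨p, hp, q, hq.2, r, hr.2.2, s, hs.2.2.2, hq.1.symm, hr.2.1.symm, hs.2.2.1.symm, hr.1.symm, hs.2.1.symm,
    hs.1.symm⟩

namespace PDec

variable [FiniteDimensional F V] (H : PDec Q D)
include H

theorem link_full (hNW : NoStab D X) {a : Fin t} {z : V} (hz : z ∈ D a) (hQz : Q z ≠ 0) {u : V}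
    (L : Link D X z u) (i : Fin t) : H.pr i u ≠ 0 := by
  intro h0
  have hfix : ∀ v ∈ D i, (rot Q z u : V ≃ₗ[F] V) v ∈ D i := fun v hv => by
    rw [rot, Subgroup.coe_mul, mul_app, rO_fix (v := u) (x := v) (by rw [polar_comm]; exact H.polar_of_pr_zero hv h0)]
    exact H.rO_block hz hv
  have hp := (H.perm_rO hz).mul (hNW _ L.mem ⟨i, hfix⟩)
  rw [rot, ← mul_assoc, rO_mul_self, one_mul] at hp
  obtain ⟨j, hj⟩ := H.exists_block_of_perm_rO (by rw [L.val]; exact hQz) hp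
  exact L.wide j hj

theorem two_of_not_mem {v : V} {p q : Fin t} (hpq : p ≠ q) (hp : H.pr p v ≠ 0) (hq : H.pr q v ≠ 0) (i : Fin t) :
    v ∉ D i := fun h => by
  rcases eq_or_ne p i with rfl | hpi
  · exact hq (H.pr_other h hpq.symm)
  · exact hp (H.pr_other h hpi)

omit [FiniteDimensional F V] in
/-- The image of `h u` under `r_u` is again linked, unless it lies in a block. -/
theorem link_move {z : V} (_hQz : Q z ≠ 0) {u : V} (L : Link D X z u) {h : O Q} (hh : h ∈ X)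
    (hhz : (h : V ≃ₗ[F] V) z = z) (hw : ∀ i, (rO Q u : V ≃ₗ[F] V) ((h : V ≃ₗ[F] V) u) ∉ D i) :
    Link D X z ((rO Q u : V ≃ₗ[F] V) ((h : V ≃ₗ[F] V) u)) := by
  set hu := (h : V ≃ₗ[F] V) u with hhu
  set w := (rO Q u : V ≃ₗ[F] V) hu with hw'
  have hzu : rO Q z * rO Q u = rO Q u * rO Q z := rO_comm_of_orth L.orth
  have h1 : polar Q z hu = 0 := by rw [← hhz, hhu, O.polar_app, L.orth]
  have hz1 : rO Q z * rO Q hu = rO Q hu * rO Q z := rO_comm_of_orth h1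
  refine ⟨by rw [hw', O.map_app, hhu, O.map_app, L.val], ?_, ?_, hw⟩
  · rw [← rO_fix (Q := Q) (v := u) (x := z) (by rw [polar_comm]; exact L.orth), hw', O.polar_app, h1]
  have hm : rot Q z hu ∈ X := by
    have := X.mul_mem (X.mul_mem hh L.mem) (X.inv_mem hh)
    have e : h * rot Q z u * h⁻¹ = (h * rO Q z * h⁻¹) * (h * rO Q u * h⁻¹) := by rw [rot]; group
    rwa [e, conj_rO, conj_rO, hhz, ← hhu] at this
  have hres : rot Q z w = rot Q z u * rot Q z hu * rot Q z u := by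
    have e : rO Q w = rO Q u * rO Q hu * rO Q u := by rw [hw', ← conj_rO, rO_inv]
    rw [rot, rot, rot, e]
    calc rO Q z * (rO Q u * rO Q hu * rO Q u)
        = rO Q z * rO Q u * (rO Q hu * 1) * rO Q u := by rw [mul_one, ← mul_assoc, ← mul_assoc]
      _ = rO Q z * rO Q u * (rO Q hu * (rO Q z * rO Q z)) * rO Q u := by rw [rO_mul_self]
      _ = rO Q z * rO Q u * ((rO Q hu * rO Q z) * rO Q z) * rO Q u := by rw [← mul_assoc (rO Q hu)]
      _ = rO Q z * rO Q u * (rO Q z * rO Q hu) * (rO Q z * rO Q u) := by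
        rw [← hz1, ← mul_assoc (rO Q z * rO Q u), mul_assoc (rO Q z * rO Q u * (rO Q z * rO Q hu))]
  rw [hres]
  exact X.mul_mem (X.mul_mem L.mem hm) L.mem

theorem pr_move (u : V) {h : O Q} (hst : ∀ i, ∀ v ∈ D i, (h : V ≃ₗ[F] V) v ∈ D i) (i : Fin t) :
    H.pr i ((rO Q u : V ≃ₗ[F] V) ((h : V ≃ₗ[F] V) u)) =
      (h : V ≃ₗ[F] V) (H.pr i u) - ((Q u)⁻¹ * polar Q u ((h : V ≃ₗ[F] V) u)) • H.pr i u := by
  rw [rO_app, map_sub, map_smul, H.pr_app_of_stab hst]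

/-- A linked vector cannot be moved to one with a zero and two nonzero components. -/
theorem link_kill (hNW : NoStab D X) {a : Fin t} {z : V} (hz : z ∈ D a) (hQz : Q z ≠ 0) {u : V}
    (L : Link D X z u) {h : O Q} (hh : h ∈ X) (hhz : (h : V ≃ₗ[F] V) z = z)
    {l p q : Fin t} (hpq : p ≠ q) (hl : H.pr l ((rO Q u : V ≃ₗ[F] V) ((h : V ≃ₗ[F] V) u)) = 0)
    (hp : H.pr p ((rO Q u : V ≃ₗ[F] V) ((h : V ≃ₗ[F] V) u)) ≠ 0)
    (hq : H.pr q ((rO Q u : V ≃ₗ[F] V) ((h : V ≃ₗ[F] V) u)) ≠ 0) : False :=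
  H.link_full hNW hz hQz (H.link_move hQz L hh hhz (H.two_of_not_mem hpq hp hq)) l hl

end PDec

/-- All three pairings of four values have a vanishing sum only in a few configurations. -/
theorem pairing_cases {A B C E : F} (h2 : (2 : F) ≠ 0) :
    (A = 0 ∧ B = 0) ∨ (A = 0 ∧ C = 0) ∨ (A = 0 ∧ E = 0) ∨ (B = 0 ∧ C = 0) ∨ (B = 0 ∧ E = 0) ∨ (C = 0 ∧ E = 0) ∨
    (A + B ≠ 0 ∧ C + E ≠ 0) ∨ (A + C ≠ 0 ∧ B + E ≠ 0) ∨ (A + E ≠ 0 ∧ B + C ≠ 0) ∨
    (B = -A ∧ C = -A ∧ E = -A) ∨ (A = -B ∧ C = -B ∧ E = -B) ∨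
    (A = -C ∧ B = -C ∧ E = -C) ∨ (A = -E ∧ B = -E ∧ C = -E) := by
  have key : ∀ x : F, 2 * x = 0 → x = 0 := fun x hx => (mul_eq_zero.1 hx).resolve_left h2
  by_cases h1 : A + B = 0 <;> by_cases h3 : C + E = 0 <;> by_cases h4 : A + C = 0 <;>
    by_cases h5 : B + E = 0 <;> by_cases h6 : A + E = 0 <;> by_cases h7 : B + C = 0
  all_goals first
    | exact Or.inr (Or.inr (Or.inr (Or.inr (Or.inr (Or.inr (Or.inl ⟨h1, h3⟩))))))
    | exact Or.inr (Or.inr (Or.inr (Or.inr (Or.inr (Or.inr (Or.inr (Or.inl ⟨h4, h5⟩)))))))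
    | exact Or.inr (Or.inr (Or.inr (Or.inr (Or.inr (Or.inr (Or.inr (Or.inr (Or.inl ⟨h6, h7⟩))))))))
    | grind

namespace PDec

variable [FiniteDimensional F V] [Fintype F] (H : PDec Q D)
include H

/-- A linked vector with two singular components is impossible, in odd characteristic. -/
theorem link_two_singular (hX : Over D X) (hNW : NoStab D X) (h2 : (2 : F) ≠ 0) {a p q r : Fin t} {z : V}
    (hz : z ∈ D a) (hQz : Q z ≠ 0) {u : V} (L : Link D X z u) (hpa : p ≠ a) (hqa : q ≠ a) (hra : r ≠ a)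
    (hpq : p ≠ q) (hrp : r ≠ p) (hrq : r ≠ q) (hp0 : Q (H.pr p u) = 0) (hq0 : Q (H.pr q u) = 0) : False := by
  classical
  have hn := H.link_full hNW hz hQz L
  obtain ⟨f, hf, hQf, hef, -, -⟩ := exists_hyperbolic (H.nd p) (H.rk p) (H.pr_mem p u) (hn p) hp0
  obtain ⟨f', hf', hQf', hef', -, -⟩ := exists_hyperbolic (H.nd q) (H.rk q) (H.pr_mem q u) (hn q) hq0
  set e := H.pr p u with he
  set e' := H.pr q u with he'
  have hep := H.pr_mem p u
  have heq := H.pr_mem q u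
  rw [← he] at hep
  rw [← he'] at heq
  have q1 : Q (e + f) = 1 := by simpa using hyp_q hp0 hQf hef 1 1
  have q2 : Q (e + (2 : F) • f) = 2 := by simpa using hyp_q hp0 hQf hef 1 2
  have q3 : Q (e' + f') = 1 := by simpa using hyp_q hq0 hQf' hef' 1 1
  have q4 : Q (e' + (2 : F) • f') = 2 := by simpa using hyp_q hq0 hQf' hef' 1 2
  have ha₁ := (D p).add_mem hep hf
  have hb₁ := (D p).add_mem hep ((D p).smul_mem (2 : F) hf)
  have ha₂ := (D q).add_mem heq hf'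
  have hb₂ := (D q).add_mem heq ((D q).smul_mem (2 : F) hf')
  set h := rot Q (e + f) (e + (2 : F) • f) * rot Q (e' + f') (e' + (2 : F) • f') with hh
  have hmem : h ∈ X := H.rot_rot_mem hX hpq ha₁ hb₁ ha₂ hb₂ (by rw [q1]; exact one_ne_zero)
    (by rw [q2]; exact h2) (by rw [q3, q1]) (by rw [q4, q2])
  have hst : ∀ i, ∀ v ∈ D i, (h : V ≃ₗ[F] V) v ∈ D i := fun i v hv => by
    rw [hh, Subgroup.coe_mul, mul_app]; exact H.rot_block ha₁ hb₁ (H.rot_block ha₂ hb₂ hv)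
  have hfix : ∀ i, i ≠ p → i ≠ q → ∀ v ∈ D i, (h : V ≃ₗ[F] V) v = v := fun i hip hiq v hv => by
    rw [hh, Subgroup.coe_mul, mul_app, H.rot_fix_block ha₂ hb₂ hiq hv, H.rot_fix_block ha₁ hb₁ hip hv]
  have hp : (h : V ≃ₗ[F] V) e = (2 : F) • e := by
    rw [hh, Subgroup.coe_mul, mul_app, H.rot_fix_block ha₂ hb₂ hpq hep, hyp_rot hp0 hQf hef h2]
  have hq : (h : V ≃ₗ[F] V) e' = (2 : F) • e' := by
    rw [hh, Subgroup.coe_mul, mul_app, hyp_rot hq0 hQf' hef' h2, map_smul, H.rot_fix_block ha₁ hb₁ hpq.symm heq]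
  have hQu : Q u ≠ 0 := by rw [L.val]; exact hQz
  have hβ : (Q u)⁻¹ * polar Q u ((h : V ≃ₗ[F] V) u) = 2 := by
    rw [H.polar_app_stab hst u {p, q} (fun i hi => hfix i (fun e => hi (by simp [e])) (fun e => hi (by simp [e]))
      _ (H.pr_mem i u)), Finset.sum_pair hpq, ← he, ← he', hp, hq]
    rw [polar_smul_left', polar_smul_left', polar_self', polar_self', hp0, hq0]
    field_simp
    ring
  refine H.link_kill hNW hz hQz L hmem (hfix a hpa.symm hqa.symm z hz) (l := p) (p := a) (q := r) hra.symm ?_ ?_ ?_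
  · rw [H.pr_move u hst, ← he, hp, hβ, sub_self]
  · rw [H.pr_move u hst, hfix a hpa.symm hqa.symm _ (H.pr_mem a u), hβ, two_smul, sub_add_eq_sub_sub, sub_self,
      zero_sub, neg_ne_zero]
    exact hn a
  · rw [H.pr_move u hst, hfix r hrp hrq _ (H.pr_mem r u), hβ, two_smul, sub_add_eq_sub_sub, sub_self,
      zero_sub, neg_ne_zero]
    exact hn r

variable {δ η : F} (hk : Kind δ η) (hT : ∀ i, ∀ T ∈ tset δ η, Realises Q (D i) T)
include hk hT

omit hk in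
/-- The rotation pair used on two blocks. -/
theorem exists_pair_rot (hX : Over D X) {p q : Fin t} (hpq : p ≠ q) {T : F} (hTm : T ∈ tset δ η) :
    ∃ h ∈ X, (∀ i, ∀ v ∈ D i, (h : V ≃ₗ[F] V) v ∈ D i) ∧ (∀ i, i ≠ p → i ≠ q → ∀ v ∈ D i, (h : V ≃ₗ[F] V) v = v) ∧
      ∀ i, i = p ∨ i = q → ∀ v ∈ D i, polar Q ((h : V ≃ₗ[F] V) v) v = (T + 2) * Q v ∧
        (T ≠ 0 → (h : V ≃ₗ[F] V) v = v → v = 0) := by
  obtain ⟨a, ha, b, hb, hQa, hQb, hab⟩ := hT p T hTm
  obtain ⟨e, he⟩ := H.isom p q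
  set a' : V := ((e ⟨a, ha⟩ : D q) : V) with ha'def
  set b' : V := ((e ⟨b, hb⟩ : D q) : V) with hb'def
  have ha' : a' ∈ D q := Subtype.prop _
  have hb' : b' ∈ D q := Subtype.prop _
  have hQa' : Q a' = Q a := he ⟨a, ha⟩
  have hQb' : Q b' = Q b := he ⟨b, hb⟩
  have hpol : polar Q a' b' = polar Q a b := by
    have h1 := he (⟨a, ha⟩ + ⟨b, hb⟩)
    rw [map_add, Submodule.coe_add, Submodule.coe_add] at h1
    simp only [polar, ha'def, hb'def, h1, he]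
  have hab' : tval Q a' b' = T := by rw [tval, hpol, hQa', hQb', ← tval, hab]
  refine ⟨rot Q a b * rot Q a' b', H.rot_rot_mem hX hpq ha hb ha' hb' hQa hQb hQa' hQb',
    fun i v hv => by rw [Subgroup.coe_mul, mul_app]; exact H.rot_block ha hb (H.rot_block ha' hb' hv),
    fun i hip hiq v hv => by rw [Subgroup.coe_mul, mul_app, H.rot_fix_block ha' hb' hiq hv,
      H.rot_fix_block ha hb hip hv], ?_⟩
  rintro i (rfl | rfl) v hv <;> rw [Subgroup.coe_mul, mul_app]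
  · rw [H.rot_fix_block ha' hb' hpq hv]
    exact ⟨by rw [polar_rot (H.rk i) ha hb hQa hQb hv, hab], fun hT0 h =>
      rot_fix_only (H.nd i) (H.rk i) ha hb hQa hQb (li_of_tval_ne hQa hQb (by rw [hab]; exact hT0)) hv h⟩
  · rw [H.rot_fix_block ha hb hpq.symm (H.rot_block ha' hb' hv)]
    exact ⟨by rw [polar_rot (H.rk i) ha' hb' (hQa'.symm ▸ hQa) (hQb'.symm ▸ hQb) hv, hab'], fun hT0 h =>
      rot_fix_only (H.nd i) (H.rk i) ha' hb' (hQa'.symm ▸ hQa) (hQb'.symm ▸ hQb)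
        (li_of_tval_ne (hQa'.symm ▸ hQa) (hQb'.symm ▸ hQb) (by rw [hab']; exact hT0)) hv h⟩

/-- Two pairs with nonzero sums of values are impossible. -/
theorem link_pairs (hX : Over D X) (hNW : NoStab D X) (h2 : (2 : F) ≠ 0) {a p q r s : Fin t} {z : V}
    (hz : z ∈ D a) (hQz : Q z ≠ 0) {u : V} (L : Link D X z u) (hpa : p ≠ a) (hqa : q ≠ a) (hra : r ≠ a)
    (hsa : s ≠ a) (hpq : p ≠ q) (hpr : p ≠ r) (hps : p ≠ s) (hqr : q ≠ r) (hqs : q ≠ s) (hrs : r ≠ s)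
    (h1 : Q (H.pr p u) + Q (H.pr q u) ≠ 0) (h3 : Q (H.pr r u) + Q (H.pr s u) ≠ 0) : False := by
  classical
  have hn := H.link_full hNW hz hQz L
  have hQu : Q u ≠ 0 := by rw [L.val]; exact hQz
  obtain ⟨T, hTm, T', hTm', hsum⟩ := exists_pair_odd hk h2 h1 h3 (-Q u)
  obtain ⟨g, hgX, hgst, hgfix, hgP⟩ := H.exists_pair_rot hT hX hpq hTm
  obtain ⟨g', hgX', hgst', hgfix', hgR⟩ := H.exists_pair_rot hT hX hrs hTm'
  have hst : ∀ i, ∀ v ∈ D i, ((g * g' : O Q) : V ≃ₗ[F] V) v ∈ D i := fun i v hv => by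
    rw [Subgroup.coe_mul, mul_app]; exact hgst i _ (hgst' i v hv)
  have hfa : ∀ v ∈ D a, ((g * g' : O Q) : V ≃ₗ[F] V) v = v := fun v hv => by
    rw [Subgroup.coe_mul, mul_app, hgfix' a hra.symm hsa.symm v hv, hgfix a hpa.symm hqa.symm v hv]
  have hP : ∀ i, i = p ∨ i = q → ∀ v ∈ D i, ((g * g' : O Q) : V ≃ₗ[F] V) v = (g : V ≃ₗ[F] V) v := by
    rintro i (rfl | rfl) v hv <;> rw [Subgroup.coe_mul, mul_app]
    · rw [hgfix' i hpr hps v hv]
    · rw [hgfix' i hqr hqs v hv]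
  have hR : ∀ i, i = r ∨ i = s → ∀ v ∈ D i, ((g * g' : O Q) : V ≃ₗ[F] V) v = (g' : V ≃ₗ[F] V) v := by
    rintro i (rfl | rfl) v hv <;> rw [Subgroup.coe_mul, mul_app]
    · rw [hgfix i hpr.symm hqr.symm _ (hgst' i v hv)]
    · rw [hgfix i hps.symm hqs.symm _ (hgst' i v hv)]
  have hβ : (Q u)⁻¹ * polar Q u (((g * g' : O Q) : V ≃ₗ[F] V) u) = 1 := by
    rw [H.polar_app_stab hst u {p, q, r, s} (fun i hi => by
      simp only [Finset.mem_insert, Finset.mem_singleton, not_or] at hi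
      rw [Subgroup.coe_mul, mul_app, hgfix' i hi.2.2.1 hi.2.2.2 _ (H.pr_mem i u),
        hgfix i hi.1 hi.2.1 _ (H.pr_mem i u)])]
    rw [Finset.sum_insert (by simp [hpq, hpr, hps]), Finset.sum_insert (by simp [hqr, hqs]),
      Finset.sum_pair hrs, hP p (Or.inl rfl) _ (H.pr_mem p u), hP q (Or.inr rfl) _ (H.pr_mem q u),
      hR r (Or.inl rfl) _ (H.pr_mem r u), hR s (Or.inr rfl) _ (H.pr_mem s u),
      (hgP p (Or.inl rfl) _ (H.pr_mem p u)).1, (hgP q (Or.inr rfl) _ (H.pr_mem q u)).1,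
      (hgR r (Or.inl rfl) _ (H.pr_mem r u)).1, (hgR s (Or.inr rfl) _ (H.pr_mem s u)).1]
    field_simp
    linear_combination hsum
  have hzero : H.pr a ((rO Q u : V ≃ₗ[F] V) (((g * g' : O Q) : V ≃ₗ[F] V) u)) = 0 := by
    rw [H.pr_move u hst, hfa _ (H.pr_mem a u), hβ, one_smul, sub_self]
  have hmove : ∀ i, ((g * g' : O Q) : V ≃ₗ[F] V) (H.pr i u) ≠ H.pr i u →
      H.pr i ((rO Q u : V ≃ₗ[F] V) (((g * g' : O Q) : V ≃ₗ[F] V) u)) ≠ 0 := fun i hi => by
    rw [H.pr_move u hst, hβ, one_smul]; exact sub_ne_zero.2 hi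
  rcases eq_or_ne T 0 with hT0 | hT0
  · have hT'0 : T' ≠ 0 := fun e => hQu (by rw [hT0, e] at hsum; linear_combination hsum)
    refine H.link_kill hNW hz hQz L (X.mul_mem hgX hgX') (hfa z hz) hrs hzero (hmove r ?_) (hmove s ?_)
    · rw [hR r (Or.inl rfl) _ (H.pr_mem r u)]
      exact fun h => hn r ((hgR r (Or.inl rfl) _ (H.pr_mem r u)).2 hT'0 h)
    · rw [hR s (Or.inr rfl) _ (H.pr_mem s u)]
      exact fun h => hn s ((hgR s (Or.inr rfl) _ (H.pr_mem s u)).2 hT'0 h)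
  · refine H.link_kill hNW hz hQz L (X.mul_mem hgX hgX') (hfa z hz) hpq hzero (hmove p ?_) (hmove q ?_)
    · rw [hP p (Or.inl rfl) _ (H.pr_mem p u)]
      exact fun h => hn p ((hgP p (Or.inl rfl) _ (H.pr_mem p u)).2 hT0 h)
    · rw [hP q (Or.inr rfl) _ (H.pr_mem q u)]
      exact fun h => hn q ((hgP q (Or.inr rfl) _ (H.pr_mem q u)).2 hT0 h)

/-- Three equal values and one opposite are impossible. -/
theorem link_star (hX : Over D X) (hNW : NoStab D X) (h2 : (2 : F) ≠ 0) (hq5 : 5 ≤ Fintype.card F)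
    {a p q r s : Fin t} {z : V} (hz : z ∈ D a) (hQz : Q z ≠ 0) {u : V} (L : Link D X z u) (hpa : p ≠ a)
    (hqa : q ≠ a) (hra : r ≠ a) (hsa : s ≠ a) (hpq : p ≠ q) (hpr : p ≠ r) (hps : p ≠ s) (hqr : q ≠ r)
    (hqs : q ≠ s) (hrs : r ≠ s) {v : F} (hvp : Q (H.pr p u) = -v) (hvq : Q (H.pr q u) = v)
    (hvr : Q (H.pr r u) = v) (hvs : Q (H.pr s u) = v) : False := by
  classical
  rcases eq_or_ne v 0 with rfl | hv0
  · exact H.link_two_singular hX hNW h2 hz hQz L hpa hqa hra hpq hpr.symm hqr.symm (by rw [hvp, neg_zero]) hvq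
  have hn := H.link_full hNW hz hQz L
  have hQu : Q u ≠ 0 := by rw [L.val]; exact hQz
  obtain ⟨T, hTm, hT1⟩ : ∃ T ∈ tfin δ η, T ≠ 1 := by
    by_contra hc
    push Not at hc
    have h1 := Finset.card_le_card (show tfin δ η ⊆ {1} from fun T hT => Finset.mem_singleton.2 (hc T hT))
    rw [Finset.card_singleton] at h1
    have := card_tfin hk
    have := card_le_two_mul_pfin (F := F)
    omega
  have hT0 := ne_zero_of_mem_tfin hk hTm
  obtain ⟨g, hgX, hgst, hgfix, hgP⟩ := H.exists_pair_rot hT hX hpq (tfin_subset hTm)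
  have hβ : (Q u)⁻¹ * polar Q u ((g : V ≃ₗ[F] V) u) = 2 := by
    rw [H.polar_app_stab hgst u {p, q} (fun i hi => hgfix i (fun e => hi (by simp [e])) (fun e => hi (by simp [e]))
      _ (H.pr_mem i u)), Finset.sum_pair hpq, (hgP p (Or.inl rfl) _ (H.pr_mem p u)).1,
      (hgP q (Or.inr rfl) _ (H.pr_mem q u)).1, hvp, hvq]
    field_simp
    ring
  set w := (rO Q u : V ≃ₗ[F] V) ((g : V ≃ₗ[F] V) u) with hw
  have hother : ∀ i, i ≠ p → i ≠ q → H.pr i w = -H.pr i u := fun i hip hiq => by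
    rw [hw, H.pr_move u hgst, hgfix i hip hiq _ (H.pr_mem i u), hβ, two_smul]; abel
  have hrot : ∀ i, i = p ∨ i = q → Q (H.pr i w) = (1 - 2 * T) * Q (H.pr i u) := fun i hi => by
    rw [hw, H.pr_move u hgst, hβ, qmap_sub, qmap_smul, O.map_app, polar_smul_right',
      (hgP i hi _ (H.pr_mem i u)).1]
    ring
  have L' : Link D X z w := H.link_move hQz L hgX (hgfix a hpa.symm hqa.symm z hz)
    (H.two_of_not_mem hrs (by rw [← hw, hother r hpr.symm hqr.symm, neg_ne_zero]; exact hn r)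
      (by rw [← hw, hother s hps.symm hqs.symm, neg_ne_zero]; exact hn s))
  have er : Q (H.pr r w) = v := by rw [hother r hpr.symm hqr.symm, QuadraticMap.map_neg, hvr]
  have es : Q (H.pr s w) = v := by rw [hother s hps.symm hqs.symm, QuadraticMap.map_neg, hvs]
  have ep : Q (H.pr p w) = -((1 - 2 * T) * v) := by rw [hrot p (Or.inl rfl), hvp]; ring
  have eq' : Q (H.pr q w) = (1 - 2 * T) * v := by rw [hrot q (Or.inr rfl), hvq]
  by_cases hf : 1 - 2 * T = 0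
  · exact H.link_two_singular hX hNW h2 hz hQz L' hpa hqa hra hpq hpr.symm hqr.symm
      (by rw [ep, hf, zero_mul, neg_zero]) (by rw [eq', hf, zero_mul])
  refine H.link_pairs hk hT hX hNW h2 hz hQz L' hqa hra hpa hsa hqr hpq.symm hqs hpr.symm hrs hps ?_ ?_
  · rw [eq', er, show (1 - 2 * T) * v + v = 2 * v * (1 - T) by ring]
    exact mul_ne_zero (mul_ne_zero h2 hv0) (sub_ne_zero.2 (Ne.symm hT1))
  · rw [ep, es, show -((1 - 2 * T) * v) + v = 2 * v * T by ring]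
    exact mul_ne_zero (mul_ne_zero h2 hv0) hT0

omit hk hT in
/-- In characteristic two a pair of singular components can be made anisotropic. -/
theorem link_step_two (hX : Over D X) (hNW : NoStab D X) (h2 : (2 : F) = 0) (hq4 : 4 ≤ Fintype.card F)
    {a p q : Fin t} {z : V} (hz : z ∈ D a) (hQz : Q z ≠ 0) {u : V} (L : Link D X z u) (hpa : p ≠ a)
    (hqa : q ≠ a) (hpq : p ≠ q) (hp0 : Q (H.pr p u) = 0) (hq0 : Q (H.pr q u) = 0) :
    ∃ w, Link D X z w ∧ Q (H.pr p w) ≠ 0 ∧ Q (H.pr q w) ≠ 0 ∧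
      ∀ i, i ≠ p → i ≠ q → Q (H.pr i u) ≠ 0 → Q (H.pr i w) ≠ 0 := by
  classical
  have hn := H.link_full hNW hz hQz L
  have hQu : Q u ≠ 0 := by rw [L.val]; exact hQz
  obtain ⟨f, hf, hQf, hef, -, -⟩ := exists_hyperbolic (H.nd p) (H.rk p) (H.pr_mem p u) (hn p) hp0
  obtain ⟨f', hf', hQf', hef', -, -⟩ := exists_hyperbolic (H.nd q) (H.rk q) (H.pr_mem q u) (hn q) hq0
  obtain ⟨g, -, hg⟩ := Finset.exists_mem_notMem_of_card_lt_card (s := ({0, 1} : Finset F)) (t := Finset.univ)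
    (lt_of_le_of_lt Finset.card_le_two (by rw [Finset.card_univ]; omega))
  simp only [Finset.mem_insert, Finset.mem_singleton, not_or] at hg
  obtain ⟨l, -, hl⟩ := Finset.exists_mem_notMem_of_card_lt_card (s := ({0, g * Q u} : Finset F)) (t := Finset.univ)
    (lt_of_le_of_lt Finset.card_le_two (by rw [Finset.card_univ]; omega))
  simp only [Finset.mem_insert, Finset.mem_singleton, not_or] at hl
  set m := g * Q u - l with hm
  have hm0 : m ≠ 0 := sub_ne_zero.2 (Ne.symm hl.2)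
  set e := H.pr p u with he
  set e' := H.pr q u with he'
  have q1 : Q (e + l • f) = l := by simpa using hyp_q hp0 hQf hef 1 l
  have q2 : Q (e' + m • f') = m := by simpa using hyp_q hq0 hQf' hef' 1 m
  have hx : e + l • f ∈ D p := (D p).add_mem (he ▸ H.pr_mem p u) ((D p).smul_mem _ hf)
  have hy : e' + m • f' ∈ D q := (D q).add_mem (he' ▸ H.pr_mem q u) ((D q).smul_mem _ hf')
  set h := rot Q (e + l • f) (e' + m • f') with hh
  have hmem : h ∈ X := H.rot_mem_two h2 hX hx hy (by rw [q1]; exact hl.1) (by rw [q2]; exact hm0)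
  have hst : ∀ i, ∀ v ∈ D i, (h : V ≃ₗ[F] V) v ∈ D i := fun i v hv => by
    rw [hh, rot, Subgroup.coe_mul, mul_app]; exact H.rO_block hx (H.rO_block hy hv)
  have hfix : ∀ i, i ≠ p → i ≠ q → ∀ v ∈ D i, (h : V ≃ₗ[F] V) v = v := fun i hip hiq v hv =>
    rot_fix (H.orth p i hip.symm _ hx v hv) (H.orth q i hiq.symm _ hy v hv)
  have hp : (h : V ≃ₗ[F] V) e = -(l • f) := by
    rw [hh, rot, Subgroup.coe_mul, mul_app, rO_fix (H.orth q p hpq.symm _ hy e (he ▸ H.pr_mem p u)), rO_app, q1,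
      polar_add_left, polar_smul_left', polar_self', hp0, polar_comm (⇑Q) f e, hef, mul_zero, zero_add, mul_one,
      inv_mul_cancel₀ hl.1, one_smul]
    abel
  have hq : (h : V ≃ₗ[F] V) e' = -(m • f') := by
    have h1 : (rO Q (e' + m • f') : V ≃ₗ[F] V) e' = -(m • f') := by
      rw [rO_app, q2, polar_add_left, polar_smul_left', polar_self', hq0, polar_comm (⇑Q) f' e', hef', mul_zero,
        zero_add, mul_one, inv_mul_cancel₀ hm0, one_smul]
      abel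
    rw [hh, rot, Subgroup.coe_mul, mul_app, h1, rO_fix (H.orth p q hpq _ hx _ ((D q).neg_mem ((D q).smul_mem _ hf')))]
  have hβ : (Q u)⁻¹ * polar Q u ((h : V ≃ₗ[F] V) u) = g := by
    rw [H.polar_app_stab hst u {p, q} (fun i hi => hfix i (fun e => hi (by simp [e])) (fun e => hi (by simp [e]))
      _ (H.pr_mem i u)), Finset.sum_pair hpq, ← he, ← he', hp, hq, hp0, hq0, polar_neg_left, polar_neg_left,
      polar_smul_left', polar_smul_left', polar_comm (⇑Q) f e, polar_comm (⇑Q) f' e', hef, hef', hm, h2]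
    field_simp
    linear_combination (-(Q u) * g) * h2
  set w := (rO Q u : V ≃ₗ[F] V) ((h : V ≃ₗ[F] V) u) with hw
  have hkeep : ∀ i, i ≠ p → i ≠ q → H.pr i w = (1 - g) • H.pr i u := fun i hip hiq => by
    rw [hw, H.pr_move u hst, hfix i hip hiq _ (H.pr_mem i u), hβ, sub_smul, one_smul]
  have hg1 : (1 : F) - g ≠ 0 := sub_ne_zero.2 (Ne.symm hg.2)
  have hQp : Q (H.pr p w) ≠ 0 := by
    rw [hw, H.pr_move u hst, ← he, hp, hβ, qmap_sub, QuadraticMap.map_neg, qmap_smul, qmap_smul, hQf, hp0,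
      polar_neg_left, polar_smul_left', polar_smul_right', polar_comm (⇑Q) f e, hef, mul_zero, mul_zero, add_zero,
      zero_sub, neg_neg, mul_one]
    exact mul_ne_zero hl.1 hg.1
  have hQq : Q (H.pr q w) ≠ 0 := by
    rw [hw, H.pr_move u hst, ← he', hq, hβ, qmap_sub, QuadraticMap.map_neg, qmap_smul, qmap_smul, hQf', hq0,
      polar_neg_left, polar_smul_left', polar_smul_right', polar_comm (⇑Q) f' e', hef', mul_zero, mul_zero, add_zero,
      zero_sub, neg_neg, mul_one]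
    exact mul_ne_zero hm0 hg.1
  refine ⟨w, H.link_move hQz L hmem (hfix a hpa.symm hqa.symm z hz) ?_, hQp, hQq, fun i hip hiq hi => ?_⟩
  · exact H.two_of_not_mem hpq (fun h0 => hQp (by rw [h0, map_zero])) (fun h0 => hQq (by rw [h0, map_zero]))
  · rw [hkeep i hip hiq, qmap_smul]; exact mul_ne_zero (pow_ne_zero 2 hg1) hi

/-- Three anisotropic components are impossible in characteristic two. -/
theorem link_triple (hX : Over D X) (hNW : NoStab D X) (h2 : (2 : F) = 0)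
    (hq : (∀ w ∈ asImage F, w + η ≠ 0) ∨ 8 ≤ Fintype.card F) {a p q r : Fin t} {z : V}
    (hz : z ∈ D a) (hQz : Q z ≠ 0) {u : V} (L : Link D X z u) (hpa : p ≠ a) (hqa : q ≠ a) (hra : r ≠ a)
    (hpq : p ≠ q) (hpr : p ≠ r) (hqr : q ≠ r) (h1 : Q (H.pr p u) ≠ 0) (h3 : Q (H.pr q u) ≠ 0)
    (h4 : Q (H.pr r u) ≠ 0) : False := by
  classical
  have hn := H.link_full hNW hz hQz L
  have hQu : Q u ≠ 0 := by rw [L.val]; exact hQz
  obtain ⟨T₁, hm₁, T₂, hm₂, T₃, hm₃, hsum, hT₃, hor⟩ := exists_triple_even h2 hk hq h1 h3 h4 (neg_ne_zero.2 hQu)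
  obtain ⟨a₁, ha₁, b₁, hb₁, hQa₁, hQb₁, e₁⟩ := hT p T₁ hm₁
  obtain ⟨a₂, ha₂, b₂, hb₂, hQa₂, hQb₂, e₂⟩ := hT q T₂ hm₂
  obtain ⟨a₃, ha₃, b₃, hb₃, hQa₃, hQb₃, e₃⟩ := hT r T₃ hm₃
  set h := rot Q a₁ b₁ * rot Q a₂ b₂ * rot Q a₃ b₃ with hh
  have hmem : h ∈ X := X.mul_mem (X.mul_mem (H.rot_mem_two h2 hX ha₁ hb₁ hQa₁ hQb₁)
    (H.rot_mem_two h2 hX ha₂ hb₂ hQa₂ hQb₂)) (H.rot_mem_two h2 hX ha₃ hb₃ hQa₃ hQb₃)
  have happ : ∀ x, (h : V ≃ₗ[F] V) x = (rot Q a₁ b₁ : V ≃ₗ[F] V) ((rot Q a₂ b₂ : V ≃ₗ[F] V)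
      ((rot Q a₃ b₃ : V ≃ₗ[F] V) x)) := fun x => by rw [hh, Subgroup.coe_mul, Subgroup.coe_mul, mul_app, mul_app]
  have hst : ∀ i, ∀ v ∈ D i, (h : V ≃ₗ[F] V) v ∈ D i := fun i v hv => by
    rw [happ]; exact H.rot_block ha₁ hb₁ (H.rot_block ha₂ hb₂ (H.rot_block ha₃ hb₃ hv))
  have hp : ∀ v ∈ D p, (h : V ≃ₗ[F] V) v = (rot Q a₁ b₁ : V ≃ₗ[F] V) v := fun v hv => by
    rw [happ, H.rot_fix_block ha₃ hb₃ hpr hv, H.rot_fix_block ha₂ hb₂ hpq hv]
  have hq' : ∀ v ∈ D q, (h : V ≃ₗ[F] V) v = (rot Q a₂ b₂ : V ≃ₗ[F] V) v := fun v hv => by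
    rw [happ, H.rot_fix_block ha₃ hb₃ hqr hv, H.rot_fix_block ha₁ hb₁ hpq.symm (H.rot_block ha₂ hb₂ hv)]
  have hr : ∀ v ∈ D r, (h : V ≃ₗ[F] V) v = (rot Q a₃ b₃ : V ≃ₗ[F] V) v := fun v hv => by
    rw [happ, H.rot_fix_block ha₂ hb₂ hqr.symm (H.rot_block ha₃ hb₃ hv),
      H.rot_fix_block ha₁ hb₁ hpr.symm (H.rot_block ha₃ hb₃ hv)]
  have hfix : ∀ i, i ≠ p → i ≠ q → i ≠ r → ∀ v ∈ D i, (h : V ≃ₗ[F] V) v = v := fun i hip hiq hir v hv => by
    rw [happ, H.rot_fix_block ha₃ hb₃ hir hv, H.rot_fix_block ha₂ hb₂ hiq hv, H.rot_fix_block ha₁ hb₁ hip hv]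
  have hβ : (Q u)⁻¹ * polar Q u ((h : V ≃ₗ[F] V) u) = 1 := by
    rw [H.polar_app_stab hst u {p, q, r} (fun i hi => by
      simp only [Finset.mem_insert, Finset.mem_singleton, not_or] at hi
      exact hfix i hi.1 hi.2.1 hi.2.2 _ (H.pr_mem i u))]
    rw [Finset.sum_insert (by simp [hpq, hpr]), Finset.sum_pair hqr, hp _ (H.pr_mem p u), hq' _ (H.pr_mem q u),
      hr _ (H.pr_mem r u), polar_rot (H.rk p) ha₁ hb₁ hQa₁ hQb₁ (H.pr_mem p u), e₁,
      polar_rot (H.rk q) ha₂ hb₂ hQa₂ hQb₂ (H.pr_mem q u), e₂,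
      polar_rot (H.rk r) ha₃ hb₃ hQa₃ hQb₃ (H.pr_mem r u), e₃]
    field_simp
    linear_combination hsum
  have hzero : H.pr a ((rO Q u : V ≃ₗ[F] V) ((h : V ≃ₗ[F] V) u)) = 0 := by
    rw [H.pr_move u hst, hfix a hpa.symm hqa.symm hra.symm _ (H.pr_mem a u), hβ, one_smul, sub_self]
  have hmove : ∀ i a' b', a' ∈ D i → b' ∈ D i → Q a' ≠ 0 → Q b' ≠ 0 → tval Q a' b' ≠ 0 →
      (h : V ≃ₗ[F] V) (H.pr i u) = (rot Q a' b' : V ≃ₗ[F] V) (H.pr i u) →
      H.pr i ((rO Q u : V ≃ₗ[F] V) ((h : V ≃ₗ[F] V) u)) ≠ 0 := fun i a' b' ha hb hQa hQb hne he => by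
    rw [H.pr_move u hst, hβ, one_smul, he]
    exact sub_ne_zero.2 fun hc =>
      hn i (rot_fix_only (H.nd i) (H.rk i) ha hb hQa hQb (li_of_tval_ne hQa hQb hne) (H.pr_mem i u) hc)
  have hrne := hmove r a₃ b₃ ha₃ hb₃ hQa₃ hQb₃ (by rw [e₃]; exact hT₃) (hr _ (H.pr_mem r u))
  have hz' : (h : V ≃ₗ[F] V) z = z := hfix a hpa.symm hqa.symm hra.symm z hz
  rcases hor with hT₁ | hT₂
  · exact H.link_kill hNW hz hQz L hmem hz' hpr hzero
      (hmove p a₁ b₁ ha₁ hb₁ hQa₁ hQb₁ (by rw [e₁]; exact hT₁) (hp _ (H.pr_mem p u))) hrne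
  · exact H.link_kill hNW hz hQz L hmem hz' hqr hzero
      (hmove q a₂ b₂ ha₂ hb₂ hQa₂ hQb₂ (by rw [e₂]; exact hT₂) (hq' _ (H.pr_mem q u))) hrne

end PDec

/-- The hypothesis on the field. -/
def Large (Q : QuadraticForm F V) [Fintype F] (D : Fin t → Submodule F V) : Prop :=
  ((∀ i, ∀ x ∈ D i, Q x = 0 → x = 0) ∧ Fintype.card F ≠ 3) ∨ 7 ≤ Fintype.card F

theorem five_le_card_odd [Fintype F] (hL : Large Q D) (h2 : (2 : F) ≠ 0) : 5 ≤ Fintype.card F := by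
  obtain ⟨k, hk⟩ : Odd (Fintype.card F) := by
    rw [← Nat.card_eq_fintype_card]; exact odd_natCard_of_two_ne_zero h2
  have := Fintype.one_lt_card (α := F)
  rcases hL with ⟨-, h⟩ | h <;> omega

theorem eight_le_card_even [Fintype F] (h2 : (2 : F) = 0) (h7 : 7 ≤ Fintype.card F) : 8 ≤ Fintype.card F := by
  classical
  have := two_mul_pfin h2
  omega

namespace PDec

variable [FiniteDimensional F V] [Fintype F] (H : PDec Q D)
include H

/-- There are no linked vectors. -/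
theorem not_link (hX : Over D X) (hNW : NoStab D X) (hL : Large Q D) (ht : 5 ≤ t) {a : Fin t} {z : V}
    (hz : z ∈ D a) (hQz : Q z ≠ 0) {u : V} : ¬ Link D X z u := by
  classical
  intro L
  obtain ⟨δ, η, hk, hη, hsing, hT⟩ := H.exists_kind (by omega)
  obtain ⟨p, hp, q, hq, r, hr, s, hs, hpq, hpr, hps, hqr, hqs, hrs⟩ :=
    exists_four (S := Finset.univ.erase a) (by
      rw [Finset.card_erase_of_mem (Finset.mem_univ a), Finset.card_univ, Fintype.card_fin]; omega)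
  simp only [Finset.mem_erase, Finset.mem_univ, and_true] at hp hq hr hs
  by_cases h2 : (2 : F) = 0
  · have hcase : (∀ w ∈ asImage F, w + η ≠ 0) ∨ 8 ≤ Fintype.card F :=
      hL.imp (fun h => hη h.1) (eight_le_card_even h2)
    have kill : ∀ {w : V}, Link D X z w → ∀ i j l, i ≠ a → j ≠ a → l ≠ a → i ≠ j → i ≠ l → j ≠ l →
        Q (H.pr i w) ≠ 0 → Q (H.pr j w) ≠ 0 → Q (H.pr l w) ≠ 0 → False :=
      fun Lw i j l hi hj hl hij hil hjl => H.link_triple hk hT hX hNW h2 hcase hz hQz Lw hi hj hl hij hil hjl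
    have step : ∀ {w : V}, Link D X z w → ∀ i j, i ≠ a → j ≠ a → i ≠ j → Q (H.pr i w) = 0 → Q (H.pr j w) = 0 →
        ∃ w', Link D X z w' ∧ Q (H.pr i w') ≠ 0 ∧ Q (H.pr j w') ≠ 0 ∧
          ∀ l, l ≠ i → l ≠ j → Q (H.pr l w) ≠ 0 → Q (H.pr l w') ≠ 0 := by
      intro w Lw i j hi hj hij h0 h0'
      refine H.link_step_two hX hNW h2 ?_ hz hQz Lw hi hj hij h0 h0'
      rcases hL with ⟨han, -⟩ | h
      · exact absurd (han i _ (H.pr_mem i w) h0) (H.link_full hNW hz hQz Lw i)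
      · omega
    -- two values can be made nonzero at a time
    have two : ∀ i j l m, i ≠ a → j ≠ a → l ≠ a → m ≠ a → i ≠ j → i ≠ l → i ≠ m → j ≠ l → j ≠ m → l ≠ m →
        ∀ {w : V}, Link D X z w → Q (H.pr i w) ≠ 0 → Q (H.pr j w) ≠ 0 → False := by
      intro i j l m hi hj hl hm hij hil him hjl hjm hlm w Lw h1 h3
      by_cases h4 : Q (H.pr l w) = 0
      · by_cases h5 : Q (H.pr m w) = 0
        · obtain ⟨w', Lw', hl', -, hkeep⟩ := step Lw l m hl hm hlm h4 h5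
          exact kill Lw' i j l hi hj hl hij hil hjl (hkeep i hil him h1) (hkeep j hjl hjm h3) hl'
        · exact kill Lw i j m hi hj hm hij him hjm h1 h3 h5
      · exact kill Lw i j l hi hj hl hij hil hjl h1 h3 h4
    by_cases h1 : Q (H.pr p u) = 0
    · by_cases h3 : Q (H.pr q u) = 0
      · obtain ⟨w, Lw, hp', hq', -⟩ := step L p q hp hq hpq h1 h3
        exact two p q r s hp hq hr hs hpq hpr hps hqr hqs hrs Lw hp' hq'
      · by_cases h4 : Q (H.pr r u) = 0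
        · obtain ⟨w, Lw, hp', hr', -⟩ := step L p r hp hr hpr h1 h4
          exact two p r q s hp hr hq hs hpr hpq hps hqr.symm hrs hqs Lw hp' hr'
        · exact two q r p s hq hr hp hs hqr hpq.symm hqs hpr.symm hrs hps L h3 h4
    · by_cases h3 : Q (H.pr q u) = 0
      · by_cases h4 : Q (H.pr r u) = 0
        · obtain ⟨w, Lw, hq', hr', -⟩ := step L q r hq hr hqr h3 h4
          exact two q r p s hq hr hp hs hqr hpq.symm hqs hpr.symm hrs hps Lw hq' hr'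
        · exact two p r q s hp hr hq hs hpr hpq hps hqr.symm hrs hqs L h1 h4
      · exact two p q r s hp hq hr hs hpq hpr hps hqr hqs hrs L h1 h3
  · have h5 := five_le_card_odd hL h2
    have two : ∀ i j l, i ≠ a → j ≠ a → l ≠ a → i ≠ j → l ≠ i → l ≠ j →
        Q (H.pr i u) = 0 → Q (H.pr j u) = 0 → False :=
      fun i j l hi hj hl hij hli hlj => H.link_two_singular hX hNW h2 hz hQz L hi hj hl hij hli hlj
    rcases pairing_cases (A := Q (H.pr p u)) (B := Q (H.pr q u)) (C := Q (H.pr r u)) (E := Q (H.pr s u)) h2 with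
      h | h | h | h | h | h | h | h | h | h | h | h | h
    · exact two p q r hp hq hr hpq hpr.symm hqr.symm h.1 h.2
    · exact two p r q hp hr hq hpr hpq.symm hqr h.1 h.2
    · exact two p s q hp hs hq hps hpq.symm hqs h.1 h.2
    · exact two q r p hq hr hp hqr hpq hpr h.1 h.2
    · exact two q s p hq hs hp hqs hpq hps h.1 h.2
    · exact two r s p hr hs hp hrs hpr hps h.1 h.2
    · exact H.link_pairs hk hT hX hNW h2 hz hQz L hp hq hr hs hpq hpr hps hqr hqs hrs h.1 h.2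
    · exact H.link_pairs hk hT hX hNW h2 hz hQz L hp hr hq hs hpr hpq hps hqr.symm hrs hqs h.1 h.2
    · exact H.link_pairs hk hT hX hNW h2 hz hQz L hp hs hq hr hps hpq hpr hqs.symm hrs.symm hqr h.1 h.2
    · exact H.link_star hk hT hX hNW h2 h5 hz hQz L hp hq hr hs hpq hpr hps hqr hqs hrs
        (v := -Q (H.pr p u)) (by rw [neg_neg]) h.1 h.2.1 h.2.2
    · exact H.link_star hk hT hX hNW h2 h5 hz hQz L hq hp hr hs hpq.symm hqr hqs hpr hps hrs
        (v := -Q (H.pr q u)) (by rw [neg_neg]) h.1 h.2.1 h.2.2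
    · exact H.link_star hk hT hX hNW h2 h5 hz hQz L hr hp hq hs hpr.symm hqr.symm hrs hpq hps hqs
        (v := -Q (H.pr r u)) (by rw [neg_neg]) h.1 h.2.1 h.2.2
    · exact H.link_star hk hT hX hNW h2 h5 hz hQz L hs hp hq hr hps.symm hqs.symm hrs.symm hpq hpr hqr
        (v := -Q (H.pr s u)) (by rw [neg_neg]) h.1 h.2.1 h.2.2

end PDec

end Cfsg.Agent.H72.OrthPlanes
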