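import Cfsg.Agent.H72.OrthPlanes.Final

/-!
Some image of a block vector has three anisotropic components.
-/

set_option autoImplicit false
set_option linter.unusedSectionVars false

namespace Cfsg.Agent.H72.OrthPlanes

open QuadraticMap Module Cfsg.Agent.Orthogonal

variable {F V : Type*} [Field F] [AddCommGroup V] [Module F V] {Q : QuadraticForm F V} {t : ℕ}
  {D : Fin t → Submodule F V} {X : Subgroup (O Q)}

/-- A nonzero quadratic polynomial has at most two roots. -/
theorem card_roots_le_two [Fintype F] [DecidableEq F] {A B C : F} (h : ¬(A = 0 ∧ B = 0 ∧ C = 0)) :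
    (Finset.univ.filter fun s : F => A + s * B + s ^ 2 * C = 0).card ≤ 2 := by
  by_contra hc
  push Not at hc
  obtain ⟨r, hr, s, hs, u, hu, hrs, hru, hsu⟩ := Finset.two_lt_card.1 hc
  simp only [Finset.mem_filter, Finset.mem_univ, true_and] at hr hs hu
  have e1 : B + (r + s) * C = 0 :=
    (mul_eq_zero.1 (show (r - s) * (B + (r + s) * C) = 0 by linear_combination hr - hs)).resolve_left
      (sub_ne_zero.2 hrs)
  have e2 : B + (r + u) * C = 0 :=
    (mul_eq_zero.1 (show (r - u) * (B + (r + u) * C) = 0 by linear_combination hr - hu)).resolve_left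
      (sub_ne_zero.2 hru)
  have hC : C = 0 := (mul_eq_zero.1 (show (s - u) * C = 0 by linear_combination e1 - e2)).resolve_left
    (sub_ne_zero.2 hsu)
  have hB : B = 0 := by rw [hC, mul_zero, add_zero] at e1; exact e1
  exact h ⟨by rw [hB, hC, mul_zero, mul_zero, add_zero, add_zero] at hr; exact hr, hB, hC⟩

namespace PDec

variable [FiniteDimensional F V] [Fintype F] (H : PDec Q D) (hX : Over D X) (hNW : NoStab D X)
  (hL : Large Q D) (ht : 5 ≤ t)
include H hX hNW hL ht

/-- The image of a singular block vector without component in a block. -/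
theorem singular_image {y : O Q} (hy : y ∈ X) (hyp : ¬ Perm D y) {b l : Fin t} {e f : V} (he : e ∈ D b)
    (hf : f ∈ D b) (hQe : Q e = 0) (hQf : Q f = 0) (hef : polar Q e f = 1) (h7 : 7 ≤ Fintype.card F)
    (hl : H.pr l ((y : V ≃ₗ[F] V) e) = 0) (j : Fin t) (hj : j ≠ l) :
    H.pr j ((y : V ≃ₗ[F] V) e) ≠ 0 ∧ Q (H.pr j ((y : V ≃ₗ[F] V) e)) = 0 := by
  classical
  set k := (y : V ≃ₗ[F] V) e with hk
  obtain ⟨m, -, hm⟩ := Finset.exists_mem_notMem_of_card_lt_card
    (s := (Finset.univ.filter fun s : F => -1 + s * 0 + s ^ 2 * 1 = 0) ∪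
      (Finset.univ.filter fun s : F => 1 + s * 0 + s ^ 2 * 1 = 0) ∪ {0}) (t := Finset.univ) (by
    refine lt_of_le_of_lt ((Finset.card_union_le _ _).trans (Nat.add_le_add_right (Finset.card_union_le _ _) _)) ?_
    have h1 := card_roots_le_two (A := (-1 : F)) (B := 0) (C := 1) (fun h => one_ne_zero h.2.2)
    have h3 := card_roots_le_two (A := (1 : F)) (B := 0) (C := 1) (fun h => one_ne_zero h.2.2)
    rw [Finset.card_singleton, Finset.card_univ]
    omega)
  simp only [Finset.mem_union, Finset.mem_filter, Finset.mem_univ, true_and, Finset.mem_singleton, not_or,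
    mul_zero, add_zero, mul_one] at hm
  obtain ⟨⟨hm1, hm2⟩, hm0⟩ := hm
  have hm4 : m ^ 2 * m ^ 2 ≠ 1 := fun h => by
    rcases mul_eq_zero.1 (show (-1 + m ^ 2) * (1 + m ^ 2) = 0 by linear_combination h) with h' | h'
    · exact hm1 h'
    · exact hm2 h'
  have hQa : Q (e + f) = 1 := by simpa using hyp_q hQe hQf hef 1 1
  have hQb : Q (e + m • f) = m := by simpa using hyp_q hQe hQf hef 1 m
  have ha := (D b).add_mem he hf
  have hb := (D b).add_mem he ((D b).smul_mem m hf)
  set a' := (rO Q (e + m • f) : V ≃ₗ[F] V) (e + f) with ha'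
  have ha'mem : a' ∈ D b := H.rO_block hb ha
  have hQa' : Q a' = 1 := by rw [ha', O.map_app, hQa]
  have hGe : (rot Q (e + f) a' : V ≃ₗ[F] V) e = (m ^ 2) • e := by
    rw [ha', ← rot_sq, Subgroup.coe_mul, mul_app, hyp_rot hQe hQf hef hm0, map_smul, hyp_rot hQe hQf hef hm0,
      smul_smul, pow_two]
  have hli : LinearIndependent F ![e + f, a'] := by
    by_contra hc
    by_cases hs : ∀ c : F, a' ≠ c • (e + f)
    · exact hc (linearIndependent_of_not_smul (fun h => one_ne_zero (by rw [← hQa, h, map_zero])) hs)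
    push Not at hs
    obtain ⟨c, hc'⟩ := hs
    have hc0 : c ≠ 0 := fun h => one_ne_zero (by rw [← hQa', hc', h, zero_smul, map_zero])
    rw [hc', rot, rO_smul hc0, rO_mul_self, OneMemClass.coe_one, one_app] at hGe
    have he0 : e ≠ 0 := fun h => one_ne_zero (by rw [← hef, h, polar_zero_left])
    exact hm1 (by
      have := smul_left_injective F he0 (show (1 : F) • e = (m ^ 2) • e by rw [one_smul]; exact hGe)
      linear_combination -this)
  set R := y * rot Q (e + f) a' * y⁻¹ with hR
  have hRX : R ∈ X := X.mul_mem (X.mul_mem hy (H.rot_mem hX ha ha'mem (by rw [hQa]; exact one_ne_zero)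
    (by rw [hQa', hQa]))) (X.inv_mem hy)
  have hRp : ¬ Perm D R := by
    intro hp
    rw [hR, conj_rot] at hp
    obtain ⟨-, hcase⟩ := H.residual_cases (li_of_map (g := (y : V ≃ₗ[F] V)) hli)
      (by rw [O.map_app, hQa]; exact one_ne_zero) (by rw [O.map_app, hQa']; exact one_ne_zero) hp
    obtain ⟨i, h1, h3⟩ := hcase fun h => by
      rw [← conj_rot, show y * rot Q (e + f) a' * y⁻¹ * (y * rot Q (e + f) a' * y⁻¹) =
        y * (rot Q (e + f) a' * rot Q (e + f) a') * y⁻¹ by group, conj_eq_one_iff] at h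
      have h2 := congrArg (fun g : O Q => (g : V ≃ₗ[F] V) e) h
      simp only [Subgroup.coe_mul, mul_app, OneMemClass.coe_one, one_app, hGe, map_smul, smul_smul] at h2
      have he0 : e ≠ 0 := fun h => one_ne_zero (by rw [← hef, h, polar_zero_left])
      exact hm4 (smul_left_injective F he0 (show (m ^ 2 * m ^ 2) • e = (1 : F) • e by rw [one_smul]; exact h2))
    exact hyp (H.perm_of_block_to_block hX hNW ht hy (H.maps_of_pair ha ha'mem hli h1 h3))
  obtain ⟨x, hxl, hQx⟩ : ∃ x ∈ D l, Q x ≠ 0 := by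
    obtain ⟨x, hx, -, -, -, -, hQx, -⟩ := H.exists_three_value hL l (one_ne_zero (α := F))
    exact ⟨x, hx, by rw [hQx]; exact one_ne_zero⟩
  -- the image of `x` under the conjugate rotation
  obtain ⟨c, hc⟩ : ∃ c : F, (R : V ≃ₗ[F] V) x = x + c • k := by
    set x' := ((y⁻¹ : O Q) : V ≃ₗ[F] V) x with hx'
    have hyx : (y : V ≃ₗ[F] V) x' = x := by
      rw [hx', ← mul_app, ← Subgroup.coe_mul, mul_inv_cancel, OneMemClass.coe_one, one_app]
    set p₀ := H.pr b x' with hp₀
    obtain ⟨s, r, hsr⟩ : ∃ s r : F, p₀ = s • e + r • f :=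
      mem_span_pair_of_li (H.rk b) he hf (linearIndependent_hyperbolic_pair hQe hQf hef) (H.pr_mem b x')
    have hr : r = 0 := by
      have h1 : polar Q e p₀ = 0 := by
        rw [hp₀, H.polar_pr he, ← O.polar_app y, hyx, polar_comm, ← hk]
        exact H.polar_of_pr_zero hxl hl
      rw [hsr, polar_add_right, polar_smul_right', polar_smul_right', polar_self', hQe, hef] at h1
      linear_combination h1
    refine ⟨s * (m ^ 2 - 1), ?_⟩
    have hdiff : (rot Q (e + f) a' : V ≃ₗ[F] V) x' = x' + (s * (m ^ 2 - 1)) • e := by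
      have h1 : (rot Q (e + f) a' : V ≃ₗ[F] V) (x' - p₀) = x' - p₀ :=
        rot_fix (H.polar_sub_pr ha x') (H.polar_sub_pr ha'mem x')
      rw [map_sub, hsr, hr, zero_smul, add_zero, map_smul, hGe] at h1
      rw [eq_add_of_sub_eq h1]
      module
    rw [hR, Subgroup.coe_mul, mul_app, Subgroup.coe_mul, mul_app, ← hx', hdiff, map_add, map_smul, hyx, ← hk]
  have hcomp : ∀ i, i ≠ l → H.pr i ((R : V ≃ₗ[F] V) x) = c • H.pr i k := fun i hi => by
    rw [hc, map_add, map_smul, H.pr_other hxl hi, zero_add]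
  have hfull := H.image_full hX hNW hL ht hRX hRp hxl hQx
  have hc0 : c ≠ 0 := fun h => hfull j (by rw [hcomp j hj, h, zero_smul])
  refine ⟨fun h0 => hfull j (by rw [hcomp j hj, h0, smul_zero]), ?_⟩
  by_contra hQj
  have hsum : ∑ i ∈ (Finset.univ.erase l).erase j, Q (H.pr i k) = -Q (H.pr j k) := by
    have h1 := H.q_sum k
    rw [show Q k = 0 by rw [hk, O.map_app, hQe], ← Finset.add_sum_erase _ _ (Finset.mem_univ l), hl, map_zero,
      zero_add, ← Finset.add_sum_erase _ _ (Finset.mem_erase.2 ⟨hj, Finset.mem_univ j⟩)] at h1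
    linear_combination -h1
  obtain ⟨i, hi, hQi⟩ := Finset.exists_ne_zero_of_sum_ne_zero
    (show ∑ i ∈ (Finset.univ.erase l).erase j, Q (H.pr i k) ≠ 0 by rw [hsum]; exact neg_ne_zero.2 hQj)
  simp only [Finset.mem_erase] at hi
  refine H.not_three hX hNW hL ht hRX hRp hxl hQx hj.symm hi.2.1.symm hi.1.symm ?_ ?_ ?_
  · rw [hc, map_add, map_smul, H.pr_self hxl, hl, smul_zero, add_zero]; exact hQx
  · rw [hcomp j hj, qmap_smul]; exact mul_ne_zero (pow_ne_zero 2 hc0) hQj
  · rw [hcomp i hi.2.1, qmap_smul]; exact mul_ne_zero (pow_ne_zero 2 hc0) hQi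

/-- Every element of `X` permutes the blocks. -/
theorem perm_of_noStab {y : O Q} (hy : y ∈ X) : Perm D y := by
  classical
  by_contra hyp
  set b : Fin t := ⟨0, by omega⟩
  by_cases han : ∀ i, ∀ x ∈ D i, Q x = 0 → x = 0
  · obtain ⟨z, hz, -, -, -, -, hQz, -⟩ := H.exists_three_value hL b (one_ne_zero (α := F))
    have hQz0 : Q z ≠ 0 := by rw [hQz]; exact one_ne_zero
    obtain ⟨p, -, q, -, r, -, s, -, hpq, hpr, -, hqr, -, -⟩ :=
      exists_four (S := (Finset.univ : Finset (Fin t))) (by rw [Finset.card_univ, Fintype.card_fin]; omega)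
    have hne : ∀ i, Q (H.pr i ((y : V ≃ₗ[F] V) z)) ≠ 0 := fun i h =>
      H.image_full hX hNW hL ht hy hyp hz hQz0 i (han i _ (H.pr_mem i _) h)
    exact H.not_three hX hNW hL ht hy hyp hz hQz0 hpq hpr hqr (hne p) (hne q) (hne r)
  have h7 : 7 ≤ Fintype.card F := hL.resolve_left fun h => han h.1
  obtain ⟨δ, η, -, hη, hsing, -⟩ := H.exists_kind (by omega)
  obtain ⟨e, he, he0, hQe⟩ : ∃ e ∈ D b, e ≠ 0 ∧ Q e = 0 := by
    push Not at han
    obtain ⟨i, x, hx, hQx, hx0⟩ := han
    obtain ⟨g, hg⟩ := H.isom i b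
    refine ⟨_, (g ⟨x, hx⟩).2, fun h => hx0 ?_, by rw [hg]; exact hQx⟩
    have h0 : g ⟨x, hx⟩ = 0 := Subtype.ext h
    exact congrArg Subtype.val (g.map_eq_zero_iff.1 h0)
  obtain ⟨f, hf, hQf, hef, -, -⟩ := exists_hyperbolic (H.nd b) (H.rk b) he he0 hQe
  set k := (y : V ≃ₗ[F] V) e with hk
  set k' := (y : V ≃ₗ[F] V) f with hk'
  have hQw : ∀ s : F, Q (e + s • f) = s := fun s => by simpa using hyp_q hQe hQf hef 1 s
  have hval : ∀ i (s : F), Q (H.pr i ((y : V ≃ₗ[F] V) (e + s • f))) =
      Q (H.pr i k) + s * polar Q (H.pr i k) (H.pr i k') + s ^ 2 * Q (H.pr i k') := fun i s => by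
    rw [map_add, map_smul, map_add, map_smul, map_add_polar, qmap_smul, polar_smul_right']; ring
  -- a singular value of every vector in a block means a kernel vector
  have hdeg : ∀ i, Q (H.pr i k) = 0 ∧ polar Q (H.pr i k) (H.pr i k') = 0 ∧ Q (H.pr i k') = 0 →
      H.pr i k = 0 ∨ H.pr i k' = 0 := by
    rintro i ⟨h1, h2, h3⟩
    by_contra hc
    push Not at hc
    obtain ⟨c, hc'⟩ : ∃ c : F, H.pr i k' = c • H.pr i k := by
      by_contra hn
      push Not at hn
      exact hc.1 (eq_zero_of_polar_pair (H.nd i) (H.rk i) (H.pr_mem i k) (H.pr_mem i k')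
        (linearIndependent_of_not_smul hc.1 hn) (H.pr_mem i k) (by rw [polar_self', h1, mul_zero])
        (by rw [polar_comm]; exact h2))
    have hc0 : c ≠ 0 := fun h => hc.2 (by rw [hc', h, zero_smul])
    refine H.image_full hX hNW hL ht hy hyp ((D b).add_mem he ((D b).smul_mem (-c⁻¹) hf))
      (by rw [hQw]; exact neg_ne_zero.2 (inv_ne_zero hc0)) i ?_
    rw [map_add, map_smul, map_add, map_smul, ← hk, ← hk', hc', neg_smul, inv_smul_smul₀ hc0, add_neg_cancel]
  have swap : polar Q f e = 1 := by rw [polar_comm]; exact hef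
  have hK : ∀ l, H.pr l k = 0 → ∀ j, j ≠ l → H.pr j k ≠ 0 ∧ Q (H.pr j k) = 0 := fun l hl =>
    H.singular_image hX hNW hL ht hy hyp he hf hQe hQf hef h7 hl
  have hK' : ∀ l, H.pr l k' = 0 → ∀ j, j ≠ l → H.pr j k' ≠ 0 ∧ Q (H.pr j k') = 0 := fun l hl =>
    H.singular_image hX hNW hL ht hy hyp hf he hQf hQe swap h7 hl
  let Deg := Finset.univ.filter fun i =>
    Q (H.pr i k) = 0 ∧ polar Q (H.pr i k) (H.pr i k') = 0 ∧ Q (H.pr i k') = 0
  have hDeg : Deg.card ≤ 2 := by
    by_contra hc
    push Not at hc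
    obtain ⟨i, hi, j, hj, l, hl, hij, hil, hjl⟩ := Finset.two_lt_card.1 hc
    simp only [Deg, Finset.mem_filter, Finset.mem_univ, true_and] at hi hj hl
    rcases hdeg i hi with a | a <;> rcases hdeg j hj with c | c <;> rcases hdeg l hl with d | d
    all_goals first
      | exact (hK i a j hij.symm).1 c
      | exact (hK i a l hil.symm).1 d
      | exact (hK j c l hjl.symm).1 d
      | exact (hK' i a j hij.symm).1 c
      | exact (hK' i a l hil.symm).1 d
      | exact (hK' j c l hjl.symm).1 d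
  let U : Finset F := Finset.univ.erase 0
  have hUcard : 6 ≤ U.card := by rw [Finset.card_erase_of_mem (Finset.mem_univ _), Finset.card_univ]; omega
  let Z : Fin t → Finset F := fun i => U.filter fun s => Q (H.pr i ((y : V ≃ₗ[F] V) (e + s • f))) = 0
  have hZ : ∀ i, i ∉ Deg → (Z i).card ≤ 2 := fun i hi => by
    refine le_trans (Finset.card_le_card fun s hs => ?_) (card_roots_le_two (A := Q (H.pr i k))
      (B := polar Q (H.pr i k) (H.pr i k')) (C := Q (H.pr i k')) fun h => hi (by simp [Deg, h]))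
    rw [Finset.mem_filter] at hs ⊢
    exact ⟨Finset.mem_univ _, by rw [← hval i s]; exact hs.2⟩
  suffices ∃ p q r, p ≠ q ∧ p ≠ r ∧ q ≠ r ∧ ∃ s ∈ U, s ∉ Z p ∧ s ∉ Z q ∧ s ∉ Z r by
    obtain ⟨p, q, r, hpq, hpr, hqr, s, hs, hp, hq, hr⟩ := this
    simp only [Z, Finset.mem_filter, hs, true_and] at hp hq hr
    exact H.not_three hX hNW hL ht hy hyp ((D b).add_mem he ((D b).smul_mem s hf))
      (by rw [hQw]; exact Finset.ne_of_mem_erase hs) hpq hpr hqr hp hq hr
  by_cases hd : ∃ l, l ∈ Deg
  · obtain ⟨l, hl⟩ := hd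
    obtain ⟨p, hp, q, hq, r, hr, hpq, hpr, hqr⟩ : ∃ p ∉ Deg, ∃ q ∉ Deg, ∃ r ∉ Deg, p ≠ q ∧ p ≠ r ∧ q ≠ r := by
      obtain ⟨p, hp, q, hq, r, hr, h⟩ := Finset.two_lt_card.1 (show 2 < Degᶜ.card by
        rw [Finset.card_compl, Fintype.card_fin]; omega)
      exact ⟨p, Finset.mem_compl.1 hp, q, Finset.mem_compl.1 hq, r, Finset.mem_compl.1 hr, h⟩
    -- the kernel line is singular in every block, so each block has at most one bad value
    have hone : ∀ i, i ∉ Deg → (Z i).card ≤ 1 := by
      intro i hi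
      have hil : i ≠ l := fun h => hi (h ▸ hl)
      refine Finset.card_le_one.2 fun s hs s' hs' => ?_
      simp only [Z, U, Finset.mem_filter, Finset.mem_erase, hval] at hs hs'
      by_contra hne
      refine hi (by
        simp only [Deg, Finset.mem_filter, Finset.mem_univ, true_and]
        rcases hdeg l ((Finset.mem_filter.1 hl).2) with a | a
        · have hA := (hK l a i hil).2
          rw [hA, zero_add] at hs hs'
          have h1 : polar Q (H.pr i k) (H.pr i k') + s * Q (H.pr i k') = 0 :=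
            (mul_eq_zero.1 (show s * (polar Q (H.pr i k) (H.pr i k') + s * Q (H.pr i k')) = 0 by
              linear_combination hs.2)).resolve_left hs.1.1
          have h2 : polar Q (H.pr i k) (H.pr i k') + s' * Q (H.pr i k') = 0 :=
            (mul_eq_zero.1 (show s' * (polar Q (H.pr i k) (H.pr i k') + s' * Q (H.pr i k')) = 0 by
              linear_combination hs'.2)).resolve_left hs'.1.1
          have hC := (mul_eq_zero.1 (show (s - s') * Q (H.pr i k') = 0 by linear_combination h1 - h2)).resolve_left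
            (sub_ne_zero.2 hne)
          exact ⟨hA, by rw [hC, mul_zero, add_zero] at h1; exact h1, hC⟩
        · have hC := (hK' l a i hil).2
          rw [hC, mul_zero, add_zero] at hs hs'
          have hB := (mul_eq_zero.1 (show (s - s') * polar Q (H.pr i k) (H.pr i k') = 0 by
            linear_combination hs.2 - hs'.2)).resolve_left (sub_ne_zero.2 hne)
          exact ⟨by rw [hB, mul_zero, add_zero] at hs; exact hs.2, hB, hC⟩)
    obtain ⟨s, hs, hn⟩ := Finset.exists_mem_notMem_of_card_lt_card (s := Z p ∪ Z q ∪ Z r) (t := U) (by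
      refine lt_of_le_of_lt ((Finset.card_union_le _ _).trans
        (Nat.add_le_add_right (Finset.card_union_le _ _) _)) ?_
      have := hone p hp; have := hone q hq; have := hone r hr
      omega)
    simp only [Finset.mem_union, not_or] at hn
    exact ⟨p, q, r, hpq, hpr, hqr, s, hs, hn.1.1, hn.1.2, hn.2⟩
  · push Not at hd
    obtain ⟨p, -, q, -, r, -, w, -, hpq, hpr, hpw, hqr, hqw, hrw⟩ :=
      exists_four (S := (Finset.univ : Finset (Fin t))) (by rw [Finset.card_univ, Fintype.card_fin]; omega)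
    by_contra hc
    push Not at hc
    -- every value is bad for two of four blocks
    have h2 : ∀ s ∈ U, 2 ≤ (if s ∈ Z p then 1 else 0) + (if s ∈ Z q then 1 else 0) +
        (if s ∈ Z r then 1 else 0) + (if s ∈ Z w then 1 else 0) := fun s hs => by
      have a := hc p q r hpq hpr hqr s hs
      have b := hc p q w hpq hpw hqw s hs
      have c := hc p r w hpr hpw hrw s hs
      have d := hc q r w hqr hqw hrw s hs
      by_cases h1 : s ∈ Z p <;> by_cases h3 : s ∈ Z q <;> by_cases h4 : s ∈ Z r <;> by_cases h5 : s ∈ Z w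
      all_goals first
        | (simp [h1, h3, h4, h5]; done)
        | exact absurd (a h1 h3) h4
        | exact absurd (b h1 h3) h5
        | exact absurd (c h1 h4) h5
        | exact absurd (d h3 h4) h5
    have h3 := Finset.card_nsmul_le_sum U _ 2 h2
    simp only [Finset.sum_add_distrib, Finset.sum_boole, smul_eq_mul, Nat.cast_id] at h3
    have hsub : ∀ i, (U.filter fun s => s ∈ Z i).card ≤ 2 := fun i =>
      (Finset.card_le_card fun s hs => (Finset.mem_filter.1 hs).2).trans (hZ i (hd i))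
    have := hsub p; have := hsub q; have := hsub r; have := hsub w
    omega

end PDec

end Cfsg.Agent.H72.OrthPlanes
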