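import Cfsg.Agent.H72.OrthPlanes.Elements

/-!
Sets of reflection vectors orthogonal to one block, stable under the stabiliser of the decomposition.
-/

set_option autoImplicit false
set_option linter.unusedSectionVars false

namespace Cfsg.Agent.H72.OrthPlanes

open QuadraticMap Module Cfsg.Agent.Orthogonal

variable {F V : Type*} [Field F] [AddCommGroup V] [Module F V] {Q : QuadraticForm F V} {t : ℕ}
  {D : Fin t → Submodule F V}

/-- A set of anisotropic vectors orthogonal to the block `b`, closed under its reflections. -/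
structure RSys [FiniteDimensional F V] (H : PDec Q D) (b : Fin t) (R : Set V) : Prop where
  aniso : ∀ x ∈ R, Q x ≠ 0
  avoid : ∀ x ∈ R, H.pr b x = 0
  block : ∀ l, l ≠ b → ∀ x ∈ D l, Q x ≠ 0 → x ∈ R
  refl : ∀ x ∈ R, ∀ y ∈ R, (rO Q x : V ≃ₗ[F] V) y ∈ R
  smul : ∀ x ∈ R, ∀ c : F, c ≠ 0 → c • x ∈ R
  inv : ∀ σ : O Q, Perm D σ → (∀ v ∈ D b, (σ : V ≃ₗ[F] V) v ∈ D b) → ∀ x ∈ R, (σ : V ≃ₗ[F] V) x ∈ R

variable [FiniteDimensional F V] {H : PDec Q D} {b : Fin t} {R : Set V}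

namespace RSys

variable (S : RSys H b R)
include S

theorem inv_stab {σ : O Q} (hσ : ∀ i, ∀ v ∈ D i, (σ : V ≃ₗ[F] V) v ∈ D i) {x : V} (hx : x ∈ R) :
    (σ : V ≃ₗ[F] V) x ∈ R := S.inv σ (fun i => ⟨i, hσ i⟩) (hσ b) x hx

/-- The basic move. -/
theorem move {σ : O Q} (hσ : ∀ i, ∀ v ∈ D i, (σ : V ≃ₗ[F] V) v ∈ D i) {u : V} (hu : u ∈ R) :
    (rO Q u : V ≃ₗ[F] V) ((σ : V ≃ₗ[F] V) u) ∈ R := S.refl u hu _ (S.inv_stab hσ hu)

theorem ne_of_mem {u : V} (hu : u ∈ R) {i : Fin t} (h : H.pr i u ≠ 0) : i ≠ b := fun e => h (e ▸ S.avoid u hu)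

/-- Changing the components inside their blocks, keeping the values. -/
theorem move_comps {u x : V} (hu : u ∈ R) (hQ : ∀ i, Q (H.pr i x) = Q (H.pr i u))
    (h0 : ∀ i, H.pr i x = 0 ↔ H.pr i u = 0) : x ∈ R := by
  classical
  suffices ∀ I : Finset (Fin t), ∃ w ∈ R, (∀ i ∈ I, H.pr i w = H.pr i x) ∧ ∀ i ∉ I, H.pr i w = H.pr i u by
    obtain ⟨w, hw, h, -⟩ := this Finset.univ
    rwa [← H.ext_pr fun i => h i (Finset.mem_univ i)]
  intro I
  induction I using Finset.induction_on with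
  | empty => exact ⟨u, hu, by simp, fun i _ => rfl⟩
  | @insert l I hl ih =>
    obtain ⟨w, hw, h1, h2⟩ := ih
    by_cases hz : H.pr l u = 0
    · refine ⟨w, hw, fun i hi => ?_, fun i hi => h2 i fun e => hi (Finset.mem_insert_of_mem e)⟩
      rcases Finset.mem_insert.1 hi with rfl | hi
      · rw [h2 i hl, hz, (h0 i).2 hz]
      · exact h1 i hi
    obtain ⟨g, hst, hfix, hg⟩ := H.exists_move_block (H.pr_mem l u) (H.pr_mem l x) hz
      (fun e => hz ((h0 l).1 e)) (hQ l).symm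
    refine ⟨_, S.inv_stab hst hw, fun i hi => ?_, fun i hi => ?_⟩
    · rw [H.pr_app_of_stab hst]
      rcases Finset.mem_insert.1 hi with rfl | hi
      · rw [h2 i hl, hg]
      · rw [h1 i hi, hfix i (fun e => hl (e ▸ hi)) _ (H.pr_mem i x)]
    · rw [H.pr_app_of_stab hst, h2 i fun e => hi (Finset.mem_insert_of_mem e),
        hfix i (fun e => hi (e ▸ Finset.mem_insert_self _ _)) _ (H.pr_mem i u)]

/-- Moving a component to another block. -/
theorem move_swap {u : V} (hu : u ∈ R) {i j : Fin t} (hij : i ≠ j) (hib : i ≠ b) (hjb : j ≠ b) :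
    ∃ w ∈ R, (∀ l, l ≠ i → l ≠ j → H.pr l w = H.pr l u) ∧
      Q (H.pr i w) = Q (H.pr j u) ∧ Q (H.pr j w) = Q (H.pr i u) ∧
      (H.pr i w = 0 ↔ H.pr j u = 0) ∧ (H.pr j w = 0 ↔ H.pr i u = 0) := by
  classical
  obtain ⟨g, hgi, hgj, hfix⟩ := H.exists_swap hij
  have hperm : Perm D g := fun l => by
    by_cases hli : l = i
    · subst hli; exact ⟨j, hgi⟩
    by_cases hlj : l = j
    · subst hlj; exact ⟨i, hgj⟩
    exact ⟨l, fun v hv => by rw [hfix l hli hlj v hv]; exact hv⟩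
  have hpr : ∀ l m, (∀ v ∈ D m, (g : V ≃ₗ[F] V) v ∈ D l) → (∀ n, n ≠ m → ∀ v ∈ D n,
      H.pr l ((g : V ≃ₗ[F] V) v) = 0) → H.pr l ((g : V ≃ₗ[F] V) u) = (g : V ≃ₗ[F] V) (H.pr m u) := by
    intro l m h1 h2
    conv_lhs => rw [← H.sum_pr u, map_sum, map_sum]
    rw [Finset.sum_eq_single m]
    · exact H.pr_self (h1 _ (H.pr_mem m u))
    · exact fun n _ hn => h2 n hn _ (H.pr_mem n u)
    · exact fun h => absurd (Finset.mem_univ m) h
  have himg : ∀ l n, ∀ v ∈ D n, (n = i → l ≠ j) → (n = j → l ≠ i) → (n ≠ i → n ≠ j → l ≠ n) →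
      H.pr l ((g : V ≃ₗ[F] V) v) = 0 := fun l n v hv h1 h2 h3 => by
    by_cases hni : n = i
    · subst hni; exact H.pr_other (hgi v hv) (h1 rfl)
    by_cases hnj : n = j
    · subst hnj; exact H.pr_other (hgj v hv) (h2 rfl)
    rw [hfix n hni hnj v hv]; exact H.pr_other hv (h3 hni hnj)
  have ei : H.pr i ((g : V ≃ₗ[F] V) u) = (g : V ≃ₗ[F] V) (H.pr j u) := hpr i j hgj fun n hn v hv =>
    himg i n v hv (fun _ => hij) (fun e => absurd e hn) (fun h _ => Ne.symm h)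
  have ej : H.pr j ((g : V ≃ₗ[F] V) u) = (g : V ≃ₗ[F] V) (H.pr i u) := hpr j i hgi fun n hn v hv =>
    himg j n v hv (fun e => absurd e hn) (fun _ => hij.symm) (fun _ h => Ne.symm h)
  refine ⟨_, S.inv g hperm (fun v hv => by rw [hfix b hib.symm hjb.symm v hv]; exact hv) u hu,
    fun l hli hlj => ?_, by rw [ei, O.map_app], by rw [ej, O.map_app],
    by rw [ei]; exact LinearEquiv.map_eq_zero_iff _, by rw [ej]; exact LinearEquiv.map_eq_zero_iff _⟩
  rw [hpr l l (fun v hv => by rw [hfix l hli hlj v hv]; exact hv) fun n hn v hv =>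
    himg l n v hv (fun _ => hlj) (fun _ => hli) (fun _ _ => Ne.symm hn), hfix l hli hlj _ (H.pr_mem l u)]

end RSys

/-- Every two-component vector with the given values lies in `R`. -/
def Has (_H : PDec Q D) (b : Fin t) (R : Set V) (A B : F) : Prop :=
  ∀ i j, i ≠ b → j ≠ b → i ≠ j → ∀ x ∈ D i, ∀ y ∈ D j, x ≠ 0 → y ≠ 0 → Q x = A → Q y = B → x + y ∈ R

theorem Has.symm {A B : F} (h : Has H b R A B) : Has H b R B A := fun i j hi hj hij x hx y hy hx0 hy0 hA hB => by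
  rw [add_comm]; exact h j i hj hi hij.symm y hy x hx hy0 hx0 hB hA

theorem RSys.has_smul (S : RSys H b R) {A B c : F} (hc : c ≠ 0) (h : Has H b R A B) :
    Has H b R (c ^ 2 * A) (c ^ 2 * B) := fun i j hi hj hij x hx y hy hx0 hy0 hA hB => by
  have := S.smul _ (h i j hi hj hij (c⁻¹ • x) ((D i).smul_mem _ hx) (c⁻¹ • y) ((D j).smul_mem _ hy)
    (smul_ne_zero (inv_ne_zero hc) hx0) (smul_ne_zero (inv_ne_zero hc) hy0)
    (by rw [qmap_smul, hA]; field_simp) (by rw [qmap_smul, hB]; field_simp)) c hc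
  rwa [smul_add, smul_inv_smul₀ hc, smul_inv_smul₀ hc] at this

/-- A member with two components gives all vectors with those values. -/
theorem RSys.has_of_mem (S : RSys H b R) {u : V} (hu : u ∈ R) {p q : Fin t} (hpq : p ≠ q) (hp : H.pr p u ≠ 0)
    (hq : H.pr q u ≠ 0) (hrest : ∀ l, l ≠ p → l ≠ q → H.pr l u = 0) :
    Has H b R (Q (H.pr p u)) (Q (H.pr q u)) := by
  intro i j hib hjb hij x hx y hy hx0 hy0 hA hB
  have hpb := S.ne_of_mem hu hp
  have hqb := S.ne_of_mem hu hq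
  -- first bring the component of `p` to `i`
  obtain ⟨w, hw, q', hq'i, hq'b, hwi, hwq, hwi0, hwq0, hwrest⟩ : ∃ w ∈ R, ∃ q', q' ≠ i ∧ q' ≠ b ∧
      Q (H.pr i w) = Q (H.pr p u) ∧ Q (H.pr q' w) = Q (H.pr q u) ∧ H.pr i w ≠ 0 ∧ H.pr q' w ≠ 0 ∧
      ∀ l, l ≠ i → l ≠ q' → H.pr l w = 0 := by
    rcases eq_or_ne p i with rfl | hpi
    · exact ⟨u, hu, q, hpq.symm, hqb, rfl, rfl, hp, hq, hrest⟩
    obtain ⟨w, hw, hfix, ei, ep, ei0, ep0⟩ := S.move_swap hu hpi.symm hib hpb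
    rcases eq_or_ne q i with rfl | hqi
    · exact ⟨w, hw, p, hpi, hpb, ei, ep, fun e => hp (ei0.1 e), fun e => hq (ep0.1 e),
        fun l h1 h2 => by rw [hfix l h1 h2]; exact hrest l h2 h1⟩
    · refine ⟨w, hw, q, hqi, hqb, ei, by rw [hfix q hqi hpq.symm], fun e => hp (ei0.1 e),
        by rw [hfix q hqi hpq.symm]; exact hq, fun l h1 h2 => ?_⟩
      rcases eq_or_ne l p with rfl | hlp
      · exact ep0.2 (hrest i (Ne.symm hpi) (Ne.symm hqi))
      · rw [hfix l h1 hlp]; exact hrest l hlp h2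
  obtain ⟨w', hw', ei, ej, ei0, ej0, erest⟩ : ∃ w' ∈ R, Q (H.pr i w') = Q (H.pr p u) ∧
      Q (H.pr j w') = Q (H.pr q u) ∧ H.pr i w' ≠ 0 ∧ H.pr j w' ≠ 0 ∧ ∀ l, l ≠ i → l ≠ j → H.pr l w' = 0 := by
    rcases eq_or_ne q' j with rfl | hqj
    · exact ⟨w, hw, hwi, hwq, hwi0, hwq0, hwrest⟩
    obtain ⟨w', hw', hfix, e1, e2, e10, e20⟩ := S.move_swap hw hqj.symm hjb hq'b
    refine ⟨w', hw', by rw [hfix i hij hq'i.symm, hwi], by rw [e1, hwq], by rw [hfix i hij hq'i.symm]; exact hwi0,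
      fun e => hwq0 (e10.1 e), fun l h1 h2 => ?_⟩
    rcases eq_or_ne l q' with rfl | hl
    · exact e20.2 (hwrest j hij.symm hqj.symm)
    · rw [hfix l h2 hl]; exact hwrest l h1 hl
  have pi : H.pr i (x + y) = x := by rw [map_add, H.pr_self hx, H.pr_other hy hij, add_zero]
  have pj : H.pr j (x + y) = y := by rw [map_add, H.pr_other hx hij.symm, H.pr_self hy, zero_add]
  have pl : ∀ l, l ≠ i → l ≠ j → H.pr l (x + y) = 0 := fun l h1 h2 => by
    rw [map_add, H.pr_other hx h1, H.pr_other hy h2, add_zero]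
  refine S.move_comps hw' (fun l => ?_) fun l => ?_
  · rcases eq_or_ne l i with rfl | h1
    · rw [pi, ei, hA]
    rcases eq_or_ne l j with rfl | h2
    · rw [pj, ej, hB]
    rw [pl l h1 h2, erest l h1 h2]
  · rcases eq_or_ne l i with rfl | h1
    · rw [pi]; exact iff_of_false hx0 ei0
    rcases eq_or_ne l j with rfl | h2
    · rw [pj]; exact iff_of_false hy0 ej0
    rw [pl l h1 h2, erest l h1 h2]

end Cfsg.Agent.H72.OrthPlanes
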