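import Cfsg.Agent.H72.OrthPlanes.Images
import Cfsg.Agent.H72.OrthPlanes.RSys

/-!
The vectors with two components: every pair of values with nonzero sum occurs in a reflection-closed system.
-/

set_option autoImplicit false
set_option linter.unusedSectionVars false

namespace Cfsg.Agent.H72.OrthPlanes

open QuadraticMap Module Cfsg.Agent.Orthogonal

variable {F V : Type*} [Field F] [AddCommGroup V] [Module F V] [FiniteDimensional F V] [Fintype F]
  {Q : QuadraticForm F V} {t : ℕ} {D : Fin t → Submodule F V} {H : PDec Q D} {b : Fin t} {R : Set V}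

/-- A product of two parameters in every prescribed nonzero value. -/
theorem exists_product [DecidableEq F] {δ η : F} (hk : Kind δ η) (hη : ∀ w ∈ asImage F, w + η ≠ 0) {Y : F}
    (hY : Y ≠ 0) : ∃ T ∈ tfin δ η, ∃ T' ∈ tset δ η, T' + 4 ≠ 0 ∧ T * (T' + 4) = Y := by
  have hcard := card_tfin_aniso hk hη
  have hp := card_le_two_mul_pfin (F := F)
  set K := (insert 0 (tfin δ η)).erase (-4) with hK
  have hKcard : (tfin δ η).card ≤ K.card := by
    rw [hK]
    refine le_trans ?_ Finset.pred_card_le_card_erase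
    rw [card_insert_tfin hk, Nat.add_sub_cancel]
  obtain ⟨x, hx1, hx2⟩ := exists_mem_mem_of_card (U := (Finset.univ : Finset F).erase 0) (A := tfin δ η)
    (B := K.image fun T' => Y / (T' + 4))
    (fun x hx => Finset.mem_erase.2 ⟨ne_zero_of_mem_tfin hk hx, Finset.mem_univ x⟩)
    (fun x hx => by
      obtain ⟨T', hT', rfl⟩ := Finset.mem_image.1 hx
      exact Finset.mem_erase.2 ⟨div_ne_zero hY fun h => Finset.ne_of_mem_erase hT' (eq_neg_of_add_eq_zero_left h),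
        Finset.mem_univ _⟩)
    (by
      rw [Finset.card_image_of_injOn (fun u hu v hv e => by
          have h1 : u + 4 ≠ 0 := fun h => Finset.ne_of_mem_erase hu (eq_neg_of_add_eq_zero_left h)
          have h3 : v + 4 ≠ 0 := fun h => Finset.ne_of_mem_erase hv (eq_neg_of_add_eq_zero_left h)
          field_simp at e
          linear_combination -e),
        Finset.card_erase_of_mem (Finset.mem_univ _), Finset.card_univ]
      have := Fintype.card_pos (α := F)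
      omega)
  obtain ⟨T', hT', rfl⟩ := Finset.mem_image.1 hx2
  have h4 : T' + 4 ≠ 0 := fun h => Finset.ne_of_mem_erase hT' (eq_neg_of_add_eq_zero_left h)
  exact ⟨_, hx1, T', mem_insert_tfin.1 (Finset.mem_of_mem_erase hT'), h4, div_mul_cancel₀ _ h4⟩

/-- In odd characteristic, with anisotropic planes, some parameter gives a value of nonsquare class. -/
theorem exists_param_nonsquare [DecidableEq F] {δ η : F} (hk : Kind δ η) (hη : ∀ w ∈ asImage F, w + η ≠ 0)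
    (h2 : (2 : F) ≠ 0) (hq : 5 ≤ Fintype.card F) {a : F} (ha : 4 * a ≠ 1) :
    ∃ T ∈ tset δ η, T + 4 ≠ 0 ∧ ¬ IsSquare (1 / (T + 4) - a) := by
  by_contra hc
  push Not at hc
  have h40 : (4 : F) ≠ 0 := by rw [show (4 : F) = 2 * 2 by norm_num]; exact mul_ne_zero h2 h2
  have hδ : ∀ z : F, 1 - δ * z ^ 2 ≠ 0 := by
    intro z h
    have hz : z ≠ 0 := fun e => one_ne_zero (α := F) (by rw [← h, e]; ring)
    have hwη := hη _ ⟨(1 / z - 1) / 2, rfl⟩
    refine hwη ?_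
    rw [hk.1] at h
    field_simp
    linear_combination h
  have hkey : ∀ z : F, IsSquare ((1 - δ * z ^ 2) / 4 - a) := by
    intro z
    rcases eq_or_ne z 0 with rfl | hz
    · have := hc 0 (zero_mem_tset δ η) (by rw [zero_add]; exact h40)
      convert this using 1
      ring
    set s := (1 / z - 1) / 2 with hs
    have hw : s ^ 2 + s + η = (1 - δ * z ^ 2) / (4 * z ^ 2) := by
      rw [hs, hk.1]; field_simp; ring
    have hwne : s ^ 2 + s + η ≠ 0 := by
      rw [hw]; exact div_ne_zero (hδ z) (mul_ne_zero h40 (pow_ne_zero 2 hz))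
    have hT : δ / (s ^ 2 + s + η) + 4 = 4 / (1 - δ * z ^ 2) := by
      rw [hw]
      have := hδ z
      field_simp
      ring
    have := hc _ (Or.inr ⟨s ^ 2 + s, ⟨s, rfl⟩, hwne, rfl⟩) (by rw [hT]; exact div_ne_zero h40 (hδ z))
    rwa [hT, one_div_div] at this
  set S0 := Finset.univ.image fun z : F => z ^ 2 with hS0
  have hmem : ∀ y, y ∈ S0 ↔ IsSquare y := fun y => by
    simp only [hS0, Finset.mem_image, Finset.mem_univ, true_and, IsSquare, pow_two]
    exact ⟨fun ⟨z, hz⟩ => ⟨z, hz.symm⟩, fun ⟨z, hz⟩ => ⟨z, hz.symm⟩⟩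
  have hbij : S0.image (fun y => (1 - δ * y) / 4 - a) = S0 := by
    refine Finset.eq_of_subset_of_card_le (fun x hx => ?_) ?_
    · obtain ⟨y, hy, rfl⟩ := Finset.mem_image.1 hx
      obtain ⟨z, -, rfl⟩ := Finset.mem_image.1 hy
      exact (hmem _).2 (hkey z)
    · exact (Finset.card_image_of_injective S0 fun u v e => by
        have := hk.2.1
        field_simp at e
        exact mul_left_cancel₀ this (by linear_combination -e)).ge
  -- the squares sum to zero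
  have hsum : ∑ y ∈ S0, y = 0 := by
    obtain ⟨c, -, hc'⟩ := Finset.exists_mem_notMem_of_card_lt_card (s := ({0, 1, -1} : Finset F)) (t := Finset.univ)
      (lt_of_le_of_lt Finset.card_le_three (by rw [Finset.card_univ]; omega))
    simp only [Finset.mem_insert, Finset.mem_singleton, not_or] at hc'
    have himg : S0.image (fun y => c ^ 2 * y) = S0 := by
      refine Finset.eq_of_subset_of_card_le (fun x hx => ?_) ?_
      · obtain ⟨y, hy, rfl⟩ := Finset.mem_image.1 hx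
        obtain ⟨z, -, rfl⟩ := Finset.mem_image.1 hy
        exact (hmem _).2 ⟨c * z, by ring⟩
      · exact (Finset.card_image_of_injective S0 (mul_right_injective₀ (pow_ne_zero 2 hc'.1))).ge
    have h1 : ∑ y ∈ S0, y = c ^ 2 * ∑ y ∈ S0, y := by
      conv_lhs => rw [← himg, Finset.sum_image fun u _ v _ e => mul_left_cancel₀ (pow_ne_zero 2 hc'.1) e,
        ← Finset.mul_sum]
    by_contra hne
    have h3 : c ^ 2 = 1 := mul_right_cancel₀ hne (by rw [one_mul]; exact h1.symm)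
    rcases mul_eq_zero.1 (show (c - 1) * (c + 1) = 0 by linear_combination h3) with h | h
    · exact hc'.2.1 (sub_eq_zero.1 h)
    · exact hc'.2.2 (eq_neg_of_add_eq_zero_left h)
  have hcard : 2 * S0.card = Fintype.card F + 1 := by
    have hfib : ∀ y ∈ S0.erase 0, (Finset.univ.filter fun z : F => z ^ 2 = y).card = 2 := by
      intro y hy
      obtain ⟨z, -, rfl⟩ := Finset.mem_image.1 (Finset.mem_of_mem_erase hy)
      have hz : z ≠ 0 := fun e => Finset.ne_of_mem_erase hy (by rw [e]; ring)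
      refine Finset.card_eq_two.2 ⟨z, -z, fun e => hz ((mul_eq_zero.1 (show 2 * z = 0 by linear_combination e))
        |>.resolve_left h2), ?_⟩
      ext w
      simp only [Finset.mem_filter, Finset.mem_univ, true_and, Finset.mem_insert, Finset.mem_singleton]
      constructor
      · intro h
        rcases mul_eq_zero.1 (show (w - z) * (w + z) = 0 by linear_combination h) with h | h
        · exact Or.inl (sub_eq_zero.1 h)
        · exact Or.inr (eq_neg_of_add_eq_zero_left h)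
      · rintro (rfl | rfl) <;> ring
    have h0 : (Finset.univ.filter fun z : F => z ^ 2 = 0).card = 1 :=
      Finset.card_eq_one.2 ⟨0, by ext; simp⟩
    have hm0 : (0 : F) ∈ S0 := (hmem 0).2 ⟨0, by ring⟩
    have h := Finset.card_eq_sum_card_image (fun z : F => z ^ 2) Finset.univ
    rw [← hS0, ← Finset.add_sum_erase _ _ hm0, h0, Finset.sum_const_nat hfib, Finset.card_univ,
      Finset.card_erase_of_mem hm0] at h
    have := Finset.card_pos.2 ⟨0, hm0⟩
    omega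
  have hS : (S0.card : F) * ((1 : F) / 4 - a) = 0 := by
    have h1 := hsum
    conv_lhs at h1 => rw [← hbij, Finset.sum_image fun u _ v _ e => by
      have := hk.2.1
      field_simp at e
      exact mul_left_cancel₀ this (by linear_combination -e)]
    rw [Finset.sum_congr rfl (fun y _ => show (1 - δ * y) / 4 - a = (1 / 4 - a) - δ / 4 * y by ring),
      Finset.sum_sub_distrib, ← Finset.mul_sum, hsum, mul_zero, sub_zero, Finset.sum_const, nsmul_eq_mul] at h1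
    exact h1
  have hn : (S0.card : F) ≠ 0 := fun h => one_ne_zero (α := F) (by
    have e := congrArg (fun n : ℕ => (n : F)) hcard
    simp only [Nat.cast_mul, Nat.cast_add, Nat.cast_one, Nat.cast_card_eq_zero, zero_add, h, mul_zero] at e
    exact e.symm)
  have := (mul_eq_zero.1 hS).resolve_left hn
  field_simp at this
  exact ha (by linear_combination -this)

namespace RSys

variable (S : RSys H b R) {δ η : F} (hk : Kind δ η) (hT : ∀ i, ∀ T ∈ tset δ η, Realises Q (D i) T) (ht : 5 ≤ t)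
include S hk hT ht

theorem exists_three_index : ∃ i j l : Fin t, i ≠ b ∧ j ≠ b ∧ l ≠ b ∧ i ≠ j ∧ i ≠ l ∧ j ≠ l := by
  obtain ⟨p, hp, q, hq, r, hr, s, -, hpq, hpr, -, hqr, -, -⟩ :=
    exists_four (S := (Finset.univ : Finset (Fin t)).erase b) (by
      rw [Finset.card_erase_of_mem (Finset.mem_univ b), Finset.card_univ, Fintype.card_fin]; omega)
  exact ⟨p, q, r, Finset.ne_of_mem_erase hp, Finset.ne_of_mem_erase hq, Finset.ne_of_mem_erase hr, hpq, hpr, hqr⟩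

/-- Reflecting a vector of a block. -/
theorem has_reflect {a₁ a₂ T : F} (h : Has H b R a₁ a₂) (h₁ : a₁ ≠ 0) (h₂ : a₂ ≠ 0) (hs : a₁ + a₂ ≠ 0)
    (hTm : T ∈ tset δ η) (hT4 : T + 4 ≠ 0)
    (hne : ((T + 4) * a₁ / (a₁ + a₂)) ^ 2 * a₂ ≠ (T + 4) * a₁) :
    Has H b R ((T + 4) * a₁ - ((T + 4) * a₁ / (a₁ + a₂)) ^ 2 * a₂) (((T + 4) * a₁ / (a₁ + a₂)) ^ 2 * a₂) := by
  obtain ⟨i, j, -, hib, hjb, -, hij, -, -⟩ := S.exists_three_index hk hT ht
  obtain ⟨x₁, hx₁, hQ₁⟩ := H98.OrthDecomp.exists_value_mem (H.nd i) (by rw [H.rk]) a₁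
  obtain ⟨x₂, hx₂, hQ₂⟩ := H98.OrthDecomp.exists_value_mem (H.nd j) (by rw [H.rk]) a₂
  have h10 : x₁ ≠ 0 := fun e => h₁ (by rw [← hQ₁, e, map_zero])
  have h20 : x₂ ≠ 0 := fun e => h₂ (by rw [← hQ₂, e, map_zero])
  have hu : x₁ + x₂ ∈ R := h i j hib hjb hij x₁ hx₁ x₂ hx₂ h10 h20 hQ₁ hQ₂
  obtain ⟨x, hx, hQx, hxp, -⟩ := exists_partner_tval (H.rk i) (hT i T hTm) hT4 hx₁ (by rw [hQ₁]; exact h₁)
  have hQx0 : Q x ≠ 0 := by rw [hQx, hQ₁]; exact mul_ne_zero hT4 h₁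
  have hw := S.refl _ hu x (S.block i hib x hx hQx0)
  have hQu : Q (x₁ + x₂) = a₁ + a₂ := by
    rw [map_add_polar, hQ₁, hQ₂, H.orth i j hij x₁ hx₁ x₂ hx₂, add_zero]
  have hB : polar Q (x₁ + x₂) x = (T + 4) * a₁ := by
    rw [polar_add_left, H.orth j i hij.symm x₂ hx₂ x hx, add_zero, polar_comm, hxp, hQ₁]
  rw [rO_app, hQu, hB] at hw
  set c := (a₁ + a₂)⁻¹ * ((T + 4) * a₁) with hc
  have hcdiv : (T + 4) * a₁ / (a₁ + a₂) = c := by rw [hc, div_eq_inv_mul]
  rw [hcdiv] at hne ⊢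
  have pi : H.pr i (x - c • (x₁ + x₂)) = x - c • x₁ := by
    rw [map_sub, map_smul, map_add, H.pr_self hx, H.pr_self hx₁, H.pr_other hx₂ hij, add_zero]
  have pj : H.pr j (x - c • (x₁ + x₂)) = -(c • x₂) := by
    rw [map_sub, map_smul, map_add, H.pr_other hx hij.symm, H.pr_other hx₁ hij.symm, H.pr_self hx₂, zero_add,
      zero_sub]
  have hc0 : c ≠ 0 := mul_ne_zero (inv_ne_zero hs) (mul_ne_zero hT4 h₁)
  have q1 : Q (x - c • x₁) = (T + 4) * a₁ - c ^ 2 * a₂ := by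
    rw [qmap_sub, qmap_smul, polar_smul_right', hQx, hxp, hQ₁, hc]
    field_simp
    ring
  have := S.has_of_mem hw hij (by rw [pi]; intro e; rw [e, map_zero] at q1; exact hne (sub_eq_zero.1 q1.symm).symm)
    (by rw [pj, neg_ne_zero]; exact smul_ne_zero hc0 h20) (fun l hli hlj => by
      rw [map_sub, map_smul, map_add, H.pr_other hx hli, H.pr_other hx₁ hli, H.pr_other hx₂ hlj, add_zero,
        smul_zero, sub_zero])
  rw [pi, pj, q1, QuadraticMap.map_neg, qmap_smul, hQ₂] at this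
  exact this

/-- Combining two pairs. -/
theorem has_combine {a₁ a₂ b₂ b₃ T T₁ T₃ : F} (ha : Has H b R a₁ a₂) (hb : Has H b R b₂ b₃) (h₁ : a₁ ≠ 0)
    (h₂ : a₂ ≠ 0) (h₂' : b₂ ≠ 0) (h₃ : b₃ ≠ 0) (hs : a₁ + a₂ ≠ 0) (hs' : b₂ + b₃ ≠ 0) (hTm : T ∈ tset δ η)
    (hT4 : T + 4 ≠ 0) (hsq : IsSquare (b₂ / ((T + 4) * a₂))) [DecidableEq F] (hT₁ : T₁ ∈ tfin δ η)
    (hT₃ : T₃ ∈ tfin δ η)
    (heq : T₁ * (T + 4) * (a₁ * a₂ * b₂ / (a₁ + a₂) ^ 2) + T₃ * b₃ = -(b₂ + b₃)) :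
    Has H b R (-(T₁ * (T + 4) * (a₁ * a₂ * b₂ / (a₁ + a₂) ^ 2))) (-(T₃ * b₃)) := by
  obtain ⟨i, j, l, hib, hjb, hlb, hij, hil, hjl⟩ := S.exists_three_index hk hT ht
  obtain ⟨x₁, hx₁, hQ₁⟩ := H98.OrthDecomp.exists_value_mem (H.nd i) (by rw [H.rk]) a₁
  obtain ⟨x₂, hx₂, hQ₂⟩ := H98.OrthDecomp.exists_value_mem (H.nd j) (by rw [H.rk]) a₂
  obtain ⟨y₃, hy₃, hQ₃⟩ := H98.OrthDecomp.exists_value_mem (H.nd l) (by rw [H.rk]) b₃
  have h10 : x₁ ≠ 0 := fun e => h₁ (by rw [← hQ₁, e, map_zero])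
  have h20 : x₂ ≠ 0 := fun e => h₂ (by rw [← hQ₂, e, map_zero])
  have h30 : y₃ ≠ 0 := fun e => h₃ (by rw [← hQ₃, e, map_zero])
  obtain ⟨x, hx, hQx, hxp, -⟩ := exists_partner_tval (H.rk j) (hT j T hTm) hT4 hx₂ (by rw [hQ₂]; exact h₂)
  obtain ⟨s, hs2⟩ := hsq
  have hs0 : s ≠ 0 := fun e => div_ne_zero h₂' (mul_ne_zero hT4 h₂) (by rw [hs2, e, mul_zero])
  have hsb : s * s * ((T + 4) * a₂) = b₂ := by rw [← hs2, div_mul_cancel₀ _ (mul_ne_zero hT4 h₂)]
  set y₂ := s • x with hy₂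
  have hy₂m : y₂ ∈ D j := (D j).smul_mem _ hx
  have hQy₂ : Q y₂ = b₂ := by rw [hy₂, qmap_smul, hQx, hQ₂, pow_two, hsb]
  have hy20 : y₂ ≠ 0 := fun e => h₂' (by rw [← hQy₂, e, map_zero])
  have hu : x₁ + x₂ ∈ R := ha i j hib hjb hij x₁ hx₁ x₂ hx₂ h10 h20 hQ₁ hQ₂
  have hw : y₂ + y₃ ∈ R := hb j l hjb hlb hjl y₂ hy₂m y₃ hy₃ hy20 h30 hQy₂ hQ₃
  have hv := S.refl _ hu _ hw
  have hQu : Q (x₁ + x₂) = a₁ + a₂ := by
    rw [map_add_polar, hQ₁, hQ₂, H.orth i j hij x₁ hx₁ x₂ hx₂, add_zero]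
  have hB : polar Q (x₁ + x₂) (y₂ + y₃) = s * ((T + 4) * a₂) := by
    rw [polar_add_left, polar_add_right, polar_add_right, H.orth i j hij x₁ hx₁ y₂ hy₂m,
      H.orth i l hil x₁ hx₁ y₃ hy₃, H.orth j l hjl x₂ hx₂ y₃ hy₃, zero_add, zero_add, add_zero, hy₂,
      polar_smul_right', polar_comm, hxp, hQ₂]
  rw [rO_app, hQu, hB] at hv
  set β := (a₁ + a₂)⁻¹ * (s * ((T + 4) * a₂)) with hβdef
  set v := y₂ + y₃ - β • (x₁ + x₂) with hvdef
  have pi : H.pr i v = -(β • x₁) := by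
    rw [hvdef, map_sub, map_smul, map_add, map_add, H.pr_other hy₂m hij, H.pr_other hy₃ hil, H.pr_self hx₁,
      H.pr_other hx₂ hij, add_zero, add_zero, zero_sub]
  have pl : H.pr l v = y₃ := by
    rw [hvdef, map_sub, map_smul, map_add, map_add, H.pr_other hy₂m hjl.symm, H.pr_self hy₃,
      H.pr_other hx₁ hil.symm, H.pr_other hx₂ hjl.symm, add_zero, smul_zero, sub_zero, zero_add]
  have po : ∀ m, m ≠ i → m ≠ j → m ≠ l → H.pr m v = 0 := fun m h1 h3 h4 => by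
    rw [hvdef, map_sub, map_smul, map_add, map_add, H.pr_other hy₂m h3, H.pr_other hy₃ h4, H.pr_other hx₁ h1,
      H.pr_other hx₂ h3, add_zero, smul_zero, sub_zero]
  have hβ0 : β ≠ 0 := mul_ne_zero (inv_ne_zero hs) (mul_ne_zero hs0 (mul_ne_zero hT4 h₂))
  have hQi : Q (H.pr i v) = (T + 4) * (a₁ * a₂ * b₂ / (a₁ + a₂) ^ 2) := by
    rw [pi, QuadraticMap.map_neg, qmap_smul, hQ₁, hβdef, ← hsb]
    field_simp
  obtain ⟨a, ha', a', ha'', hQa, hQa', e₁⟩ := hT i T₁ (tfin_subset hT₁)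
  obtain ⟨c, hc', c', hc'', hQc, hQc', e₃⟩ := hT l T₃ (tfin_subset hT₃)
  set g := rot Q a a' * rot Q c c' with hg
  have hst : ∀ m, ∀ z ∈ D m, (g : V ≃ₗ[F] V) z ∈ D m := fun m z hz => by
    rw [hg, Subgroup.coe_mul, mul_app]; exact H.rot_block ha' ha'' (H.rot_block hc' hc'' hz)
  have hfix : ∀ m, m ≠ i → m ≠ l → ∀ z ∈ D m, (g : V ≃ₗ[F] V) z = z := fun m h1 h4 z hz => by
    rw [hg, Subgroup.coe_mul, mul_app, H.rot_fix_block hc' hc'' h4 hz, H.rot_fix_block ha' ha'' h1 hz]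
  have hgi : ∀ z ∈ D i, (g : V ≃ₗ[F] V) z = (rot Q a a' : V ≃ₗ[F] V) z := fun z hz => by
    rw [hg, Subgroup.coe_mul, mul_app, H.rot_fix_block hc' hc'' hil hz]
  have hgl : ∀ z ∈ D l, (g : V ≃ₗ[F] V) z = (rot Q c c' : V ≃ₗ[F] V) z := fun z hz => by
    rw [hg, Subgroup.coe_mul, mul_app, H.rot_fix_block ha' ha'' hil.symm (H.rot_block hc' hc'' hz)]
  have hQv : Q v = b₂ + b₃ := by
    have h1 := O.map_app (rO Q (x₁ + x₂)) (y₂ + y₃)
    rw [rO_app, hQu, hB] at h1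
    rw [show v = y₂ + y₃ - ((a₁ + a₂)⁻¹ * (s * ((T + 4) * a₂))) • (x₁ + x₂) from rfl, h1, map_add_polar, hQy₂,
      hQ₃, H.orth j l hjl y₂ hy₂m y₃ hy₃, add_zero]
  have hmove := S.move hst hv
  have hfac : (Q v)⁻¹ * polar Q v ((g : V ≃ₗ[F] V) v) = 1 := by
    classical
    rw [H.polar_app_stab hst v {i, l} (fun m hm => hfix m (fun e => hm (by simp [e])) (fun e => hm (by simp [e]))
      _ (H.pr_mem m v)), Finset.sum_pair hil, hgi _ (H.pr_mem i v), hgl _ (H.pr_mem l v),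
      polar_rot (H.rk i) ha' ha'' hQa hQa' (H.pr_mem i v), polar_rot (H.rk l) hc' hc'' hQc hQc' (H.pr_mem l v),
      e₁, e₃, hQi, pl, hQ₃, hQv]
    field_simp at heq ⊢
    linear_combination heq
  have hcomp : ∀ m, H.pr m ((rO Q v : V ≃ₗ[F] V) ((g : V ≃ₗ[F] V) v)) =
      (g : V ≃ₗ[F] V) (H.pr m v) - H.pr m v := fun m => by
    rw [H.pr_move v hst, hfac, one_smul]
  have hne : ∀ z a₀ a₀' : V, ∀ m, z ∈ D m → a₀ ∈ D m → a₀' ∈ D m → Q a₀ ≠ 0 → Q a₀' ≠ 0 → tval Q a₀ a₀' ≠ 0 →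
      z ≠ 0 → (rot Q a₀ a₀' : V ≃ₗ[F] V) z - z ≠ 0 := fun z a₀ a₀' m hz h0 h0' q0 q0' hT0 hz0 e =>
    hz0 (rot_fix_only (H.nd m) (H.rk m) h0 h0' q0 q0' (li_of_tval_ne q0 q0' hT0) hz (sub_eq_zero.1 e))
  have := S.has_of_mem hmove hil
    (by rw [hcomp, hgi _ (H.pr_mem i v)]
        exact hne _ _ _ i (H.pr_mem i v) ha' ha'' hQa hQa' (by rw [e₁]; exact ne_zero_of_mem_tfin hk hT₁)
          (by rw [pi, neg_ne_zero]; exact smul_ne_zero hβ0 h10))
    (by rw [hcomp, hgl _ (H.pr_mem l v)]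
        exact hne _ _ _ l (H.pr_mem l v) hc' hc'' hQc hQc' (by rw [e₃]; exact ne_zero_of_mem_tfin hk hT₃)
          (by rw [pl]; exact h30))
    (fun m h1 h4 => by rw [hcomp, hfix m h1 h4 _ (H.pr_mem m v), sub_self])
  rw [hcomp, hcomp, hgi _ (H.pr_mem i v), hgl _ (H.pr_mem l v), qmap_sub, qmap_sub, O.map_app, O.map_app,
    polar_rot (H.rk i) ha' ha'' hQa hQa' (H.pr_mem i v), polar_rot (H.rk l) hc' hc'' hQc hQc' (H.pr_mem l v),
    e₁, e₃, hQi, pl, hQ₃] at this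
  convert this using 1 <;> ring

/-- Anisotropic planes: all pairs. -/
theorem has_all_aniso [DecidableEq F] (hη : ∀ w ∈ asImage F, w + η ≠ 0) (hq : 4 ≤ Fintype.card F)
    (hq3 : (2 : F) ≠ 0 → 5 ≤ Fintype.card F) {a₁ a₂ : F} (ha : Has H b R a₁ a₂) (h₁ : a₁ ≠ 0) (h₂ : a₂ ≠ 0)
    (hs : a₁ + a₂ ≠ 0) {A B : F} (hA : A ≠ 0) (hB : B ≠ 0) (hAB : A + B ≠ 0) : Has H b R A B := by
  have hcard := card_tfin_aniso hk hη
  have hp := card_le_two_mul_pfin (F := F)
  -- a pair of values of different classes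
  obtain ⟨a₁, a₂, ha, h₁, h₂, hs, hcls⟩ : ∃ a₁ a₂ : F, Has H b R a₁ a₂ ∧ a₁ ≠ 0 ∧ a₂ ≠ 0 ∧ a₁ + a₂ ≠ 0 ∧
      ((2 : F) ≠ 0 → ¬ IsSquare (a₁ * a₂)) := by
    by_cases h2 : (2 : F) = 0
    · exact ⟨a₁, a₂, ha, h₁, h₂, hs, fun h => absurd h2 h⟩
    have h40 : (4 : F) ≠ 0 := by rw [show (4 : F) = 2 * 2 by norm_num]; exact mul_ne_zero h2 h2
    obtain ⟨c₁, c₂, hc, k₁, k₂, ks, kne⟩ : ∃ c₁ c₂ : F, Has H b R c₁ c₂ ∧ c₁ ≠ 0 ∧ c₂ ≠ 0 ∧ c₁ + c₂ ≠ 0 ∧
        c₁ ≠ c₂ := by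
      by_cases he : a₁ = a₂
      swap
      · exact ⟨a₁, a₂, ha, h₁, h₂, hs, he⟩
      subst he
      have := hq3 h2
      have := card_lt_two_mul_pfin h2
      obtain ⟨T, hTm, hT'⟩ : ∃ T ∈ tfin δ η, T ∉ ({-4, -2} : Finset F) :=
        Finset.exists_mem_notMem_of_card_lt_card (lt_of_le_of_lt Finset.card_le_two (by omega))
      simp only [Finset.mem_insert, Finset.mem_singleton, not_or] at hT'
      have hT4 : T + 4 ≠ 0 := fun e => hT'.1 (eq_neg_of_add_eq_zero_left e)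
      have e : (T + 4) * a₁ / (a₁ + a₁) = (T + 4) / 2 := by rw [← two_mul, mul_div_mul_right _ _ h₁]
      have hne : ((T + 4) * a₁ / (a₁ + a₁)) ^ 2 * a₁ ≠ (T + 4) * a₁ := by
        rw [e]; intro h
        field_simp at h
        exact ne_zero_of_mem_tfin hk hTm (by linear_combination h)
      refine ⟨_, _, S.has_reflect hk hT ht ha h₁ h₁ hs (tfin_subset hTm) hT4 hne, sub_ne_zero.2 (Ne.symm hne),
        mul_ne_zero (pow_ne_zero 2 (by rw [e]; exact div_ne_zero hT4 h2)) h₁, ?_, ?_⟩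
      · rw [sub_add_cancel]; exact mul_ne_zero hT4 h₁
      · rw [e]; intro h
        field_simp at h
        exact hT'.2 (mul_left_cancel₀ h2 (by linear_combination -h))
    by_cases hcl : IsSquare (c₁ * c₂)
    swap
    · exact ⟨c₁, c₂, hc, k₁, k₂, ks, fun _ => hcl⟩
    obtain ⟨T, hTm, hT4, hns⟩ := exists_param_nonsquare hk hη h2 (hq3 h2) (a := c₁ * c₂ / (c₁ + c₂) ^ 2) (by
      intro h
      field_simp at h
      exact kne (sub_eq_zero.1 (pow_eq_zero_iff two_ne_zero |>.1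
        (show (c₁ - c₂) ^ 2 = 0 by linear_combination -h))))
    set k := T + 4 with hkdef
    have hN : (k * c₁ / (c₁ + c₂)) ^ 2 * c₂ ≠ k * c₁ := fun h => hns ⟨0, by
      field_simp at h ⊢
      linear_combination -h⟩
    refine ⟨_, _, S.has_reflect hk hT ht hc k₁ k₂ ks hTm hT4 hN, sub_ne_zero.2 (Ne.symm hN),
      mul_ne_zero (pow_ne_zero 2 (div_ne_zero (mul_ne_zero hT4 k₁) ks)) k₂, by
        rw [sub_add_cancel]; exact mul_ne_zero hT4 k₁, fun _ hsq => hns ?_⟩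
    obtain ⟨r, hr⟩ := hsq
    obtain ⟨d, hd⟩ := hcl
    have hd0 : d ≠ 0 := fun e => mul_ne_zero k₁ k₂ (by rw [hd, e, mul_zero])
    refine ⟨r / (k * c₁ / (c₁ + c₂) * k * d), ?_⟩
    field_simp at hr hd ⊢
    linear_combination hr - (T + 4) ^ 3 * c₁ ^ 2 * ((c₁ + c₂) ^ 2 - (T + 4) * c₁ * c₂) * hd
  have hsquare : ∀ x y : F, x ≠ 0 → y ≠ 0 → IsSquare (x / (y * a₂)) ∨ IsSquare (x / (y * a₁)) := by
    intro x y hx hy
    by_cases h2 : (2 : F) = 0
    · exact Or.inl (isSquare_of_two_eq_zero h2 _)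
    by_contra hc
    push Not at hc
    refine hcls h2 ?_
    have h4 := (isSquare_mul_iff h2 (div_ne_zero hx (mul_ne_zero hy h₂)) (div_ne_zero hx (mul_ne_zero hy h₁))).2
      (iff_of_false hc.1 hc.2)
    obtain ⟨r, hr⟩ := h4
    refine ⟨x / (y * r), ?_⟩
    have hr0 : r ≠ 0 := fun e => mul_ne_zero (div_ne_zero hx (mul_ne_zero hy h₂)) (div_ne_zero hx (mul_ne_zero hy h₁))
      (by rw [hr, e, mul_zero])
    field_simp at hr ⊢
    linear_combination -hr
  -- a starting pair of the given total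
  set C := A + B with hC
  have hgen : ∀ {b₂ b₃ A' B' : F}, Has H b R b₂ b₃ → b₂ ≠ 0 → b₃ ≠ 0 → b₂ + b₃ = C → A' ≠ 0 → A' + B' = C →
      -B' / b₃ ∈ tfin δ η → Has H b R A' B' := by
    intro b₂ b₃ A' B' hb k₂ k₃ ksum hA' hsum hT₃
    set M := a₁ * a₂ * b₂ / (a₁ + a₂) ^ 2 with hM
    have hM0 : M ≠ 0 := div_ne_zero (mul_ne_zero (mul_ne_zero h₁ h₂) k₂) (pow_ne_zero 2 hs)
    obtain ⟨T₁, hT₁, T, hTm, hT4, hprod⟩ := exists_product hk hη (div_ne_zero (neg_ne_zero.2 hA') hM0)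
    rcases hsquare b₂ (T + 4) k₂ hT4 with hsq | hsq
    · have := S.has_combine hk hT ht ha hb h₁ h₂ k₂ k₃ hs (by rw [ksum]; exact hAB) hTm hT4 hsq hT₁ hT₃ (by
        rw [← hM, hprod, div_mul_cancel₀ _ hM0, div_mul_cancel₀ _ k₃, ksum, ← hsum]; ring)
      rwa [← hM, hprod, div_mul_cancel₀ _ hM0, div_mul_cancel₀ _ k₃, neg_neg, neg_neg] at this
    · have hM' : a₂ * a₁ * b₂ / (a₂ + a₁) ^ 2 = M := by rw [hM]; ring
      have := S.has_combine hk hT ht ha.symm hb h₂ h₁ k₂ k₃ (by rwa [add_comm]) (by rw [ksum]; exact hAB) hTm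
        hT4 hsq hT₁ hT₃ (by rw [hM', hprod, div_mul_cancel₀ _ hM0, div_mul_cancel₀ _ k₃, ksum, ← hsum]; ring)
      rwa [hM', hprod, div_mul_cancel₀ _ hM0, div_mul_cancel₀ _ k₃, neg_neg, neg_neg] at this
  -- many pairs of the given total
  obtain ⟨S1, hS1, hS1card⟩ : ∃ S1 : Finset F, (∀ x ∈ S1, x ≠ 0 ∧ x ≠ C ∧ Has H b R (C - x) x) ∧
      Fintype.card F ≤ (tfin δ η).card + S1.card := by
    by_cases h2 : (2 : F) = 0
    · have h40 : (4 : F) = 0 := by rw [show (4 : F) = 2 * 2 by norm_num, h2, mul_zero]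
      refine ⟨(tfin δ η).image fun T => C * (T * (a₁ * a₂) / (a₁ + a₂) ^ 2), fun x hx => ?_, ?_⟩
      · obtain ⟨T, hTm, rfl⟩ := Finset.mem_image.1 hx
        have hT0 := ne_zero_of_mem_tfin hk hTm
        have hne : T * (a₁ * a₂) / (a₁ + a₂) ^ 2 ≠ 1 := by
          intro h
          rw [div_eq_one_iff_eq (pow_ne_zero 2 hs)] at h
          have hm := (mem_tset_two h2 hk hT0).1 (tfin_subset hTm)
          have hi : T⁻¹ ∈ asImage F := ⟨a₁ / (a₁ + a₂), by
            have : T⁻¹ = a₁ * a₂ / (a₁ + a₂) ^ 2 := by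
              field_simp; linear_combination -h
            have e2 : a₂ / (a₁ + a₂) = 1 - a₁ / (a₁ + a₂) := by
              rw [eq_sub_iff_add_eq, ← add_div, add_comm, div_self hs]
            rw [this, show a₁ * a₂ / (a₁ + a₂) ^ 2 = a₁ / (a₁ + a₂) * (a₂ / (a₁ + a₂)) by rw [div_mul_div_comm, pow_two],
              e2]
            linear_combination (a₁ / (a₁ + a₂)) ^ 2 * h2⟩
          have := asImage_add h2 hm hi
          refine hη _ this ?_
          linear_combination (T⁻¹ + η) * h2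
        have hT4 : T + 4 ≠ 0 := by rw [h40, add_zero]; exact hT0
        have he : ((T + 4) * a₁ / (a₁ + a₂)) ^ 2 * a₂ =
            T * a₁ * (T * (a₁ * a₂) / (a₁ + a₂) ^ 2) := by rw [h40, add_zero, div_pow]; field_simp
        have hr := S.has_reflect hk hT ht ha h₁ h₂ hs (tfin_subset hTm) hT4 (by
          rw [he, h40, add_zero]
          intro e
          exact hne (mul_left_cancel₀ (mul_ne_zero hT0 h₁) (by rw [mul_one]; exact e)))
        rw [he, h40, add_zero] at hr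
        obtain ⟨s, hs2⟩ := exists_sq h2 (C / (T * a₁))
        have hs0 : s ≠ 0 := fun e => div_ne_zero hAB (mul_ne_zero hT0 h₁) (by rw [← hs2, e]; ring)
        have hsC : s ^ 2 * (T * a₁) = C := by rw [hs2, div_mul_cancel₀ _ (mul_ne_zero hT0 h₁)]
        have h3 := S.has_smul hs0 hr
        refine ⟨mul_ne_zero hAB (div_ne_zero (mul_ne_zero hT0 (mul_ne_zero h₁ h₂)) (pow_ne_zero 2 hs)),
          fun e => hne (mul_left_cancel₀ hAB (by rw [mul_one]; exact e)), ?_⟩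
        have e : ∀ X, s ^ 2 * (T * a₁ * X) = C * X := fun X => by rw [← hsC]; ring
        rw [mul_sub, hsC, e] at h3
        exact h3
      · rw [Finset.card_image_of_injective _ fun u v e => by
          have := mul_ne_zero h₁ h₂
          field_simp at e
          exact e]
        have := two_mul_pfin h2
        omega
    · -- a pair of the total `C`
      have h40 : (4 : F) ≠ 0 := by rw [show (4 : F) = 2 * 2 by norm_num]; exact mul_ne_zero h2 h2
      have hbase : ∀ x y : F, Has H b R x y → x ≠ 0 → y ≠ 0 → x + y ≠ 0 → ¬ IsSquare (x * y) →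
          IsSquare (C / ((0 + 4) * x)) → ∃ b₂ b₃, Has H b R b₂ b₃ ∧ b₂ ≠ 0 ∧ b₃ ≠ 0 ∧ b₂ + b₃ = C := by
        intro x y hxy hx hy hsxy hns ⟨s, hs2⟩
        have hne : ((0 + 4) * x / (x + y)) ^ 2 * y ≠ (0 + 4) * x := fun e => hns ⟨(x + y) / 2, by
          field_simp at e
          have : (x + y) ^ 2 = 4 * (x * y) := mul_left_cancel₀ h40 (by linear_combination -e)
          field_simp
          linear_combination -this⟩
        have hr := S.has_reflect hk hT ht hxy hx hy hsxy (zero_mem_tset δ η) (by rw [zero_add]; exact h40) hne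
        have hx4 : (0 + 4) * x ≠ 0 := by rw [zero_add]; exact mul_ne_zero h40 hx
        have hs0 : s ≠ 0 := fun e => div_ne_zero hAB hx4 (by rw [hs2, e, mul_zero])
        refine ⟨_, _, S.has_smul hs0 hr, mul_ne_zero (pow_ne_zero 2 hs0) (sub_ne_zero.2 (Ne.symm hne)),
          mul_ne_zero (pow_ne_zero 2 hs0) (mul_ne_zero (pow_ne_zero 2 (div_ne_zero hx4 hsxy)) hy), ?_⟩
        rw [← mul_add, sub_add_cancel, pow_two, ← hs2, div_mul_cancel₀ _ hx4]
      obtain ⟨b₂, b₃, hb, k₂, k₃, ksum⟩ : ∃ b₂ b₃, Has H b R b₂ b₃ ∧ b₂ ≠ 0 ∧ b₃ ≠ 0 ∧ b₂ + b₃ = C := by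
        rcases hsquare C (0 + 4) hAB (by rw [zero_add]; exact h40) with h | h
        · exact hbase a₂ a₁ ha.symm h₂ h₁ (by rwa [add_comm]) (by rw [mul_comm]; exact hcls h2) h
        · exact hbase a₁ a₂ ha h₁ h₂ hs (hcls h2) h
      refine ⟨((tfin δ η).image fun T => -(T * b₃)).erase C, fun x hx => ?_, ?_⟩
      · obtain ⟨hxC, hx'⟩ := Finset.mem_erase.1 hx
        obtain ⟨T, hTm, rfl⟩ := Finset.mem_image.1 hx'
        refine ⟨neg_ne_zero.2 (mul_ne_zero (ne_zero_of_mem_tfin hk hTm) k₃), hxC,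
          hgen hb k₂ k₃ ksum (sub_ne_zero.2 (Ne.symm hxC)) (sub_add_cancel _ _) ?_⟩
        rwa [neg_neg, mul_div_cancel_right₀ _ k₃]
      · have h5 := Finset.pred_card_le_card_erase (s := (tfin δ η).image fun T => -(T * b₃)) (a := C)
        rw [Finset.card_image_of_injective _ fun u v e => mul_right_cancel₀ k₃ (neg_injective e)] at h5
        have := card_lt_two_mul_pfin h2
        omega
  obtain ⟨x, hx1, hx2⟩ := exists_mem_mem_of_card (U := ((Finset.univ : Finset F).erase 0).erase C) (A := S1)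
    (B := ((tfin δ η).image fun T => -B / T).erase C)
    (fun x hx => Finset.mem_erase.2 ⟨(hS1 x hx).2.1, Finset.mem_erase.2 ⟨(hS1 x hx).1, Finset.mem_univ x⟩⟩)
    (fun x hx => by
      obtain ⟨hxC, hx'⟩ := Finset.mem_erase.1 hx
      obtain ⟨T, hTm, rfl⟩ := Finset.mem_image.1 hx'
      exact Finset.mem_erase.2 ⟨hxC, Finset.mem_erase.2
        ⟨div_ne_zero (neg_ne_zero.2 hB) (ne_zero_of_mem_tfin hk hTm), Finset.mem_univ _⟩⟩)
    (by
      have h5 := Finset.pred_card_le_card_erase (s := (tfin δ η).image fun T => -B / T) (a := C)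
      rw [Finset.card_image_of_injOn (fun u hu v hv e => by
        have := ne_zero_of_mem_tfin hk hu; have := ne_zero_of_mem_tfin hk hv
        field_simp at e
        exact (neg_injective e).symm)] at h5
      rw [Finset.card_erase_of_mem (Finset.mem_erase.2 ⟨hAB, Finset.mem_univ C⟩),
        Finset.card_erase_of_mem (Finset.mem_univ _), Finset.card_univ]
      omega)
  obtain ⟨hx0, hxC, hxH⟩ := hS1 x hx1
  obtain ⟨-, hx'⟩ := Finset.mem_erase.1 hx2
  obtain ⟨T, hTm, hTe⟩ := Finset.mem_image.1 hx'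
  refine hgen hxH (sub_ne_zero.2 (Ne.symm hxC)) hx0 (sub_add_cancel _ _) hA rfl ?_
  have hT0 := ne_zero_of_mem_tfin hk hTm
  rwa [← hTe, show -B / (-B / T) = T by field_simp]

end RSys

end Cfsg.Agent.H72.OrthPlanes
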