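import Cfsg.Agent.H72.OrthPlanes.Field
import Cfsg.Agent.Orthogonal.StdForms
import Cfsg.Agent.Orthogonal.Plane

/-!
Nondegenerate planes: traces of products of two reflections, hyperbolic and elliptic parametrisations.
-/

set_option autoImplicit false

namespace Cfsg.Agent.H72.OrthPlanes

open QuadraticMap Module Cfsg.Agent.Orthogonal

variable {F V : Type*} [Field F] [AddCommGroup V] [Module F V]

/-- The trace parameter of a pair of anisotropic vectors. -/
def tval (Q : QuadraticForm F V) (a b : V) : F := polar Q a b ^ 2 / (Q a * Q b) - 4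

/-- `T` is the trace parameter of a pair of anisotropic vectors of `W`. -/
def Realises (Q : QuadraticForm F V) (W : Submodule F V) (T : F) : Prop :=
  ∃ a ∈ W, ∃ b ∈ W, Q a ≠ 0 ∧ Q b ≠ 0 ∧ tval Q a b = T

variable {Q : QuadraticForm F V} {W : Submodule F V}

theorem mem_span_pair_of_li (h2 : finrank F W = 2) {a b : V} (ha : a ∈ W) (hb : b ∈ W)
    (h : LinearIndependent F ![a, b]) {x : V} (hx : x ∈ W) : ∃ s u : F, x = s • a + u • b := by
  have := Module.finite_of_finrank_eq_succ h2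
  have hle : Submodule.span F {a, b} ≤ W := Submodule.span_le.2 (by simp [Set.insert_subset_iff, ha, hb])
  have heq : Submodule.span F {a, b} = W := Submodule.eq_of_le_of_finrank_eq hle (by
    rw [h2]
    have := finrank_span_eq_card h
    rwa [Matrix.range_cons, Matrix.range_cons, Matrix.range_empty, Set.union_empty, Set.singleton_union,
      Fintype.card_fin] at this)
  rw [← heq] at hx
  obtain ⟨s, u, h⟩ := Submodule.mem_span_pair.1 hx
  exact ⟨s, u, h.symm⟩

theorem linearIndependent_of_not_smul {a b : V} (ha : a ≠ 0) (h : ∀ c : F, b ≠ c • a) :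
    LinearIndependent F ![a, b] := by
  rw [LinearIndependent.pair_iff]
  intro s u hsu
  by_cases hu : u = 0
  · subst hu
    rw [zero_smul, add_zero, smul_eq_zero] at hsu
    exact ⟨hsu.resolve_right ha, rfl⟩
  · refine absurd ?_ (h (-s / u))
    have h1 : u • b = (-s) • a := by
      rw [neg_smul]; exact eq_neg_of_add_eq_zero_right hsu
    rw [div_eq_inv_mul, mul_smul, ← h1, inv_smul_smul₀ hu]

theorem eq_zero_of_polar_pair (hW : Nondeg (restr Q W)) (h2 : finrank F W = 2) {a b : V} (ha : a ∈ W)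
    (hb : b ∈ W) (h : LinearIndependent F ![a, b]) {x : V} (hx : x ∈ W) (hax : polar Q a x = 0)
    (hbx : polar Q b x = 0) : x = 0 := by
  refine congrArg Subtype.val (hW ⟨x, hx⟩ fun y => ?_)
  obtain ⟨s, u, hy⟩ := mem_span_pair_of_li h2 ha hb h y.2
  rw [polar_restr, polar_comm, hy, polar_add_left, polar_smul_left', polar_smul_left', hax, hbx, mul_zero,
    mul_zero, add_zero]

theorem tval_smul {c d : F} (hc : c ≠ 0) (hd : d ≠ 0) (a b : V) : tval Q (c • a) (d • b) = tval Q a b := by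
  rw [tval, tval, qmap_smul, qmap_smul, polar_smul_left', polar_smul_right']
  congr 1
  rcases eq_or_ne (Q a * Q b) 0 with h | h
  · rw [show c ^ 2 * Q a * (d ^ 2 * Q b) = c ^ 2 * d ^ 2 * (Q a * Q b) by ring, h]; simp
  · have h' : Q a ≠ 0 ∧ Q b ≠ 0 := mul_ne_zero_iff.1 h
    obtain ⟨h1, h3⟩ := h'
    field_simp

theorem li_of_tval_ne {a b : V} (ha : Q a ≠ 0) (hb : Q b ≠ 0) (hT : tval Q a b ≠ 0) :
    LinearIndependent F ![a, b] := by
  refine linearIndependent_of_not_smul (fun h => ha (by rw [h, map_zero])) fun c e => hT ?_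
  subst e
  rw [qmap_smul] at hb
  have hc : c ≠ 0 := fun h => hb (by rw [h]; ring)
  rw [tval, polar_smul_right', polar_self', qmap_smul]
  field_simp
  ring

theorem tval_ne_of_li (hW : Nondeg (restr Q W)) (h2 : finrank F W = 2) {a b : V} (ha : a ∈ W) (hb : b ∈ W)
    (hab : LinearIndependent F ![a, b]) (hQa : Q a ≠ 0) (hQb : Q b ≠ 0) : tval Q a b ≠ 0 := by
  intro h
  rw [tval, sub_eq_zero, div_eq_iff (mul_ne_zero hQa hQb)] at h
  have hx := eq_zero_of_polar_pair hW h2 ha hb hab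
    (x := (2 * Q b) • a - polar Q a b • b) (W.sub_mem (W.smul_mem _ ha) (W.smul_mem _ hb))
    (by simp only [polar_sub_right, polar_smul_right', polar_self']; linear_combination -h)
    (by simp only [polar_sub_right, polar_smul_right', polar_self', polar_comm (⇑Q) b a]; ring)
  obtain ⟨h1, h3⟩ := LinearIndependent.pair_iff.1 hab (2 * Q b) (-polar Q a b) (by
    rw [neg_smul, ← sub_eq_add_neg]; exact hx)
  have h20 : (2 : F) = 0 := (mul_eq_zero.1 h1).resolve_right hQb
  have hy := eq_zero_of_polar_pair hW h2 ha hb hab ha (by rw [polar_self', h20, zero_mul])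
    (by rw [polar_comm]; exact neg_eq_zero.1 h3)
  exact hQa (by rw [hy, map_zero])

/-- The rotation `r_a r_b`. -/
def rot (Q : QuadraticForm F V) (a b : V) : O Q := rO Q a * rO Q b

theorem rot_app (a b x : V) : (rot Q a b : V ≃ₗ[F] V) x =
    x - ((Q b)⁻¹ * polar Q b x) • b -
      ((Q a)⁻¹ * (polar Q a x - (Q b)⁻¹ * polar Q b x * polar Q a b)) • a := by
  rw [rot, Subgroup.coe_mul, mul_app, rO_app, rO_app, polar_sub_right, polar_smul_right']

theorem rot_fix {a b x : V} (ha : polar Q a x = 0) (hb : polar Q b x = 0) : (rot Q a b : V ≃ₗ[F] V) x = x := by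
  rw [rot, Subgroup.coe_mul, mul_app, rO_fix hb, rO_fix ha]

theorem rot_mem {a b x : V} (ha : a ∈ W) (hb : b ∈ W) (hx : x ∈ W) : (rot Q a b : V ≃ₗ[F] V) x ∈ W := by
  rw [rot_app]
  exact W.sub_mem (W.sub_mem hx (W.smul_mem _ hb)) (W.smul_mem _ ha)

theorem polar_rot (h2 : finrank F W = 2) {a b x : V} (ha : a ∈ W) (hb : b ∈ W)
    (hQa : Q a ≠ 0) (hQb : Q b ≠ 0) (hx : x ∈ W) :
    polar Q ((rot Q a b : V ≃ₗ[F] V) x) x = (tval Q a b + 2) * Q x := by
  by_cases hab : LinearIndependent F ![a, b]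
  · obtain ⟨s, u, rfl⟩ := mem_span_pair_of_li h2 ha hb hab hx
    rw [rot_app, tval]
    simp only [polar_sub_left, polar_add_left, polar_smul_left', polar_add_right, polar_smul_right',
      polar_self', map_add_polar, qmap_smul, polar_comm (⇑Q) b a]
    field_simp
    ring
  · have ha0 : a ≠ 0 := fun h => hQa (by rw [h, map_zero])
    by_cases hc : ∀ c : F, b ≠ c • a
    · exact absurd (linearIndependent_of_not_smul ha0 hc) hab
    push Not at hc
    obtain ⟨c, rfl⟩ := hc
    have hc0 : c ≠ 0 := fun h => hQb (by rw [h, zero_smul, map_zero])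
    rw [rot, rO_smul hc0, rO_mul_self, OneMemClass.coe_one, one_app, polar_self']
    rw [← one_smul F a, smul_smul, mul_one, tval_smul one_ne_zero hc0, tval, polar_self']
    field_simp
    ring

theorem rot_fix_only (hW : Nondeg (restr Q W)) (h2 : finrank F W = 2) {a b x : V} (ha : a ∈ W) (hb : b ∈ W)
    (hQa : Q a ≠ 0) (hQb : Q b ≠ 0) (hab : LinearIndependent F ![a, b]) (hx : x ∈ W)
    (h : (rot Q a b : V ≃ₗ[F] V) x = x) : x = 0 := by
  rw [rot_app, sub_sub, sub_eq_self] at h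
  obtain ⟨h1, h3⟩ := LinearIndependent.pair_iff.1 hab
    ((Q a)⁻¹ * (polar Q a x - (Q b)⁻¹ * polar Q b x * polar Q a b)) ((Q b)⁻¹ * polar Q b x)
    (by rw [add_comm]; exact h)
  have hb0 : polar Q b x = 0 := (mul_eq_zero.1 h3).resolve_left (inv_ne_zero hQb)
  rw [hb0, mul_zero, zero_mul, sub_zero] at h1
  exact eq_zero_of_polar_pair hW h2 ha hb hab hx ((mul_eq_zero.1 h1).resolve_left (inv_ne_zero hQa)) hb0

theorem exists_hyperbolic (hW : Nondeg (restr Q W)) (h2 : finrank F W = 2) {e : V} (he : e ∈ W) (he0 : e ≠ 0)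
    (hQe : Q e = 0) : ∃ f ∈ W, Q f = 0 ∧ polar Q e f = 1 ∧ LinearIndependent F ![e, f] ∧
      ∀ x ∈ W, ∃ s u : F, x = s • e + u • f := by
  obtain ⟨⟨f, hf⟩, hQf, hef⟩ := hW.exists_partner (u := ⟨e, he⟩) (fun h => he0 (congrArg Subtype.val h))
    (by rw [restr_apply]; exact hQe)
  rw [restr_apply] at hQf
  rw [polar_restr] at hef
  have hli := linearIndependent_hyperbolic_pair hQe hQf hef
  exact ⟨f, hf, hQf, hef, hli, fun x hx => mem_span_pair_of_li h2 he hf hli hx⟩

theorem hyp_q {e f : V} (hQe : Q e = 0) (hQf : Q f = 0) (hef : polar Q e f = 1) (s u : F) :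
    Q (s • e + u • f) = s * u := by
  rw [map_add_polar, qmap_smul, qmap_smul, polar_smul_left', polar_smul_right', hQe, hQf, hef]; ring

theorem hyp_polar {e f : V} (hQe : Q e = 0) (hQf : Q f = 0) (hef : polar Q e f = 1) (s u s' u' : F) :
    polar Q (s • e + u • f) (s' • e + u' • f) = s * u' + u * s' := by
  simp only [polar_add_left, polar_add_right, polar_smul_left', polar_smul_right', polar_self', hQe, hQf,
    polar_comm (⇑Q) f e, hef]
  ring

theorem hyp_rot {e f : V} (hQe : Q e = 0) (hQf : Q f = 0) (hef : polar Q e f = 1) {y : F} (hy : y ≠ 0) :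
    (rot Q (e + f) (e + y • f) : V ≃ₗ[F] V) e = y • e := by
  have ha : Q (e + f) = 1 := by simpa using hyp_q hQe hQf hef 1 1
  have hb : Q (e + y • f) = y := by simpa using hyp_q hQe hQf hef 1 y
  have hab : polar Q (e + f) (e + y • f) = y + 1 := by simpa using hyp_polar hQe hQf hef 1 1 1 y
  have hae : polar Q (e + f) e = 1 := by simpa using hyp_polar hQe hQf hef 1 1 1 0
  have hbe : polar Q (e + y • f) e = y := by simpa using hyp_polar hQe hQf hef 1 y 1 0
  rw [rot_app, ha, hb, hab, hae, hbe, inv_mul_cancel₀ hy]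
  match_scalars <;> ring

theorem exists_perp_aniso (hW : Nondeg (restr Q W)) (h2 : finrank F W = 2) {u : V} (hu : u ∈ W)
    (hQu : Q u ≠ 0) : ∃ v ∈ W, polar Q v u = 0 ∧ Q v ≠ 0 := by
  have := Module.finite_of_finrank_eq_succ h2
  obtain ⟨⟨v, hv⟩, hv0, huv⟩ := hW.exists_perp_vec h2 (v := ⟨u, hu⟩) fun h =>
    hQu (by rw [show u = 0 from congrArg Subtype.val h, map_zero])
  rw [polar_restr] at huv
  refine ⟨v, hv, by rw [polar_comm]; exact huv, fun hQv => ?_⟩
  have hv0' : v ≠ 0 := fun h => hv0 (Subtype.ext h)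
  obtain ⟨f, hf, hQf, hvf, -, hco⟩ := exists_hyperbolic hW h2 hv hv0' hQv
  obtain ⟨s, r, rfl⟩ := hco u hu
  simp only [polar_add_left, polar_smul_left', polar_self', hQv, polar_comm (⇑Q) f v, hvf, mul_zero, mul_one,
    zero_add] at huv
  exact hQu (by rw [hyp_q hQv hQf hvf, huv, mul_zero])

/-- The values of the trace parameter met in the plane with parameters `δ` and `η`. -/
def tset (δ η : F) : Set F := insert 0 {T | ∃ w ∈ asImage F, w + η ≠ 0 ∧ T = δ / (w + η)}

/-- The parameters of an anisotropic or hyperbolic plane. -/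
def Kind (δ η : F) : Prop :=
  δ = 1 - 4 * η ∧ δ ≠ 0 ∧ ((∀ w ∈ asImage F, w + η ≠ 0) ∨ η = 0)

theorem zero_mem_tset (δ η : F) : (0 : F) ∈ tset δ η := Set.mem_insert _ _

theorem exists_kind_elliptic [Finite F] [FiniteDimensional F V] (hW : Nondeg (restr Q W))
    (h2 : finrank F W = 2) (ha : ∀ x ∈ W, Q x = 0 → x = 0) :
    ∃ δ η : F, Kind δ η ∧ (∀ w ∈ asImage F, w + η ≠ 0) ∧ ∀ T ∈ tset δ η, Realises Q W T := by
  obtain ⟨x, hx, y, hy, hli, hQx, hxy, hroot⟩ := exists_elliptic_pair hW h2 ha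
  have hη : ∀ w ∈ asImage F, w + Q y ≠ 0 := by rintro - ⟨s, rfl⟩; exact hroot s
  have hx0 : Q x ≠ 0 := by rw [hQx]; exact one_ne_zero
  have hδ : (1 : F) - 4 * Q y ≠ 0 := by
    intro h
    have hy0 : Q y ≠ 0 := by simpa using hη 0 ⟨0, by ring⟩
    refine tval_ne_of_li hW h2 hx hy hli hx0 hy0 ?_
    rw [tval, hQx, hxy]
    field_simp
    linear_combination h
  refine ⟨1 - 4 * Q y, Q y, ⟨rfl, hδ, Or.inl hη⟩, hη, fun T hT => ?_⟩
  rcases hT with rfl | ⟨w, ⟨s, rfl⟩, hw, rfl⟩
  · exact ⟨x, hx, x, hx, hx0, hx0, by rw [tval, polar_self', hQx]; ring⟩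
  dsimp only at hw ⊢
  have hQ : Q (s • x + y) = s ^ 2 + s + Q y := by
    rw [map_add_polar, qmap_smul, polar_smul_left', hQx, hxy]; ring
  refine ⟨x, hx, s • x + y, W.add_mem (W.smul_mem _ hx) hy, hx0, by rw [hQ]; exact hw, ?_⟩
  rw [tval, hQ, hQx, polar_add_right, polar_smul_right', polar_self', hQx, hxy, one_mul,
    eq_div_iff hw, sub_mul, div_mul_cancel₀ _ hw]
  ring

theorem exists_kind_hyperbolic (hW : Nondeg (restr Q W)) (h2 : finrank F W = 2) {e : V} (he : e ∈ W)
    (he0 : e ≠ 0) (hQe : Q e = 0) : ∀ T ∈ tset (1 : F) 0, Realises Q W T := by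
  obtain ⟨f, hf, hQf, hef, -, -⟩ := exists_hyperbolic hW h2 he he0 hQe
  have ha : Q (e + f) = 1 := by simpa using hyp_q hQe hQf hef 1 1
  rintro T (rfl | ⟨w, ⟨s, rfl⟩, hw, rfl⟩)
  · exact ⟨e + f, W.add_mem he hf, e + f, W.add_mem he hf, by rw [ha]; exact one_ne_zero,
      by rw [ha]; exact one_ne_zero, by rw [tval, polar_self', ha]; ring⟩
  dsimp only at hw ⊢
  rw [add_zero] at hw ⊢
  have hs : s ≠ 0 := fun h => hw (by rw [h]; ring)
  set y := 1 + 1 / s with hy
  have hy0 : y ≠ 0 := fun h => hw (by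
    rw [hy] at h; field_simp at h; linear_combination s * h)
  have hb : Q (e + y • f) = y := by simpa using hyp_q hQe hQf hef 1 y
  have hab : polar Q (e + f) (e + y • f) = y + 1 := by simpa using hyp_polar hQe hQf hef 1 1 1 y
  refine ⟨e + f, W.add_mem he hf, e + y • f, W.add_mem he (W.smul_mem _ hf), by rw [ha]; exact one_ne_zero,
    by rw [hb]; exact hy0, ?_⟩
  rw [tval, ha, hb, hab, one_mul, eq_div_iff hw, sub_mul, div_mul_eq_mul_div, sub_eq_iff_eq_add,
    div_eq_iff hy0, hy]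
  field_simp
  ring

/-- Every parameter is met at a given anisotropic vector. -/
theorem exists_partner_tval (h2 : finrank F W = 2) {T : F} (hT : Realises Q W T) (hT4 : T + 4 ≠ 0) {w : V}
    (hw : w ∈ W) (hQw : Q w ≠ 0) :
    ∃ x ∈ W, Q x = (T + 4) * Q w ∧ polar Q x w = (T + 4) * Q w ∧ (∀ c : F, x = c • w → T = 0) := by
  obtain ⟨a, ha, b, hb, hQa, hQb, hab⟩ := hT
  have hp := polar_rot h2 ha hb hQa hQb hw
  rw [hab] at hp
  have hx : Q (w + (rot Q a b : V ≃ₗ[F] V) w) = (T + 4) * Q w := by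
    rw [map_add_polar, O.map_app, polar_comm, hp]; ring
  have hxw : polar Q (w + (rot Q a b : V ≃ₗ[F] V) w) w = (T + 4) * Q w := by
    rw [polar_add_left, polar_self', hp]; ring
  refine ⟨_, W.add_mem hw (rot_mem ha hb hw), hx, hxw, fun c hc => ?_⟩
  rw [hc, qmap_smul] at hx
  rw [hc, polar_smul_left', polar_self'] at hxw
  have h1 : c * 2 = T + 4 := mul_right_cancel₀ hQw (by linear_combination hxw)
  have h3 : c ^ 2 = T + 4 := mul_right_cancel₀ hQw hx
  refine (mul_eq_zero.1 (show (T + 4) * T = 0 by linear_combination -(c * 2 + T + 4) * h1 + 4 * h3)).resolve_left hT4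

end Cfsg.Agent.H72.OrthPlanes
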