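import Cfsg.Agent.H72.OrthPlanes.Pairs

/-!
A reflection-closed system with a vector outside the blocks contains one with exactly two components.
-/

set_option autoImplicit false
set_option linter.unusedSectionVars false

namespace Cfsg.Agent.H72.OrthPlanes

open QuadraticMap Module Cfsg.Agent.Orthogonal

variable {F V : Type*} [Field F] [AddCommGroup V] [Module F V] [FiniteDimensional F V] [Fintype F]
  {Q : QuadraticForm F V} {t : ℕ} {D : Fin t → Submodule F V} {H : PDec Q D} {b : Fin t} {R : Set V}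

theorem three_in_finset {α : Type*} [DecidableEq α] {s : Finset α} (h : 3 ≤ s.card) {p : α} (hp : p ∈ s) :
    ∃ q ∈ s, ∃ r ∈ s, q ≠ p ∧ r ≠ p ∧ q ≠ r := by
  obtain ⟨q, hq, r, hr, hqr⟩ := Finset.one_lt_card.1 (show 1 < (s.erase p).card by
    rw [Finset.card_erase_of_mem hp]; omega)
  exact ⟨q, Finset.mem_of_mem_erase hq, r, Finset.mem_of_mem_erase hr, Finset.ne_of_mem_erase hq,
    Finset.ne_of_mem_erase hr, hqr⟩

/-- In the field with four elements one lies in the image. -/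
theorem one_mem_asImage_four (h2 : (2 : F) = 0) (hq : Fintype.card F = 4) : (1 : F) ∈ asImage F := by
  classical
  obtain ⟨x, -, hx⟩ := Finset.exists_mem_notMem_of_card_lt_card (s := ({0, 1} : Finset F)) (t := Finset.univ)
    (lt_of_le_of_lt Finset.card_le_two (by rw [Finset.card_univ, hq]; norm_num))
  simp only [Finset.mem_insert, Finset.mem_singleton, not_or] at hx
  have h := FiniteField.pow_card_sub_one_eq_one x hx.1
  rw [hq] at h
  have h3 : (x - 1) * (x ^ 2 + x + 1) = 0 := by linear_combination h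
  refine ⟨x, ?_⟩
  linear_combination (mul_eq_zero.1 h3).resolve_left (sub_ne_zero.2 hx.2) - h2

namespace RSys

variable (S : RSys H b R) {δ η : F} (hk : Kind δ η) (hT : ∀ i, ∀ T ∈ tset δ η, Realises Q (D i) T) (ht : 5 ≤ t)
include S hk hT ht

/-- The components of a moved vector. -/
theorem pr_move_zero {u : V} {g : O Q} (hst : ∀ i, ∀ v ∈ D i, (g : V ≃ₗ[F] V) v ∈ D i) {i : Fin t}
    (h : H.pr i u = 0) : H.pr i ((rO Q u : V ≃ₗ[F] V) ((g : V ≃ₗ[F] V) u)) = 0 := by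
  rw [H.pr_move u hst, h, map_zero, smul_zero, sub_zero]

theorem supp_subset_erase {u w : V} (h : ∀ i, H.pr i u = 0 → H.pr i w = 0) {l : Fin t} (hl : H.pr l w = 0) :
    H.supp w ⊆ (H.supp u).erase l := fun i hi => by
  rw [PDec.mem_supp] at hi
  exact Finset.mem_erase.2 ⟨fun e => hi (e ▸ hl), H.mem_supp.2 fun e => hi (h i e)⟩

/-- A member with a zero among the components of `u` and two nonzero ones is smaller. -/
theorem smaller {u w : V} (h : ∀ i, H.pr i u = 0 → H.pr i w = 0) {l p q : Fin t} (hl : H.pr l w = 0)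
    (hlu : H.pr l u ≠ 0) (hpq : p ≠ q) (hp : H.pr p w ≠ 0) (hq : H.pr q w ≠ 0) :
    2 ≤ (H.supp w).card ∧ (H.supp w).card < (H.supp u).card := by
  refine ⟨?_, lt_of_le_of_lt (Finset.card_le_card (S.supp_subset_erase hk hT ht h hl))
    (Finset.card_erase_lt_of_mem (H.mem_supp.2 hlu))⟩
  exact Finset.one_lt_card.2 ⟨p, H.mem_supp.2 hp, q, H.mem_supp.2 hq, hpq⟩

/-- A singular component can be removed. -/
theorem shrink_singular [DecidableEq F] (h7 : 7 ≤ Fintype.card F) {u : V} (hu : u ∈ R)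
    (hn : 3 ≤ (H.supp u).card) {l : Fin t} (hl : H.pr l u ≠ 0) (hQl : Q (H.pr l u) = 0) :
    ∃ w ∈ R, 2 ≤ (H.supp w).card ∧ (H.supp w).card < (H.supp u).card := by
  have hQu := S.aniso u hu
  obtain ⟨f, hf, hQf, hef, -, -⟩ := exists_hyperbolic (H.nd l) (H.rk l) (H.pr_mem l u) hl hQl
  have he := H.pr_mem l u
  have qa : Q (H.pr l u + f) = 1 := by simpa using hyp_q hQl hQf hef 1 1
  by_cases h2 : (2 : F) = 0
  · obtain ⟨m, hm⟩ : ∃ m, Q (H.pr m u) ≠ 0 := by
      by_contra hc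
      push Not at hc
      exact hQu (by rw [H.q_sum u]; exact Finset.sum_eq_zero fun i _ => hc i)
    have hml : m ≠ l := fun e => hm (e ▸ hQl)
    have hm0 : H.pr m u ≠ 0 := fun e => hm (by rw [e, map_zero])
    have := card_tfin hk
    have := two_mul_pfin h2
    obtain ⟨T, hTm, hT1⟩ : ∃ T ∈ tfin δ η, T ∉ ({Q u / Q (H.pr m u)} : Finset F) :=
      Finset.exists_mem_notMem_of_card_lt_card (by rw [Finset.card_singleton]; omega)
    rw [Finset.mem_singleton] at hT1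
    have hT0 := ne_zero_of_mem_tfin hk hTm
    set β := (Q u)⁻¹ * (T * Q (H.pr m u)) with hβdef
    have hβ0 : β ≠ 0 := mul_ne_zero (inv_ne_zero hQu) (mul_ne_zero hT0 hm)
    have hβ1 : β ≠ 1 := fun e => hT1 (by
      rw [eq_div_iff hm]
      rw [hβdef, inv_mul_eq_one₀ hQu] at e
      exact e.symm)
    obtain ⟨a, ha, a', ha', hQa, hQa', e⟩ := hT m T (tfin_subset hTm)
    have hb : H.pr l u + β • f ∈ D l := (D l).add_mem he ((D l).smul_mem _ hf)
    have hxa : H.pr l u + f ∈ D l := (D l).add_mem he hf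
    set g := rot Q (H.pr l u + f) (H.pr l u + β • f) * rot Q a a' with hg
    have hst : ∀ i, ∀ v ∈ D i, (g : V ≃ₗ[F] V) v ∈ D i := fun i v hv => by
      rw [hg, Subgroup.coe_mul, mul_app]; exact H.rot_block hxa hb (H.rot_block ha ha' hv)
    have hgl : (g : V ≃ₗ[F] V) (H.pr l u) = β • H.pr l u := by
      rw [hg, Subgroup.coe_mul, mul_app, H.rot_fix_block ha ha' hml.symm he, hyp_rot hQl hQf hef hβ0]
    have hgm : ∀ v ∈ D m, (g : V ≃ₗ[F] V) v = (rot Q a a' : V ≃ₗ[F] V) v := fun v hv => by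
      rw [hg, Subgroup.coe_mul, mul_app, H.rot_fix_block hxa hb hml (H.rot_block ha ha' hv)]
    have hfix : ∀ i, i ≠ l → i ≠ m → ∀ v ∈ D i, (g : V ≃ₗ[F] V) v = v := fun i hil him v hv => by
      rw [hg, Subgroup.coe_mul, mul_app, H.rot_fix_block ha ha' him hv, H.rot_fix_block hxa hb hil hv]
    have hfac : (Q u)⁻¹ * polar Q u ((g : V ≃ₗ[F] V) u) = β := by
      rw [H.polar_app_stab hst u {l, m} (fun i hi => hfix i (fun e => hi (by simp [e])) (fun e => hi (by simp [e]))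
        _ (H.pr_mem i u)), Finset.sum_pair hml.symm, hgl, hgm _ (H.pr_mem m u), polar_smul_left', polar_self', hQl,
        polar_rot (H.rk m) ha ha' hQa hQa' (H.pr_mem m u), e, hβdef, h2]
      ring
    obtain ⟨p, hp, q, hq, hpl, hql, hpq⟩ := three_in_finset hn (H.mem_supp.2 hl)
    refine ⟨_, S.move hst hu, S.smaller hk hT ht (fun i => S.pr_move_zero hk hT ht hst) (l := l) ?_ hl hpq ?_ ?_⟩
    · rw [H.pr_move u hst, hgl, hfac, sub_self]
    all_goals
      rw [H.pr_move u hst, hfac]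
    · rcases eq_or_ne p m with rfl | hpm
      · intro h0
        rw [sub_eq_zero] at h0
        have h1 := congrArg Q h0
        rw [O.map_app, qmap_smul] at h1
        refine hβ1 (sq_inj h2 ?_)
        rw [one_pow]
        exact mul_right_cancel₀ hm (by rw [one_mul]; exact h1.symm)
      · rw [hfix p hpl hpm _ (H.pr_mem p u)]
        intro h0
        have h1 : (1 - β) • H.pr p u = 0 := by rw [sub_smul, one_smul]; exact h0
        exact H.mem_supp.1 hp ((smul_eq_zero.1 h1).resolve_left (sub_ne_zero.2 hβ1.symm))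
    · rcases eq_or_ne q m with rfl | hqm
      · intro h0
        rw [sub_eq_zero] at h0
        have h1 := congrArg Q h0
        rw [O.map_app, qmap_smul] at h1
        refine hβ1 (sq_inj h2 ?_)
        rw [one_pow]
        exact mul_right_cancel₀ hm (by rw [one_mul]; exact h1.symm)
      · rw [hfix q hql hqm _ (H.pr_mem q u)]
        intro h0
        have h1 : (1 - β) • H.pr q u = 0 := by rw [sub_smul, one_smul]; exact h0
        exact H.mem_supp.1 hq ((smul_eq_zero.1 h1).resolve_left (sub_ne_zero.2 hβ1.symm))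
  · have qb : Q (H.pr l u + (2 : F) • f) = 2 := by simpa using hyp_q hQl hQf hef 1 2
    have hxa : H.pr l u + f ∈ D l := (D l).add_mem he hf
    have hb : H.pr l u + (2 : F) • f ∈ D l := (D l).add_mem he ((D l).smul_mem _ hf)
    set g := rot Q (H.pr l u + f) (H.pr l u + (2 : F) • f) with hg
    have hst : ∀ i, ∀ v ∈ D i, (g : V ≃ₗ[F] V) v ∈ D i := fun i v hv => H.rot_block hxa hb hv
    have hgl : (g : V ≃ₗ[F] V) (H.pr l u) = (2 : F) • H.pr l u := hyp_rot hQl hQf hef h2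
    have hfix : ∀ i, i ≠ l → ∀ v ∈ D i, (g : V ≃ₗ[F] V) v = v := fun i hil v hv => H.rot_fix_block hxa hb hil hv
    have hfac : (Q u)⁻¹ * polar Q u ((g : V ≃ₗ[F] V) u) = 2 := by
      rw [H.polar_app_stab hst u {l} (fun i hi => hfix i (by simpa using hi) _ (H.pr_mem i u)),
        Finset.sum_singleton, hgl, polar_smul_left', polar_self', hQl]
      field_simp
      ring
    obtain ⟨p, hp, q, hq, hpl, hql, hpq⟩ := three_in_finset hn (H.mem_supp.2 hl)
    refine ⟨_, S.move hst hu, S.smaller hk hT ht (fun i => S.pr_move_zero hk hT ht hst) (l := l) ?_ hl hpq ?_ ?_⟩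
    · rw [H.pr_move u hst, hgl, hfac, sub_self]
    · rw [H.pr_move u hst, hfac, hfix p hpl _ (H.pr_mem p u), two_smul, sub_add_eq_sub_sub, sub_self, zero_sub,
        neg_ne_zero]
      exact H.mem_supp.1 hp
    · rw [H.pr_move u hst, hfac, hfix q hql _ (H.pr_mem q u), two_smul, sub_add_eq_sub_sub, sub_self, zero_sub,
        neg_ne_zero]
      exact H.mem_supp.1 hq

/-- A component becomes singular. -/
theorem exists_singular_comp {u : V} (hu : u ∈ R) {p : Fin t} (hp : Q (H.pr p u) ≠ 0)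
    (hne : Q (H.pr p u) ≠ Q u) (hne2 : 2 * Q (H.pr p u) ≠ Q u) {e : V} (he : e ∈ D p) (he0 : e ≠ 0)
    (hQe : Q e = 0) : ∃ w ∈ R, ∃ c : F, c ≠ 0 ∧ H.pr p w = e ∧ (∀ i, i ≠ p → H.pr i w = c • H.pr i u) ∧
      Q w = c ^ 2 * (Q u - Q (H.pr p u)) := by
  have hp0 : H.pr p u ≠ 0 := fun e0 => hp (by rw [e0, map_zero])
  have hB : polar Q e (H.pr p u) ≠ 0 := by
    intro h0
    obtain ⟨f, hf, hQf, hef, -, hco⟩ := exists_hyperbolic (H.nd p) (H.rk p) he he0 hQe
    obtain ⟨s, r, hsr⟩ := hco _ (H.pr_mem p u)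
    rw [hsr, polar_add_right, polar_smul_right', polar_smul_right', polar_self', hQe, hef] at h0
    have hr : r = 0 := by linear_combination h0
    exact hp (by rw [hsr, hyp_q hQe hQf hef, hr, mul_zero])
  set c := polar Q e (H.pr p u) / (Q u - 2 * Q (H.pr p u)) with hc
  have hd : Q u - 2 * Q (H.pr p u) ≠ 0 := sub_ne_zero.2 hne2.symm
  have hc0 : c ≠ 0 := div_ne_zero hB hd
  set x := e + c • H.pr p u with hxdef
  have hx : x ∈ D p := (D p).add_mem he ((D p).smul_mem _ (H.pr_mem p u))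
  have hcd : polar Q e (H.pr p u) = c * (Q u - 2 * Q (H.pr p u)) := (div_mul_cancel₀ _ hd).symm
  have hQx : Q x = c ^ 2 * (Q u - Q (H.pr p u)) := by
    rw [hxdef, map_add_polar, qmap_smul, polar_smul_right', hQe, hcd]; ring
  have hQx0 : Q x ≠ 0 := by rw [hQx]; exact mul_ne_zero (pow_ne_zero 2 hc0) (sub_ne_zero.2 hne.symm)
  have hpb : p ≠ b := S.ne_of_mem hu hp0
  have hfac : (Q u)⁻¹ * polar Q u x = c := by
    rw [polar_comm, ← H.polar_pr hx u, hxdef, polar_add_left, polar_smul_left', polar_self', hcd]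
    have := S.aniso u hu
    field_simp
    ring
  refine ⟨_, S.refl u hu x (S.block p hpb x hx hQx0), -c, neg_ne_zero.2 hc0, ?_, fun i hi => ?_, ?_⟩
  · rw [rO_app, hfac, map_sub, map_smul, H.pr_self hx, hxdef, add_sub_cancel_right]
  · rw [rO_app, hfac, map_sub, map_smul, H.pr_other hx hi, zero_sub, neg_smul]
  · rw [O.map_app, hQx, neg_sq]

/-- One step down, for anisotropic planes. -/
theorem shrink_aniso [DecidableEq F] (hη : ∀ w ∈ asImage F, w + η ≠ 0) (han : ∀ i, ∀ x ∈ D i, Q x = 0 → x = 0)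
    {u : V} (hu : u ∈ R) (hn : 3 ≤ (H.supp u).card)
    (hgood : (2 : F) = 0 → (H.supp u).card = 3 → 4 ≤ Fintype.card F) :
    ∃ w ∈ R, 2 ≤ (H.supp w).card ∧ (H.supp w).card < (H.supp u).card := by
  have hQu := S.aniso u hu
  have hQ : ∀ i ∈ H.supp u, Q (H.pr i u) ≠ 0 := fun i hi h => H.mem_supp.1 hi (han i _ (H.pr_mem i u) h)
  -- two changed components and a zero
  have pair : ∀ p q r, p ∈ H.supp u → q ∈ H.supp u → r ∈ H.supp u → p ≠ q → p ≠ r → q ≠ r →
      ∀ T ∈ tfin δ η, ∀ T' ∈ tfin δ η, Q (H.pr p u) * T + Q (H.pr q u) * T' = -Q u →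
      ∃ w ∈ R, 2 ≤ (H.supp w).card ∧ (H.supp w).card < (H.supp u).card := by
    intro p q r hp hq hr hpq hpr hqr T hTm T' hTm' hsum
    obtain ⟨a, ha, a', ha', hQa, hQa', e⟩ := hT p T (tfin_subset hTm)
    obtain ⟨c, hc, c', hc', hQc, hQc', e'⟩ := hT q T' (tfin_subset hTm')
    set g := rot Q a a' * rot Q c c' with hg
    have hst : ∀ i, ∀ v ∈ D i, (g : V ≃ₗ[F] V) v ∈ D i := fun i v hv => by
      rw [hg, Subgroup.coe_mul, mul_app]; exact H.rot_block ha ha' (H.rot_block hc hc' hv)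
    have hgp : ∀ v ∈ D p, (g : V ≃ₗ[F] V) v = (rot Q a a' : V ≃ₗ[F] V) v := fun v hv => by
      rw [hg, Subgroup.coe_mul, mul_app, H.rot_fix_block hc hc' hpq hv]
    have hgq : ∀ v ∈ D q, (g : V ≃ₗ[F] V) v = (rot Q c c' : V ≃ₗ[F] V) v := fun v hv => by
      rw [hg, Subgroup.coe_mul, mul_app, H.rot_fix_block ha ha' hpq.symm (H.rot_block hc hc' hv)]
    have hfix : ∀ i, i ≠ p → i ≠ q → ∀ v ∈ D i, (g : V ≃ₗ[F] V) v = v := fun i h1 h3 v hv => by
      rw [hg, Subgroup.coe_mul, mul_app, H.rot_fix_block hc hc' h3 hv, H.rot_fix_block ha ha' h1 hv]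
    have hfac : (Q u)⁻¹ * polar Q u ((g : V ≃ₗ[F] V) u) = 1 := by
      rw [H.polar_app_stab hst u {p, q} (fun i hi => hfix i (fun e => hi (by simp [e])) (fun e => hi (by simp [e]))
        _ (H.pr_mem i u)), Finset.sum_pair hpq, hgp _ (H.pr_mem p u), hgq _ (H.pr_mem q u),
        polar_rot (H.rk p) ha ha' hQa hQa' (H.pr_mem p u), polar_rot (H.rk q) hc hc' hQc hQc' (H.pr_mem q u),
        e, e']
      field_simp
      linear_combination hsum
    refine ⟨_, S.move hst hu, S.smaller hk hT ht (fun i => S.pr_move_zero hk hT ht hst) (l := r) ?_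
      (H.mem_supp.1 hr) hpq ?_ ?_⟩
    all_goals rw [H.pr_move u hst, hfac, one_smul]
    · rw [hfix r hpr.symm hqr.symm _ (H.pr_mem r u), sub_self]
    · rw [hgp _ (H.pr_mem p u)]
      exact sub_ne_zero.2 fun h => H.mem_supp.1 hp (rot_fix_only (H.nd p) (H.rk p) ha ha' hQa hQa'
        (li_of_tval_ne hQa hQa' (by rw [e]; exact ne_zero_of_mem_tfin hk hTm)) (H.pr_mem p u) h)
    · rw [hgq _ (H.pr_mem q u)]
      exact sub_ne_zero.2 fun h => H.mem_supp.1 hq (rot_fix_only (H.nd q) (H.rk q) hc hc' hQc hQc'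
        (li_of_tval_ne hQc hQc' (by rw [e']; exact ne_zero_of_mem_tfin hk hTm')) (H.pr_mem q u) h)
  obtain ⟨p, hp⟩ := Finset.card_pos.1 (show 0 < (H.supp u).card by omega)
  obtain ⟨q, hq, r, hr, hqp, hrp, hqr⟩ := three_in_finset hn hp
  by_cases h2 : (2 : F) = 0
  swap
  · obtain ⟨T, hTm, T', hTm', hsum⟩ := exists_pair_aniso hk hη h2 (hQ p hp) (hQ q hq) (-Q u)
    exact pair p q r hp hq hr hqp.symm hrp.symm hqr T hTm T' hTm' hsum
  rcases Nat.lt_or_ge 3 (H.supp u).card with hn4 | hn3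
  · -- three changed components and a zero at a fourth
    obtain ⟨s, hs, hs'⟩ := Finset.exists_mem_notMem_of_card_lt_card (s := ({p, q, r} : Finset (Fin t)))
      (t := H.supp u) (lt_of_le_of_lt Finset.card_le_three hn4)
    simp only [Finset.mem_insert, Finset.mem_singleton, not_or] at hs'
    obtain ⟨T₁, hm₁, T₂, hm₂, T₃, hm₃, hsum, hT₃, hor⟩ :=
      exists_triple_even h2 hk (Or.inl hη) (hQ p hp) (hQ q hq) (hQ r hr) (neg_ne_zero.2 hQu)
    obtain ⟨a₁, ha₁, b₁, hb₁, hQa₁, hQb₁, e₁⟩ := hT p T₁ hm₁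
    obtain ⟨a₂, ha₂, b₂, hb₂, hQa₂, hQb₂, e₂⟩ := hT q T₂ hm₂
    obtain ⟨a₃, ha₃, b₃, hb₃, hQa₃, hQb₃, e₃⟩ := hT r T₃ hm₃
    set g := rot Q a₁ b₁ * rot Q a₂ b₂ * rot Q a₃ b₃ with hg
    have happ : ∀ x, (g : V ≃ₗ[F] V) x = (rot Q a₁ b₁ : V ≃ₗ[F] V) ((rot Q a₂ b₂ : V ≃ₗ[F] V)
        ((rot Q a₃ b₃ : V ≃ₗ[F] V) x)) := fun x => by rw [hg, Subgroup.coe_mul, Subgroup.coe_mul, mul_app, mul_app]
    have hst : ∀ i, ∀ v ∈ D i, (g : V ≃ₗ[F] V) v ∈ D i := fun i v hv => by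
      rw [happ]; exact H.rot_block ha₁ hb₁ (H.rot_block ha₂ hb₂ (H.rot_block ha₃ hb₃ hv))
    have hgp : ∀ v ∈ D p, (g : V ≃ₗ[F] V) v = (rot Q a₁ b₁ : V ≃ₗ[F] V) v := fun v hv => by
      rw [happ, H.rot_fix_block ha₃ hb₃ hrp.symm hv, H.rot_fix_block ha₂ hb₂ hqp.symm hv]
    have hgq : ∀ v ∈ D q, (g : V ≃ₗ[F] V) v = (rot Q a₂ b₂ : V ≃ₗ[F] V) v := fun v hv => by
      rw [happ, H.rot_fix_block ha₃ hb₃ hqr hv, H.rot_fix_block ha₁ hb₁ hqp (H.rot_block ha₂ hb₂ hv)]
    have hgr : ∀ v ∈ D r, (g : V ≃ₗ[F] V) v = (rot Q a₃ b₃ : V ≃ₗ[F] V) v := fun v hv => by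
      rw [happ, H.rot_fix_block ha₂ hb₂ hqr.symm (H.rot_block ha₃ hb₃ hv),
        H.rot_fix_block ha₁ hb₁ hrp (H.rot_block ha₃ hb₃ hv)]
    have hfix : ∀ i, i ≠ p → i ≠ q → i ≠ r → ∀ v ∈ D i, (g : V ≃ₗ[F] V) v = v := fun i hip hiq hir v hv => by
      rw [happ, H.rot_fix_block ha₃ hb₃ hir hv, H.rot_fix_block ha₂ hb₂ hiq hv, H.rot_fix_block ha₁ hb₁ hip hv]
    have hfac : (Q u)⁻¹ * polar Q u ((g : V ≃ₗ[F] V) u) = 1 := by
      rw [H.polar_app_stab hst u {p, q, r} (fun i hi => by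
        simp only [Finset.mem_insert, Finset.mem_singleton, not_or] at hi
        exact hfix i hi.1 hi.2.1 hi.2.2 _ (H.pr_mem i u))]
      rw [Finset.sum_insert (by simp [hqp.symm, hrp.symm]), Finset.sum_pair hqr, hgp _ (H.pr_mem p u),
        hgq _ (H.pr_mem q u), hgr _ (H.pr_mem r u), polar_rot (H.rk p) ha₁ hb₁ hQa₁ hQb₁ (H.pr_mem p u), e₁,
        polar_rot (H.rk q) ha₂ hb₂ hQa₂ hQb₂ (H.pr_mem q u), e₂,
        polar_rot (H.rk r) ha₃ hb₃ hQa₃ hQb₃ (H.pr_mem r u), e₃]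
      field_simp
      linear_combination hsum
    have hmove : ∀ i a' b', i ∈ H.supp u → a' ∈ D i → b' ∈ D i → Q a' ≠ 0 → Q b' ≠ 0 → tval Q a' b' ≠ 0 →
        (g : V ≃ₗ[F] V) (H.pr i u) = (rot Q a' b' : V ≃ₗ[F] V) (H.pr i u) →
        H.pr i ((rO Q u : V ≃ₗ[F] V) ((g : V ≃ₗ[F] V) u)) ≠ 0 := fun i a' b' hi ha hb hQa hQb hne he => by
      rw [H.pr_move u hst, hfac, one_smul, he]
      exact sub_ne_zero.2 fun hc => H.mem_supp.1 hi
        (rot_fix_only (H.nd i) (H.rk i) ha hb hQa hQb (li_of_tval_ne hQa hQb hne) (H.pr_mem i u) hc)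
    have hzero : H.pr s ((rO Q u : V ≃ₗ[F] V) ((g : V ≃ₗ[F] V) u)) = 0 := by
      rw [H.pr_move u hst, hfac, hfix s hs'.1 hs'.2.1 hs'.2.2 _ (H.pr_mem s u), one_smul, sub_self]
    have hrne := hmove r a₃ b₃ hr ha₃ hb₃ hQa₃ hQb₃ (by rw [e₃]; exact hT₃) (hgr _ (H.pr_mem r u))
    refine ⟨_, S.move hst hu, ?_⟩
    rcases hor with hT₁ | hT₂
    · exact S.smaller hk hT ht (fun i => S.pr_move_zero hk hT ht hst) hzero (H.mem_supp.1 hs) hrp
        hrne (hmove p a₁ b₁ hp ha₁ hb₁ hQa₁ hQb₁ (by rw [e₁]; exact hT₁) (hgp _ (H.pr_mem p u)))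
    · exact S.smaller hk hT ht (fun i => S.pr_move_zero hk hT ht hst) hzero (H.mem_supp.1 hs) hqr
        (hmove q a₂ b₂ hq ha₂ hb₂ hQa₂ hQb₂ (by rw [e₂]; exact hT₂) (hgq _ (H.pr_mem q u))) hrne
  -- three components
  have h3 : (H.supp u).card = 3 := le_antisymm hn3 hn
  have hq4 := hgood h2 h3
  by_contra hfail
  -- every vector with the same three-element support forces a parameter condition
  have key : ∀ w, w ∈ R → H.supp w = H.supp u → ∀ i ∈ H.supp u, Q (H.pr i w) / Q w + η ∈ asImage F := by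
    intro w hw hsupp i hi
    obtain ⟨j, hj, l, hl, hji, hli, hjl⟩ := three_in_finset hn hi
    have hQw : ∀ m ∈ H.supp u, Q (H.pr m w) ≠ 0 := fun m hm h =>
      H.mem_supp.1 (hsupp.symm ▸ hm : m ∈ H.supp w) (han m _ (H.pr_mem m w) h)
    have hnone : ∀ T ∈ tfin δ η, ∀ T' ∈ tfin δ η, Q (H.pr j w) * T + Q (H.pr i w) * T' ≠ -Q w := by
      intro T hTm T' hTm' hsum
      refine hfail ?_
      -- the same move applied to `w`
      obtain ⟨a, ha, a', ha', hQa, hQa', e⟩ := hT j T (tfin_subset hTm)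
      obtain ⟨c, hc, c', hc', hQc, hQc', e'⟩ := hT i T' (tfin_subset hTm')
      set g := rot Q a a' * rot Q c c' with hg
      have hst : ∀ m, ∀ v ∈ D m, (g : V ≃ₗ[F] V) v ∈ D m := fun m v hv => by
        rw [hg, Subgroup.coe_mul, mul_app]; exact H.rot_block ha ha' (H.rot_block hc hc' hv)
      have hgj : ∀ v ∈ D j, (g : V ≃ₗ[F] V) v = (rot Q a a' : V ≃ₗ[F] V) v := fun v hv => by
        rw [hg, Subgroup.coe_mul, mul_app, H.rot_fix_block hc hc' hji hv]
      have hgi : ∀ v ∈ D i, (g : V ≃ₗ[F] V) v = (rot Q c c' : V ≃ₗ[F] V) v := fun v hv => by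
        rw [hg, Subgroup.coe_mul, mul_app, H.rot_fix_block ha ha' hji.symm (H.rot_block hc hc' hv)]
      have hfix : ∀ m, m ≠ j → m ≠ i → ∀ v ∈ D m, (g : V ≃ₗ[F] V) v = v := fun m h1 h3 v hv => by
        rw [hg, Subgroup.coe_mul, mul_app, H.rot_fix_block hc hc' h3 hv, H.rot_fix_block ha ha' h1 hv]
      have hQw' := S.aniso w hw
      have hfac : (Q w)⁻¹ * polar Q w ((g : V ≃ₗ[F] V) w) = 1 := by
        rw [H.polar_app_stab hst w {j, i} (fun m hm => hfix m (fun e => hm (by simp [e]))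
          (fun e => hm (by simp [e])) _ (H.pr_mem m w)), Finset.sum_pair hji, hgj _ (H.pr_mem j w),
          hgi _ (H.pr_mem i w), polar_rot (H.rk j) ha ha' hQa hQa' (H.pr_mem j w),
          polar_rot (H.rk i) hc hc' hQc hQc' (H.pr_mem i w), e, e']
        field_simp
        linear_combination hsum
      have hiw : H.pr i w ≠ 0 := fun h => hQw i hi (by rw [h, map_zero])
      have hjw : H.pr j w ≠ 0 := fun h => hQw j hj (by rw [h, map_zero])
      have hlw : H.pr l w ≠ 0 := fun h => hQw l hl (by rw [h, map_zero])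
      refine ⟨_, S.move hst hw, ?_⟩
      rw [← hsupp]
      refine S.smaller hk hT ht (fun m => S.pr_move_zero hk hT ht hst) (l := l) ?_ hlw hji.symm ?_ ?_
      all_goals rw [H.pr_move w hst, hfac, one_smul]
      · rw [hfix l hjl.symm hli _ (H.pr_mem l w), sub_self]
      · rw [hgi _ (H.pr_mem i w)]
        exact sub_ne_zero.2 fun h => hiw (rot_fix_only (H.nd i) (H.rk i) hc hc' hQc hQc'
          (li_of_tval_ne hQc hQc' (by rw [e']; exact ne_zero_of_mem_tfin hk hTm')) (H.pr_mem i w) h)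
      · rw [hgj _ (H.pr_mem j w)]
        exact sub_ne_zero.2 fun h => hjw (rot_fix_only (H.nd j) (H.rk j) ha ha' hQa hQa'
          (li_of_tval_ne hQa hQa' (by rw [e]; exact ne_zero_of_mem_tfin hk hTm)) (H.pr_mem j w) h)
    have hm := mem_of_no_pair h2 hk hη (hQw j hj) (hQw i hi) hnone
    have := (mem_tset_two h2 hk (ne_zero_of_mem_tfin hk hm)).1 (tfin_subset hm)
    rwa [neg_div, inv_neg, inv_div, neg_eq_self h2] at this
  have hsupp : H.supp u = {p, q, r} := (Finset.eq_of_subset_of_card_le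
    (by simp [Finset.insert_subset_iff, hp, hq, hr]) (by
      rw [h3, Finset.card_insert_of_notMem (by simp [hqp.symm, hrp.symm]), Finset.card_pair hqr])).symm
  have hsum : Q (H.pr p u) + (Q (H.pr q u) + Q (H.pr r u)) = Q u := by
    rw [H.q_sum_supp u (S := {p, q, r}) (fun i hi => H.pr_zero_of_not_mem (hsupp ▸ hi)),
      Finset.sum_insert (by simp [hqp.symm, hrp.symm]), Finset.sum_pair hqr]
  have h1 : 1 + η ∈ asImage F := by
    have := asImage_add h2 (asImage_add h2 (key u hu rfl p hp) (key u hu rfl q hq)) (key u hu rfl r hr)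
    convert this using 1
    field_simp
    linear_combination -hsum - (η * Q u) * h2
  -- reflect a vector of the block of `p`
  have hη' : η ∉ asImage F := fun h => hη η h (by linear_combination η * h2)
  set a₀ := Q (H.pr p u) * Q (H.pr r u) / Q u ^ 2 with ha₀
  have ha₀0 : a₀ ≠ 0 := div_ne_zero (mul_ne_zero (hQ p hp) (hQ r hr)) (pow_ne_zero 2 hQu)
  have hinv : ∀ T ∈ tfin δ η, T * a₀ + η ∈ asImage F := by
    intro T hTm
    have hT0 := ne_zero_of_mem_tfin hk hTm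
    have h4 : (4 : F) = 0 := by rw [show (4 : F) = 2 * 2 by norm_num, h2, mul_zero]
    obtain ⟨x, hx, hQx, hxp, -⟩ := exists_partner_tval (H.rk p) (hT p T (tfin_subset hTm))
      (by rw [h4, add_zero]; exact hT0) (H.pr_mem p u) (hQ p hp)
    rw [h4, add_zero] at hQx hxp
    have hQx0 : Q x ≠ 0 := by rw [hQx]; exact mul_ne_zero hT0 (hQ p hp)
    set w := (rO Q u : V ≃ₗ[F] V) x with hwdef
    have hw : w ∈ R := S.refl u hu x (S.block p (S.ne_of_mem hu (H.mem_supp.1 hp)) x hx hQx0)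
    set c := (Q u)⁻¹ * polar Q u x with hcdef
    have hc : c = (Q u)⁻¹ * (T * Q (H.pr p u)) := by rw [hcdef, polar_comm, ← H.polar_pr hx u, hxp]
    have hc0 : c ≠ 0 := by rw [hc]; exact mul_ne_zero (inv_ne_zero hQu) (mul_ne_zero hT0 (hQ p hp))
    have hother : ∀ i, i ≠ p → H.pr i w = -(c • H.pr i u) := fun i hi => by
      rw [hwdef, rO_app, ← hcdef, map_sub, map_smul, H.pr_other hx hi, zero_sub]
    have hsame : H.supp w = H.supp u := by
      ext i
      rw [PDec.mem_supp, PDec.mem_supp]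
      rcases eq_or_ne i p with rfl | hi
      · refine iff_of_true (fun h0 => hfail ⟨w, hw, S.smaller hk hT ht (fun m hm => ?_) h0 (H.mem_supp.1 hp)
          hqr ?_ ?_⟩) (H.mem_supp.1 hp)
        · rw [hother m fun e => H.mem_supp.1 hp (e ▸ hm), hm, smul_zero, neg_zero]
        · rw [hother q hqp, neg_ne_zero]; exact smul_ne_zero hc0 (H.mem_supp.1 hq)
        · rw [hother r hrp, neg_ne_zero]; exact smul_ne_zero hc0 (H.mem_supp.1 hr)
      · rw [hother i hi, neg_ne_zero]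
        exact ⟨fun h => (smul_ne_zero_iff.1 h).2, smul_ne_zero hc0⟩
    have := key w hw hsame r hr
    rwa [hother r hrp, QuadraticMap.map_neg, qmap_smul, show Q w = T * Q (H.pr p u) by rw [hwdef, O.map_app, hQx],
      show c ^ 2 * Q (H.pr r u) / (T * Q (H.pr p u)) = T * a₀ by rw [hc, ha₀]; field_simp] at this
  have hq4' : Fintype.card F ≤ 4 := card_le_four_of_scaled_inv h2 ha₀0 fun y hy => by
    rcases eq_or_ne y 0 with rfl | hy0
    · rw [div_zero]; exact asImage_zero h2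
    by_contra hc
    -- otherwise `a₀ / y` gives an element of the image outside it
    have h5 : a₀ / y + η ∈ asImage F := asImage_add_of_not_mem h2 hη' hc
    have hT : (a₀ / y)⁻¹ ∈ tfin δ η := mem_tfin.2 ⟨a₀ / y + η, h5,
      by rw [show a₀ / y + η + η = a₀ / y by linear_combination η * h2]; exact div_ne_zero ha₀0 hy0,
      by rw [show a₀ / y + η + η = a₀ / y by linear_combination η * h2, kind_two h2 hk, one_div]⟩
    have := hinv _ hT
    rw [inv_div, div_mul_cancel₀ _ ha₀0] at this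
    exact hη' (by simpa [show y + η + y = η by linear_combination y * h2] using asImage_add h2 this hy)
  have : (1 : F) ∈ asImage F := one_mem_asImage_four h2 (le_antisymm hq4' hq4)
  exact hη' (by simpa [show 1 + η + 1 = η by linear_combination h2] using asImage_add h2 h1 this)

/-- One step down. -/
theorem shrink [DecidableEq F] (hL : Large Q D) (hq : 4 ≤ Fintype.card F)
    (hη : (∀ i, ∀ x ∈ D i, Q x = 0 → x = 0) → ∀ w ∈ asImage F, w + η ≠ 0)
    (hsing : (∀ w ∈ asImage F, w + η ≠ 0) ∨ ∀ i, ∃ e ∈ D i, e ≠ 0 ∧ Q e = 0)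
    {u : V} (hu : u ∈ R) (hn : 3 ≤ (H.supp u).card) :
    ∃ w ∈ R, 2 ≤ (H.supp w).card ∧ (H.supp w).card < (H.supp u).card := by
  by_cases han : ∀ i, ∀ x ∈ D i, Q x = 0 → x = 0
  · exact S.shrink_aniso hk hT ht (hη han) han hu hn fun _ _ => hq
  have h7 : 7 ≤ Fintype.card F := hL.resolve_left fun h => han h.1
  have hblocks : ∀ i, ∃ e ∈ D i, e ≠ 0 ∧ Q e = 0 := by
    push Not at han
    obtain ⟨j, x, hx, hQx, hx0⟩ := han
    intro i
    obtain ⟨g, hg⟩ := H.isom j i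
    refine ⟨_, (g ⟨x, hx⟩).2, fun h => hx0 ?_, by rw [hg]; exact hQx⟩
    have h0 : g ⟨x, hx⟩ = 0 := Subtype.ext h
    exact congrArg Subtype.val (g.map_eq_zero_iff.1 h0)
  have hQu := S.aniso u hu
  -- singular components are removed
  have sing : ∀ w ∈ R, H.supp w = H.supp u → ∀ i, i ∈ H.supp u → Q (H.pr i w) = 0 →
      ∃ w' ∈ R, 2 ≤ (H.supp w').card ∧ (H.supp w').card < (H.supp u).card := by
    intro w hw hsw i hi h0
    rw [← hsw]
    exact S.shrink_singular hk hT ht h7 hw (hsw ▸ hn) (H.mem_supp.1 (hsw.symm ▸ hi)) h0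
  -- a component can be made singular
  have mk : ∀ w ∈ R, H.supp w = H.supp u → ∀ i ∈ H.supp u, Q (H.pr i w) ≠ 0 → Q (H.pr i w) ≠ Q w →
      2 * Q (H.pr i w) ≠ Q w → ∃ w' ∈ R, 2 ≤ (H.supp w').card ∧ (H.supp w').card < (H.supp u).card := by
    intro w hw hsw i hi h0 h1 h3
    obtain ⟨e, he, he0, hQe⟩ := hblocks i
    obtain ⟨w', hw', c, hc0, hwi, hwo, -⟩ := S.exists_singular_comp hk hT ht hw h0 h1 h3 he he0 hQe
    refine sing w' hw' ?_ i hi (by rw [hwi, hQe])
    ext m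
    rw [← hsw, PDec.mem_supp, PDec.mem_supp]
    rcases eq_or_ne m i with rfl | hm
    · rw [hwi]; exact iff_of_true he0 (H.mem_supp.1 (hsw.symm ▸ hi))
    · rw [hwo m hm, smul_ne_zero_iff]; exact ⟨fun h => h.2, fun h => ⟨hc0, h⟩⟩
  by_cases hs0 : ∃ i ∈ H.supp u, Q (H.pr i u) = 0
  · obtain ⟨i, hi, h0⟩ := hs0
    exact sing u hu rfl i hi h0
  push Not at hs0
  by_cases hgd : ∃ i ∈ H.supp u, Q (H.pr i u) ≠ Q u ∧ 2 * Q (H.pr i u) ≠ Q u
  · obtain ⟨i, hi, h1, h3⟩ := hgd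
    exact mk u hu rfl i hi (hs0 i hi) h1 h3
  obtain ⟨p, hp⟩ := Finset.card_pos.1 (show 0 < (H.supp u).card by omega)
  obtain ⟨q, hq', r, hr, hqp, hrp, hqr⟩ := three_in_finset hn hp
  set a₀ := Q (H.pr p u) * Q (H.pr r u) / Q u ^ 2 with ha₀
  have ha₀0 : a₀ ≠ 0 := div_ne_zero (mul_ne_zero (hs0 p hp) (hs0 r hr)) (pow_ne_zero 2 hQu)
  obtain ⟨T, hTm, hT4, hTa, hTb⟩ : ∃ T ∈ tset δ η, T + 4 ≠ 0 ∧ (T + 4) * a₀ ≠ 1 ∧ 2 * ((T + 4) * a₀) ≠ 1 := by
    have hc1 := card_tfin hk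
    have hc2 := card_insert_tfin hk
    by_cases h2 : (2 : F) = 0
    · have := two_mul_pfin h2
      obtain ⟨T, hTm, hT'⟩ := Finset.exists_mem_notMem_of_card_lt_card (s := ({-4, 1 / a₀ - 4} : Finset F))
        (t := insert 0 (tfin δ η)) (lt_of_le_of_lt Finset.card_le_two (by omega))
      simp only [Finset.mem_insert, Finset.mem_singleton, not_or] at hT'
      refine ⟨T, mem_insert_tfin.1 hTm, fun e => hT'.1 (eq_neg_of_add_eq_zero_left e), fun e => hT'.2 ?_,
        by rw [h2, zero_mul]; exact zero_ne_one⟩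
      rw [eq_sub_iff_add_eq, eq_div_iff ha₀0]; exact e
    · have := card_lt_two_mul_pfin h2
      obtain ⟨T, hTm, hT'⟩ := Finset.exists_mem_notMem_of_card_lt_card
        (s := ({-4, 1 / a₀ - 4, 1 / (2 * a₀) - 4} : Finset F))
        (t := insert 0 (tfin δ η)) (lt_of_le_of_lt Finset.card_le_three (by omega))
      simp only [Finset.mem_insert, Finset.mem_singleton, not_or] at hT'
      refine ⟨T, mem_insert_tfin.1 hTm, fun e => hT'.1 (eq_neg_of_add_eq_zero_left e), fun e => hT'.2.1 ?_,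
        fun e => hT'.2.2 ?_⟩
      · rw [eq_sub_iff_add_eq, eq_div_iff ha₀0]; exact e
      · rw [eq_sub_iff_add_eq, eq_div_iff (mul_ne_zero h2 ha₀0)]; linear_combination e
  obtain ⟨x, hx, hQx, hxp, -⟩ := exists_partner_tval (H.rk p) (hT p T hTm) hT4 (H.pr_mem p u) (hs0 p hp)
  have hQx0 : Q x ≠ 0 := by rw [hQx]; exact mul_ne_zero hT4 (hs0 p hp)
  set w := (rO Q u : V ≃ₗ[F] V) x with hwdef
  have hw : w ∈ R := S.refl u hu x (S.block p (S.ne_of_mem hu (H.mem_supp.1 hp)) x hx hQx0)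
  set c := (Q u)⁻¹ * polar Q u x with hcdef
  have hc : c = (Q u)⁻¹ * ((T + 4) * Q (H.pr p u)) := by rw [hcdef, polar_comm, ← H.polar_pr hx u, hxp]
  have hc0 : c ≠ 0 := by rw [hc]; exact mul_ne_zero (inv_ne_zero hQu) (mul_ne_zero hT4 (hs0 p hp))
  have hother : ∀ i, i ≠ p → H.pr i w = -(c • H.pr i u) := fun i hi => by
    rw [hwdef, rO_app, ← hcdef, map_sub, map_smul, H.pr_other hx hi, zero_sub]
  by_cases hwp : H.pr p w = 0
  · refine ⟨w, hw, S.smaller hk hT ht (fun m hm => ?_) hwp (H.mem_supp.1 hp) hqr ?_ ?_⟩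
    · rw [hother m fun e => H.mem_supp.1 hp (e ▸ hm), hm, smul_zero, neg_zero]
    · rw [hother q hqp, neg_ne_zero]; exact smul_ne_zero hc0 (H.mem_supp.1 hq')
    · rw [hother r hrp, neg_ne_zero]; exact smul_ne_zero hc0 (H.mem_supp.1 hr)
  have hsame : H.supp w = H.supp u := by
    ext i
    rw [PDec.mem_supp, PDec.mem_supp]
    rcases eq_or_ne i p with rfl | hi
    · exact iff_of_true hwp (H.mem_supp.1 hp)
    · rw [hother i hi, neg_ne_zero]
      exact ⟨fun h => (smul_ne_zero_iff.1 h).2, smul_ne_zero hc0⟩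
  have hQw : Q w = (T + 4) * Q (H.pr p u) := by rw [hwdef, O.map_app, hQx]
  have hrw' : Q (H.pr r w) = (T + 4) * a₀ * Q w := by
    rw [hother r hrp, QuadraticMap.map_neg, qmap_smul, hc, hQw, ha₀]
    field_simp
  have hQw0 := S.aniso w hw
  refine mk w hw hsame r hr ?_ ?_ ?_
  · rw [hrw']; exact mul_ne_zero (mul_ne_zero hT4 ha₀0) hQw0
  · rw [hrw']; exact fun e => hTa (mul_right_cancel₀ hQw0 (by rw [one_mul]; exact e))
  · rw [hrw']; exact fun e => hTb (mul_right_cancel₀ hQw0 (by rw [one_mul]; linear_combination e))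

/-- A member with exactly two components. -/
theorem exists_two [DecidableEq F] (hL : Large Q D) (hq : 4 ≤ Fintype.card F)
    (hη : (∀ i, ∀ x ∈ D i, Q x = 0 → x = 0) → ∀ w ∈ asImage F, w + η ≠ 0)
    (hsing : (∀ w ∈ asImage F, w + η ≠ 0) ∨ ∀ i, ∃ e ∈ D i, e ≠ 0 ∧ Q e = 0) :
    ∀ {u : V}, u ∈ R → 2 ≤ (H.supp u).card → ∃ w ∈ R, (H.supp w).card = 2 := by
  intro u
  induction hn : (H.supp u).card using Nat.strong_induction_on generalizing u with
  | _ n ih =>
  intro hu h2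
  rcases (show n = 2 ∨ 3 ≤ n by omega) with h | h
  · exact ⟨u, hu, by omega⟩
  obtain ⟨w, hw, hw2, hlt⟩ := S.shrink hk hT ht hL hq hη hsing hu (by omega)
  exact ih _ (by omega) rfl hw hw2

end RSys

end Cfsg.Agent.H72.OrthPlanes
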