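import Cfsg.Agent.H72.OrthPlanes.Shrink

/-!
A reflection-closed system with a vector outside the blocks contains every anisotropic vector orthogonal to the
distinguished block.
-/

set_option autoImplicit false
set_option linter.unusedSectionVars false

namespace Cfsg.Agent.H72.OrthPlanes

open QuadraticMap Module Cfsg.Agent.Orthogonal

variable {F V : Type*} [Field F] [AddCommGroup V] [Module F V] [FiniteDimensional F V] [Fintype F]
  {Q : QuadraticForm F V} {t : ℕ} {D : Fin t → Submodule F V} {H : PDec Q D} {b : Fin t} {R : Set V}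

/-- A vector of a given value with prescribed non-value of the polar form at a given vector. -/
theorem exists_value_polar_ne (hL : Large Q D) (H : PDec Q D) (i : Fin t) {z : V} (hz : z ∈ D i) (hz0 : z ≠ 0)
    {c : F} (hc : c ≠ 0) (k : F) : ∃ y ∈ D i, Q y = c ∧ polar Q z y ≠ k := by
  by_contra hno
  push Not at hno
  obtain ⟨y₁, h₁, y₂, hy₂, y₃, h₃, q₁, q₂, q₃, l₁₂, l₁₃, l₂₃⟩ := H.exists_three_value hL i hc
  have p₁ := hno y₁ h₁ q₁
  have p₂ := hno y₂ hy₂ q₂
  have p₃ := hno y₃ h₃ q₃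
  rcases eq_or_ne k 0 with rfl | hk
  · exact hz0 (eq_zero_of_polar_pair (H.nd i) (H.rk i) h₁ hy₂ l₁₂ hz (by first | exact p₁ | rwa [polar_comm])
      (by first | exact p₂ | rwa [polar_comm]))
  obtain ⟨α, β, e⟩ := mem_span_pair_of_li (H.rk i) h₁ hy₂ l₁₂ h₃
  rw [e, polar_add_right, polar_smul_right', polar_smul_right', p₁, p₂] at p₃
  have hs : α + β = 1 := mul_right_cancel₀ hk (by rw [one_mul]; linear_combination p₃)
  rw [e, map_add_polar, qmap_smul, qmap_smul, polar_smul_left', polar_smul_right', q₁, q₂] at q₃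
  have hp : α * β * (polar Q y₁ y₂ - 2 * c) = 0 := by linear_combination q₃ - c * (α + β + 1) * hs
  have hα : α ≠ 0 := fun h => by
    rw [h, zero_add] at hs
    rw [h, hs, zero_smul, zero_add, one_smul] at e
    exact one_ne_zero (α := F) (LinearIndependent.pair_iff.1 l₂₃ 1 (-1) (by rw [e]; module)).1
  have hβ : β ≠ 0 := fun h => by
    rw [h, add_zero] at hs
    rw [h, hs, zero_smul, add_zero, one_smul] at e
    exact one_ne_zero (α := F) (LinearIndependent.pair_iff.1 l₁₃ 1 (-1) (by rw [e]; module)).1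
  have hp' := sub_eq_zero.1 ((mul_eq_zero.1 hp).resolve_left (mul_ne_zero hα hβ))
  refine tval_ne_of_li (H.nd i) (H.rk i) h₁ hy₂ l₁₂ (by rw [q₁]; exact hc) (by rw [q₂]; exact hc) ?_
  rw [tval, q₁, q₂, hp']
  field_simp
  ring

namespace RSys

/-- A vector with at most two components, from the pairs. -/
theorem mem_of_two (S : RSys H b R) (hall : ∀ A B : F, A + B ≠ 0 → Has H b R A B) {x : V} (hQx : Q x ≠ 0)
    (hxb : H.pr b x = 0) {i j : Fin t} (hij : i ≠ j) (hrest : ∀ l, l ≠ i → l ≠ j → H.pr l x = 0) : x ∈ R := by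
  have hblock : ∀ l, (∀ m, m ≠ l → H.pr m x = 0) → x ∈ R := fun l hl => by
    have hxl := H.mem_block_of_supp hl
    refine S.block l (fun e => hQx ?_) x hxl hQx
    subst e
    rw [← H.pr_self hxl, hxb, map_zero]
  by_cases hi : H.pr i x = 0
  · exact hblock j fun m hm => if h : m = i then h ▸ hi else hrest m h hm
  by_cases hj : H.pr j x = 0
  · exact hblock i fun m hm => if h : m = j then h ▸ hj else hrest m hm h
  have hx : x = H.pr i x + H.pr j x := by
    conv_lhs => rw [← H.sum_pr x]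
    exact Finset.sum_eq_add i j hij (fun m _ hm => hrest m hm.1 hm.2) (fun h => absurd (Finset.mem_univ i) h)
      (fun h => absurd (Finset.mem_univ j) h)
  have hsum : Q (H.pr i x) + Q (H.pr j x) = Q x := by
    conv_rhs => rw [hx]
    rw [map_add_polar, H.orth i j hij _ (H.pr_mem i x) _ (H.pr_mem j x), add_zero]
  rw [hx]
  exact hall _ _ (by rw [hsum]; exact hQx) i j (fun e => hi (e ▸ hxb)) (fun e => hj (e ▸ hxb)) hij _ (H.pr_mem i x) _
    (H.pr_mem j x) hi hj rfl rfl

variable (S : RSys H b R) {δ η : F} (hk : Kind δ η) (hT : ∀ i, ∀ T ∈ tset δ η, Realises Q (D i) T) (ht : 5 ≤ t)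
include S hk hT ht

/-- A pair with a zero value, when the blocks have singular vectors. -/
theorem has_zero [DecidableEq F] (h7 : 7 ≤ Fintype.card F) (hblocks : ∀ i, ∃ e ∈ D i, e ≠ 0 ∧ Q e = 0)
    {a₁ a₂ : F} (ha : Has H b R a₁ a₂) (hs : a₁ + a₂ ≠ 0) : ∃ A : F, A ≠ 0 ∧ Has H b R 0 A := by
  rcases eq_or_ne a₁ 0 with rfl | h₁
  · exact ⟨a₂, by rwa [zero_add] at hs, ha⟩
  rcases eq_or_ne a₂ 0 with rfl | h₂
  · exact ⟨a₁, h₁, ha.symm⟩
  obtain ⟨c₁, c₂, hc, k₁, k₂, ks, kne⟩ : ∃ c₁ c₂ : F, Has H b R c₁ c₂ ∧ c₁ ≠ 0 ∧ c₂ ≠ 0 ∧ c₁ + c₂ ≠ 0 ∧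
      c₁ ≠ c₂ := by
    by_cases he : a₁ = a₂
    swap
    · exact ⟨a₁, a₂, ha, h₁, h₂, hs, he⟩
    subst he
    have h2 : (2 : F) ≠ 0 := fun h => hs (by rw [← two_mul, h, zero_mul])
    have := card_tfin hk
    have := card_lt_two_mul_pfin h2
    obtain ⟨T, hTm, hT'⟩ : ∃ T ∈ tfin δ η, T ∉ ({-4, -2} : Finset F) :=
      Finset.exists_mem_notMem_of_card_lt_card (lt_of_le_of_lt Finset.card_le_two (by omega))
    simp only [Finset.mem_insert, Finset.mem_singleton, not_or] at hT'
    have hT4 : T + 4 ≠ 0 := fun e => hT'.1 (eq_neg_of_add_eq_zero_left e)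
    have e : (T + 4) * a₁ / (a₁ + a₁) = (T + 4) / 2 := by rw [← two_mul, mul_div_mul_right _ _ h₁]
    have hne : ((T + 4) * a₁ / (a₁ + a₁)) ^ 2 * a₁ ≠ (T + 4) * a₁ := by
      rw [e]; intro h
      field_simp at h
      exact ne_zero_of_mem_tfin hk hTm (by linear_combination h)
    refine ⟨_, _, S.has_reflect hk hT ht ha h₁ h₁ hs (tfin_subset hTm) hT4 hne, sub_ne_zero.2 (Ne.symm hne),
      mul_ne_zero (pow_ne_zero 2 (by rw [e]; exact div_ne_zero hT4 h2)) h₁, ?_, ?_⟩
    · rw [sub_add_cancel]; exact mul_ne_zero hT4 h₁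
    · rw [e]; intro h
      field_simp at h
      exact hT'.2 (mul_left_cancel₀ h2 (by linear_combination -h))
  obtain ⟨i, j, -, hib, hjb, -, hij, -, -⟩ := S.exists_three_index hk hT ht
  obtain ⟨x₁, hx₁, hQ₁⟩ := H98.OrthDecomp.exists_value_mem (H.nd i) (by rw [H.rk]) c₁
  obtain ⟨x₂, hx₂, hQ₂⟩ := H98.OrthDecomp.exists_value_mem (H.nd j) (by rw [H.rk]) c₂
  have h10 : x₁ ≠ 0 := fun e => k₁ (by rw [← hQ₁, e, map_zero])
  have h20 : x₂ ≠ 0 := fun e => k₂ (by rw [← hQ₂, e, map_zero])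
  have hu : x₁ + x₂ ∈ R := hc i j hib hjb hij x₁ hx₁ x₂ hx₂ h10 h20 hQ₁ hQ₂
  have pi : H.pr i (x₁ + x₂) = x₁ := by rw [map_add, H.pr_self hx₁, H.pr_other hx₂ hij, add_zero]
  have pj : H.pr j (x₁ + x₂) = x₂ := by rw [map_add, H.pr_other hx₁ hij.symm, H.pr_self hx₂, zero_add]
  have hQu : Q (x₁ + x₂) = c₁ + c₂ := by
    rw [map_add_polar, hQ₁, hQ₂, H.orth i j hij x₁ hx₁ x₂ hx₂, add_zero]
  obtain ⟨e, he, he0, hQe⟩ := hblocks i
  obtain ⟨w, hw, c, hc0, hwi, hwo, -⟩ := S.exists_singular_comp hk hT ht hu (p := i) (by rw [pi, hQ₁]; exact k₁)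
    (by rw [pi, hQ₁, hQu]; exact fun h => k₂ (by linear_combination -h))
    (by rw [pi, hQ₁, hQu]; exact fun h => kne (by linear_combination h)) he he0 hQe
  refine ⟨c ^ 2 * c₂, mul_ne_zero (pow_ne_zero 2 hc0) k₂, ?_⟩
  have := S.has_of_mem hw hij (by rw [hwi]; exact he0) (by rw [hwo j hij.symm, pj]; exact smul_ne_zero hc0 h20)
    (fun l h1 h3 => by
      rw [hwo l h1, map_add, H.pr_other hx₁ h1, H.pr_other hx₂ h3, add_zero, smul_zero])
  rwa [hwi, hQe, hwo j hij.symm, pj, qmap_smul, hQ₂] at this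

/-- A pair with a zero value gives the pairs in one square class. -/
theorem has_spread (hblocks : ∀ i, ∃ e ∈ D i, e ≠ 0 ∧ Q e = 0) {A P N : F} (hA : A ≠ 0) (h : Has H b R 0 A)
    (hN : N ≠ 0) (hPN : P + N ≠ 0) (hsq : IsSquare (N * A)) : Has H b R P N := by
  obtain ⟨r, hr⟩ := hsq
  have hr0 : r ≠ 0 := fun e => mul_ne_zero hN hA (by rw [hr, e, mul_zero])
  obtain ⟨i, j, -, hib, hjb, -, hij, -, -⟩ := S.exists_three_index hk hT ht
  obtain ⟨e, he, he0, hQe⟩ := hblocks i
  obtain ⟨f, hf, hQf, hef, -, -⟩ := exists_hyperbolic (H.nd i) (H.rk i) he he0 hQe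
  obtain ⟨v, hv, hQv⟩ := H98.OrthDecomp.exists_value_mem (H.nd j) (by rw [H.rk]) A
  have hv0 : v ≠ 0 := fun e => hA (by rw [← hQv, e, map_zero])
  have hu : e + v ∈ R := h i j hib hjb hij e he v hv he0 hv0 hQe hQv
  set s := (P + N) / r with hs
  have hsr : s * r = P + N := div_mul_cancel₀ _ hr0
  have hx : s • e + r • f ∈ D i := (D i).add_mem ((D i).smul_mem _ he) ((D i).smul_mem _ hf)
  have hQx : Q (s • e + r • f) = P + N := by rw [hyp_q hQe hQf hef, hsr]
  have hw := S.refl _ hu _ (S.block i hib _ hx (by rw [hQx]; exact hPN))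
  have hQu : Q (e + v) = A := by rw [map_add_polar, hQe, hQv, H.orth i j hij e he v hv, zero_add, add_zero]
  have hB : polar Q (e + v) (s • e + r • f) = r := by
    rw [polar_add_left, H.orth j i hij.symm v hv _ hx, add_zero, polar_add_right, polar_smul_right',
      polar_smul_right', polar_self', hQe, hef]
    ring
  rw [rO_app, hQu, hB] at hw
  set k := A⁻¹ * r with hkd
  have hk0 : k ≠ 0 := mul_ne_zero (inv_ne_zero hA) hr0
  have pi : H.pr i (s • e + r • f - k • (e + v)) = (s - k) • e + r • f := by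
    rw [map_sub, map_smul, map_add, map_add, map_smul, map_smul, H.pr_self he, H.pr_self hf, H.pr_other hv hij]
    module
  have pj : H.pr j (s • e + r • f - k • (e + v)) = -(k • v) := by
    rw [map_sub, map_smul, map_add, map_add, map_smul, map_smul, H.pr_other he hij.symm, H.pr_other hf hij.symm,
      H.pr_self hv]
    module
  have := S.has_of_mem hw hij
    (by
      rw [pi]
      intro h0
      have h1 := congrArg (polar Q e) h0
      rw [polar_add_right, polar_smul_right', polar_smul_right', polar_self', hQe, hef, polar_zero_right] at h1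
      exact hr0 (by linear_combination h1))
    (by rw [pj, neg_ne_zero]; exact smul_ne_zero hk0 hv0)
    (fun l h1 h3 => by
      rw [map_sub, map_smul, map_add, map_add, map_smul, map_smul, H.pr_other he h1, H.pr_other hf h1,
        H.pr_other hv h3]
      simp)
  rw [pi, pj, hyp_q hQe hQf hef, QuadraticMap.map_neg, qmap_smul, hQv] at this
  convert this using 1
  · rw [hkd]
    field_simp
    linear_combination -hr - A * hsr
  · rw [hkd]
    field_simp
    linear_combination hr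

/-- All pairs of values. -/
theorem has_all [DecidableEq F] (hL : Large Q D) (hq : 4 ≤ Fintype.card F)
    (hη : (∀ i, ∀ x ∈ D i, Q x = 0 → x = 0) → ∀ w ∈ asImage F, w + η ≠ 0)
    (hsing : (∀ w ∈ asImage F, w + η ≠ 0) ∨ ∀ i, ∃ e ∈ D i, e ≠ 0 ∧ Q e = 0)
    {u : V} (hu : u ∈ R) (hu2 : 2 ≤ (H.supp u).card) (A B : F) (hAB : A + B ≠ 0) : Has H b R A B := by
  obtain ⟨w, hw, hw2⟩ := S.exists_two hk hT ht hL hq hη hsing hu hu2
  obtain ⟨p, q, hpq, hsupp⟩ := Finset.card_eq_two.1 hw2
  have hp : H.pr p w ≠ 0 := H.mem_supp.1 (by rw [hsupp]; simp)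
  have hq' : H.pr q w ≠ 0 := H.mem_supp.1 (by rw [hsupp]; simp)
  have ha := S.has_of_mem hw hpq hp hq' fun l h1 h3 => H.pr_zero_of_not_mem (by rw [hsupp]; simp [h1, h3])
  have hs : Q (H.pr p w) + Q (H.pr q w) ≠ 0 := by
    have := H.q_sum_supp w (S := {p, q}) fun l hl => H.pr_zero_of_not_mem (by rwa [hsupp])
    rw [Finset.sum_pair hpq] at this
    rw [← this]; exact S.aniso w hw
  by_cases han : ∀ i, ∀ x ∈ D i, Q x = 0 → x = 0
  · rcases eq_or_ne A 0 with rfl | hA
    · exact fun i j _ _ _ x hx y _ hx0 _ hA _ => absurd (han i x hx hA) hx0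
    rcases eq_or_ne B 0 with rfl | hB
    · exact fun i j _ _ _ x _ y hy _ hy0 _ hB => absurd (han j y hy hB) hy0
    exact S.has_all_aniso hk hT ht (hη han) hq (five_le_card_odd hL) ha (fun h => hp (han p _ (H.pr_mem p w) h))
      (fun h => hq' (han q _ (H.pr_mem q w) h)) hs hA hB hAB
  have h7 : 7 ≤ Fintype.card F := hL.resolve_left fun h => han h.1
  have hblocks : ∀ i, ∃ e ∈ D i, e ≠ 0 ∧ Q e = 0 := by
    push Not at han
    obtain ⟨j, x, hx, hQx, hx0⟩ := han
    intro i
    obtain ⟨g, hg⟩ := H.isom j i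
    refine ⟨_, (g ⟨x, hx⟩).2, fun h => hx0 ?_, by rw [hg]; exact hQx⟩
    have h0 : g ⟨x, hx⟩ = 0 := Subtype.ext h
    exact congrArg Subtype.val (g.map_eq_zero_iff.1 h0)
  obtain ⟨A₀, hA₀, h₀⟩ := S.has_zero hk hT ht h7 hblocks ha hs
  have main : ∀ P N : F, N ≠ 0 → P + N ≠ 0 → Has H b R P N := by
    intro P N hN hPN
    by_cases hsq : IsSquare (N * A₀)
    · exact S.has_spread hk hT ht hblocks hA₀ h₀ hN hPN hsq
    have h2 : (2 : F) ≠ 0 := fun h => hsq (isSquare_of_two_eq_zero h _)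
    obtain ⟨ν, hν, hν1⟩ : ∃ ν : F, ¬IsSquare ν ∧ ν ≠ -1 := by
      by_cases he : N * A₀ = -1
      swap
      · exact ⟨_, hsq, he⟩
      obtain ⟨c, -, hc⟩ := Finset.exists_mem_notMem_of_card_lt_card (s := ({0, 1, -1} : Finset F)) (t := Finset.univ)
        (lt_of_le_of_lt Finset.card_le_three (by rw [Finset.card_univ]; omega))
      simp only [Finset.mem_insert, Finset.mem_singleton, not_or] at hc
      refine ⟨-(c * c), fun ⟨r, hr⟩ => hsq ⟨r / c, ?_⟩, fun e => ?_⟩
      · rw [he, div_mul_div_comm, ← hr, neg_div, div_self (mul_ne_zero hc.1 hc.1)]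
      · rcases mul_eq_zero.1 (show (c - 1) * (c + 1) = 0 by linear_combination -e) with h | h
        · exact hc.2.1 (sub_eq_zero.1 h)
        · exact hc.2.2 (eq_neg_of_add_eq_zero_left h)
    have hν0 : ν ≠ 0 := fun e => hν (e ▸ ⟨0, by ring⟩)
    have hνA : ν * A₀ ≠ 0 := mul_ne_zero hν0 hA₀
    have hne : ν * A₀ + A₀ ≠ 0 := by
      rw [show ν * A₀ + A₀ = (ν + 1) * A₀ by ring]
      exact mul_ne_zero (fun e => hν1 (eq_neg_of_add_eq_zero_left e)) hA₀
    have h1 := (S.has_spread hk hT ht hblocks hA₀ h₀ (P := ν * A₀) (N := A₀) hA₀ hne ⟨A₀, rfl⟩).symm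
    obtain ⟨i, j, -, hib, hjb, -, hij, -, -⟩ := S.exists_three_index hk hT ht
    obtain ⟨x₁, hx₁, hQ₁⟩ := H98.OrthDecomp.exists_value_mem (H.nd i) (by rw [H.rk]) A₀
    obtain ⟨x₂, hx₂, hQ₂⟩ := H98.OrthDecomp.exists_value_mem (H.nd j) (by rw [H.rk]) (ν * A₀)
    have h10 : x₁ ≠ 0 := fun e => hA₀ (by rw [← hQ₁, e, map_zero])
    have h20 : x₂ ≠ 0 := fun e => hνA (by rw [← hQ₂, e, map_zero])
    have hm : x₁ + x₂ ∈ R := h1 i j hib hjb hij x₁ hx₁ x₂ hx₂ h10 h20 hQ₁ hQ₂
    have pi : H.pr i (x₁ + x₂) = x₁ := by rw [map_add, H.pr_self hx₁, H.pr_other hx₂ hij, add_zero]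
    have pj : H.pr j (x₁ + x₂) = x₂ := by rw [map_add, H.pr_other hx₁ hij.symm, H.pr_self hx₂, zero_add]
    have hQm : Q (x₁ + x₂) = A₀ + ν * A₀ := by
      rw [map_add_polar, hQ₁, hQ₂, H.orth i j hij x₁ hx₁ x₂ hx₂, add_zero]
    obtain ⟨e, he, he0, hQe⟩ := hblocks i
    obtain ⟨w', hw', c, hc0, hwi, hwo, -⟩ := S.exists_singular_comp hk hT ht hm (p := i)
      (by rw [pi, hQ₁]; exact hA₀) (by rw [pi, hQ₁, hQm]; exact fun h => hνA (by linear_combination -h))
      (by
        rw [pi, hQ₁, hQm]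
        exact fun h => hν ⟨1, mul_right_cancel₀ hA₀ (by linear_combination -h)⟩) he he0 hQe
    have h3 := S.has_of_mem hw' hij (by rw [hwi]; exact he0)
      (by rw [hwo j hij.symm, pj]; exact smul_ne_zero hc0 h20)
      (fun l h1 h3 => by
        rw [hwo l h1, map_add, H.pr_other hx₁ h1, H.pr_other hx₂ h3, add_zero, smul_zero])
    rw [hwi, hQe, hwo j hij.symm, pj, qmap_smul, hQ₂] at h3
    refine S.has_spread hk hT ht hblocks (mul_ne_zero (pow_ne_zero 2 hc0) hνA) h3 hN hPN ?_
    rw [show N * (c ^ 2 * (ν * A₀)) = (c * c) * (N * A₀ * ν) by ring]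
    exact IsSquare.mul ⟨c, rfl⟩ ((isSquare_mul_iff h2 (mul_ne_zero hN hA₀) hν0).2 (iff_of_false hsq hν))
  rcases eq_or_ne B 0 with rfl | hB
  · exact (main 0 A (by rwa [add_zero] at hAB) (by rwa [zero_add, ← add_zero A])).symm
  · exact main A B hB hAB

/-- At least four field elements: induction on the number of components. -/
theorem mem_of_large (hL : Large Q D) (hq : 4 ≤ Fintype.card F) (hall : ∀ A B : F, A + B ≠ 0 → Has H b R A B) :
    ∀ {x : V}, Q x ≠ 0 → H.pr b x = 0 → x ∈ R := by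
  classical
  intro x
  induction hn : (H.supp x).card using Nat.strong_induction_on generalizing x with
  | _ n ih =>
  intro hQx hxb
  rcases Nat.lt_or_ge n 3 with h3 | h3
  · obtain ⟨T, hsub, -, hT2⟩ := Finset.exists_subsuperset_card_eq (s := H.supp x) (t := Finset.univ) (n := 2)
      (Finset.subset_univ _) (by omega) (by rw [Finset.card_univ, Fintype.card_fin]; omega)
    obtain ⟨i, j, hij, hT'⟩ := Finset.card_eq_two.1 hT2
    exact S.mem_of_two hall hQx hxb hij fun l h1 h4 => H.pr_zero_of_not_mem fun hl => by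
      have := hsub hl; rw [hT'] at this; simp [h1, h4] at this
  -- two components with nonzero sum of values
  have pair : ∀ z, (H.supp z).card = n → Q z ≠ 0 → H.pr b z = 0 →
      ∀ i ∈ H.supp z, ∀ j ∈ H.supp z, i ≠ j → Q (H.pr i z) + Q (H.pr j z) ≠ 0 → z ∈ R := by
    intro z hz hQz hzb i hi j hj hij hc
    have hib : i ≠ b := fun e => H.mem_supp.1 hi (e ▸ hzb)
    have hjb : j ≠ b := fun e => H.mem_supp.1 hj (e ▸ hzb)
    set c := Q (H.pr i z) + Q (H.pr j z) with hcd
    obtain ⟨y, hy, hQy, hB⟩ := exists_value_polar_ne hL H i (H.pr_mem i z) (H.mem_supp.1 hi) hc (2 * c)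
    set a := H.pr i z + H.pr j z - y with had
    have pi : H.pr i a = H.pr i z - y := by
      rw [had, map_sub, map_add, H.pr_self (H.pr_mem i z), H.pr_other (H.pr_mem j z) hij, H.pr_self hy, add_zero]
    have pj : H.pr j a = H.pr j z := by
      rw [had, map_sub, map_add, H.pr_other (H.pr_mem i z) hij.symm, H.pr_self (H.pr_mem j z),
        H.pr_other hy hij.symm, zero_add, sub_zero]
    have po : ∀ l, l ≠ i → l ≠ j → H.pr l a = 0 := fun l h1 h4 => by
      rw [had, map_sub, map_add, H.pr_other (H.pr_mem i z) h1, H.pr_other (H.pr_mem j z) h4, H.pr_other hy h1]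
      simp
    have hQa : Q a = 2 * c - polar Q (H.pr i z) y := by
      rw [H.q_sum_supp a (S := {i, j}) (fun l hl => by
          simp only [Finset.mem_insert, Finset.mem_singleton, not_or] at hl; exact po l hl.1 hl.2),
        Finset.sum_pair hij, pi, pj, qmap_sub, hQy, hcd]
      ring
    have hpol : polar Q a z = 2 * c - polar Q (H.pr i z) y := by
      rw [H.polar_sum_supp a z (S := {i, j}) (fun l hl => by
          simp only [Finset.mem_insert, Finset.mem_singleton, not_or] at hl; exact Or.inl (po l hl.1 hl.2)),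
        Finset.sum_pair hij, pi, pj, polar_sub_left, polar_self', polar_self', polar_comm (⇑Q) y, hcd]
      ring
    have hQa0 : Q a ≠ 0 := by rw [hQa]; exact sub_ne_zero.2 hB.symm
    have ha : a ∈ R := S.mem_of_two hall hQa0 (po b hib.symm hjb.symm) hij po
    have hr : (rO Q a : V ≃ₗ[F] V) z = z - a := by
      rw [rO_app, hpol, ← hQa, inv_mul_cancel₀ hQa0, one_smul]
    have hlt : (H.supp ((rO Q a : V ≃ₗ[F] V) z)).card < n := by
      refine lt_of_le_of_lt (Finset.card_le_card (t := (H.supp z).erase j) fun l hl => ?_)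
        (hz ▸ Finset.card_erase_lt_of_mem hj)
      rw [PDec.mem_supp, hr, map_sub] at hl
      refine Finset.mem_erase.2 ⟨fun e => hl (by rw [e, pj, sub_self]), ?_⟩
      by_contra hlz
      have hli : l ≠ i := fun e => hlz (e ▸ hi)
      have hlj : l ≠ j := fun e => hlz (e ▸ hj)
      exact hl (by rw [H.pr_zero_of_not_mem hlz, po l hli hlj, sub_zero])
    have hm := ih _ hlt rfl (by rw [O.map_app]; exact hQz)
      (by rw [hr, map_sub, hzb, po b hib.symm hjb.symm, sub_zero])
    have := S.refl a ha _ hm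
    rwa [← mul_app, ← Subgroup.coe_mul, rO_mul_self, OneMemClass.coe_one, one_app] at this
  by_cases hp : ∃ i ∈ H.supp x, ∃ j ∈ H.supp x, i ≠ j ∧ Q (H.pr i x) + Q (H.pr j x) ≠ 0
  · obtain ⟨i, hi, j, hj, hij, hc⟩ := hp
    exact pair x hn hQx hxb i hi j hj hij hc
  push Not at hp
  obtain ⟨i, hi⟩ := Finset.card_pos.1 (show 0 < (H.supp x).card by omega)
  obtain ⟨j, hj, l, hl, hji, hli, hjl⟩ := three_in_finset (show 3 ≤ (H.supp x).card by omega) hi
  set v := Q (H.pr i x) with hv
  have e₁ := hp i hi j hj hji.symm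
  have e₂ := hp i hi l hl hli.symm
  have e₃ := hp j hj l hl hjl
  have hall0 : v = 0 → False := fun h0 => by
    refine hQx ?_
    rw [H.q_sum_supp x (S := H.supp x) fun m hm => H.pr_zero_of_not_mem hm]
    refine Finset.sum_eq_zero fun m hm => ?_
    rcases eq_or_ne m i with rfl | hmi
    · exact h0
    · have := hp i hi m hm hmi.symm
      rwa [← hv, h0, zero_add] at this
  have h2 : (2 : F) = 0 := by
    by_contra h2
    exact hall0 ((mul_eq_zero.1 (show 2 * v = 0 by linear_combination e₁ + e₂ - e₃)).resolve_left h2)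
  have hv0 : v ≠ 0 := fun h => hall0 h
  have hvj : Q (H.pr j x) = v := by linear_combination e₁ - v * h2
  have hvl : Q (H.pr l x) = v := by linear_combination e₂ - v * h2
  have hib : i ≠ b := fun e => H.mem_supp.1 hi (e ▸ hxb)
  have hjb : j ≠ b := fun e => H.mem_supp.1 hj (e ▸ hxb)
  obtain ⟨a₀, ha₀, hp₀⟩ : ∃ a₀ ∈ D i, polar Q (H.pr i x) a₀ = 1 := by
    obtain ⟨⟨a₀, ha₀⟩, h⟩ := (H.nd i).exists_polar_eq (x := ⟨H.pr i x, H.pr_mem i x⟩)
      (fun e => H.mem_supp.1 hi (congrArg Subtype.val e)) 1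
    rw [polar_restr] at h
    exact ⟨a₀, ha₀, h⟩
  obtain ⟨ai, hai, hpai, hQai⟩ : ∃ ai ∈ D i, polar Q (H.pr i x) ai = 1 ∧ Q ai ≠ v := by
    by_cases h : Q a₀ = v
    swap
    · exact ⟨a₀, ha₀, hp₀, h⟩
    obtain ⟨s, -, hs⟩ := Finset.exists_mem_notMem_of_card_lt_card (s := ({0, v⁻¹} : Finset F)) (t := Finset.univ)
      (lt_of_le_of_lt Finset.card_le_two (by rw [Finset.card_univ]; omega))
    simp only [Finset.mem_insert, Finset.mem_singleton, not_or] at hs
    refine ⟨a₀ + s • H.pr i x, (D i).add_mem ha₀ ((D i).smul_mem _ (H.pr_mem i x)), ?_, fun h' => ?_⟩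
    · rw [polar_add_right, polar_smul_right', polar_self', hp₀, h2, zero_mul, mul_zero, add_zero]
    · rw [map_add_polar, qmap_smul, polar_smul_right', polar_comm (⇑Q) a₀, hp₀, h, ← hv, mul_one] at h'
      have h5 : s * (s * v + 1) = 0 := by linear_combination h'
      exact hs.2 (eq_inv_of_mul_eq_one_left
        (by linear_combination (mul_eq_zero.1 h5).resolve_left hs.1 - h2))
  set a := ai + H.pr j x with had
  have pi : H.pr i a = ai := by rw [had, map_add, H.pr_self hai, H.pr_other (H.pr_mem j x) hji.symm, add_zero]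
  have pj : H.pr j a = H.pr j x := by rw [had, map_add, H.pr_other hai hji, H.pr_self (H.pr_mem j x), zero_add]
  have po : ∀ m, m ≠ i → m ≠ j → H.pr m a = 0 := fun m h1 h4 => by
    rw [had, map_add, H.pr_other hai h1, H.pr_other (H.pr_mem j x) h4, add_zero]
  have hQa : Q a = Q ai + v := by rw [had, map_add_polar, H.orth i j hji.symm ai hai _ (H.pr_mem j x), hvj, add_zero]
  have hQa0 : Q a ≠ 0 := by rw [hQa]; exact fun e => hQai (by linear_combination e - v * h2)
  have ha : a ∈ R := S.mem_of_two hall hQa0 (po b hib.symm hjb.symm) hji.symm po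
  have hpol : polar Q a x = 1 := by
    rw [H.polar_sum_supp a x (S := {i, j}) (fun m hm => by
        simp only [Finset.mem_insert, Finset.mem_singleton, not_or] at hm; exact Or.inl (po m hm.1 hm.2)),
      Finset.sum_pair hji.symm, pi, pj, polar_self', polar_comm, hpai, h2, zero_mul, add_zero]
  set k := (Q a)⁻¹ * polar Q a x with hkd
  have hk0 : k ≠ 0 := by rw [hkd, hpol, mul_one]; exact inv_ne_zero hQa0
  set x' := (rO Q a : V ≃ₗ[F] V) x with hx'
  have hpr : ∀ m, H.pr m x' = H.pr m x - k • H.pr m a := fun m => by rw [hx', rO_app, map_sub, map_smul]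
  have hxb' : H.pr b x' = 0 := by rw [hpr, hxb, po b hib.symm hjb.symm, smul_zero, sub_zero]
  have hQx' : Q x' ≠ 0 := by rw [hx', O.map_app]; exact hQx
  have hsub : H.supp x' ⊆ H.supp x := fun m hm => by
    rw [PDec.mem_supp, hpr] at hm
    by_contra hmx
    exact hm (by
      rw [H.pr_zero_of_not_mem hmx, po m (fun e => hmx (e ▸ hi)) (fun e => hmx (e ▸ hj)), smul_zero, sub_zero])
  have hm : x' ∈ R := by
    rcases lt_or_eq_of_le (hn ▸ Finset.card_le_card hsub) with hlt | heq
    · exact ih _ hlt rfl hQx' hxb'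
    have hse : H.supp x' = H.supp x := Finset.eq_of_subset_of_card_le hsub (by rw [heq, hn])
    refine pair x' heq hQx' hxb' j (hse ▸ hj) l (hse ▸ hl) hjl ?_
    rw [hpr, hpr, pj, po l hli hjl.symm, smul_zero, sub_zero, hvl,
      show H.pr j x - k • H.pr j x = (1 - k) • H.pr j x by rw [sub_smul, one_smul], qmap_smul, hvj,
      show (1 - k) ^ 2 * v + v = k ^ 2 * v by linear_combination (v - k * v) * h2]
    exact mul_ne_zero (pow_ne_zero 2 hk0) hv0
  have := S.refl a ha _ hm
  rwa [hx', ← mul_app, ← Subgroup.coe_mul, rO_mul_self, OneMemClass.coe_one, one_app] at this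

/-- The field with two elements. -/
theorem mem_of_two_elements [DecidableEq F] (hq : Fintype.card F < 4) (hL : Large Q D)
    (hη : (∀ i, ∀ x ∈ D i, Q x = 0 → x = 0) → ∀ w ∈ asImage F, w + η ≠ 0)
    {u : V} (hu : u ∈ R) (hu2 : 2 ≤ (H.supp u).card) : ∀ {x : V}, Q x ≠ 0 → H.pr b x = 0 → x ∈ R := by
  classical
  obtain ⟨han, hq3⟩ := hL.resolve_right (by omega)
  have hc2 : Fintype.card F = 2 := by have := Fintype.one_lt_card (α := F); omega
  have h2 : (2 : F) = 0 := by
    have := Nat.cast_card_eq_zero F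
    rw [hc2] at this
    exact_mod_cast this
  have hone : ∀ c : F, c ≠ 0 → c = 1 := fun c hc => by
    have := FiniteField.pow_card_sub_one_eq_one c hc
    rwa [hc2, pow_one] at this
  have hval : ∀ (m : Fin t) (z : V), z ∈ D m → z ≠ 0 → Q z = 1 := fun m z hz hz0 =>
    hone _ fun e => hz0 (han m z hz e)
  have hsum : ∀ z, Q z = ((H.supp z).card : F) := fun z => by
    rw [H.q_sum_supp z (S := H.supp z) fun m hm => H.pr_zero_of_not_mem hm,
      Finset.sum_congr rfl fun m hm => hval m _ (H.pr_mem m z) (H.mem_supp.1 hm), Finset.sum_const, nsmul_eq_mul,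
      mul_one]
  have hodd : ∀ z, Q z ≠ 0 → Odd (H.supp z).card := fun z hz => by
    rcases Nat.even_or_odd (H.supp z).card with ⟨k, hk⟩ | h
    · refine absurd ?_ hz
      rw [hsum, hk, Nat.cast_add]
      linear_combination (k : F) * h2
    · exact h
  -- a member with three components
  obtain ⟨w, hw, hw3⟩ : ∃ w ∈ R, (H.supp w).card = 3 := by
    induction hn : (H.supp u).card using Nat.strong_induction_on generalizing u with
    | _ n ih =>
    obtain ⟨k, hk'⟩ := hodd u (S.aniso u hu)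
    rcases (show n = 3 ∨ 4 ≤ n by omega) with h | h
    · exact ⟨u, hu, by omega⟩
    obtain ⟨w, hw, hw2, hlt⟩ := S.shrink_aniso hk hT ht (hη han) han hu (by omega) (fun _ h => by omega)
    exact ih _ (by omega) hw hw2 rfl
  -- all vectors with three components
  have three : ∀ {z : V}, H.pr b z = 0 → (H.supp z).card = 3 → z ∈ R := by
    intro z
    suffices ∀ w ∈ R, (H.supp w).card = 3 → H.pr b z = 0 → (H.supp z).card = 3 → z ∈ R from this w hw hw3
    intro w
    induction hn : (H.supp z \ H.supp w).card using Nat.strong_induction_on generalizing w with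
    | _ n ih =>
    intro hw hw3 hzb hz3
    rcases Nat.eq_zero_or_pos n with h0 | hpos
    · have hse : H.supp z = H.supp w := Finset.eq_of_subset_of_card_le
        (Finset.sdiff_eq_empty_iff_subset.1 (Finset.card_eq_zero.1 (hn.trans h0))) (by omega)
      have h0' : ∀ m, H.pr m z = 0 ↔ H.pr m w = 0 := fun m => not_iff_not.1 (by
        have := Finset.ext_iff.1 hse m
        rwa [PDec.mem_supp, PDec.mem_supp] at this)
      refine S.move_comps hw (fun m => ?_) h0'
      by_cases hm : H.pr m w = 0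
      · rw [hm, (h0' m).2 hm]
      · rw [hval m _ (H.pr_mem m z) (fun e => hm ((h0' m).1 e)), hval m _ (H.pr_mem m w) hm]
    obtain ⟨q, hq'⟩ := Finset.card_pos.1 (hn ▸ hpos)
    rw [Finset.mem_sdiff] at hq'
    obtain ⟨p, hp, hp'⟩ : ∃ p ∈ H.supp w, p ∉ H.supp z := by
      by_contra hc
      push Not at hc
      exact hq'.2 (Finset.eq_of_subset_of_card_le hc (by omega) ▸ hq'.1)
    have hpq : p ≠ q := fun e => hp' (e ▸ hq'.1)
    have hwb := S.avoid w hw
    obtain ⟨w', hw', hfix, -, -, ep, eq⟩ := S.move_swap hw hpq (fun e => H.mem_supp.1 hp (e ▸ hwb))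
      (fun e => H.mem_supp.1 hq'.1 (e ▸ hzb))
    have hs : H.supp w' = insert q ((H.supp w).erase p) := by
      ext m
      rw [Finset.mem_insert, Finset.mem_erase, PDec.mem_supp]
      rcases eq_or_ne m q with rfl | hmq
      · exact iff_of_true (fun e => H.mem_supp.1 hp (eq.1 e)) (Or.inl rfl)
      rcases eq_or_ne m p with rfl | hmp
      · exact iff_of_false (fun e => e (ep.2 (H.pr_zero_of_not_mem hq'.2))) (by simp [hmq])
      · rw [hfix m hmp hmq, PDec.mem_supp]; simp [hmq, hmp]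
    refine ih _ ?_ w' rfl hw' ?_ hzb hz3
    · rw [← hn]
      refine Finset.card_lt_card (Finset.ssubset_iff_of_subset (fun m hm => ?_) |>.2
        ⟨q, Finset.mem_sdiff.2 hq', by simp [hs]⟩)
      rw [hs, Finset.mem_sdiff, Finset.mem_insert, Finset.mem_erase, not_or] at hm
      exact Finset.mem_sdiff.2 ⟨hm.1, fun h => hm.2.2 ⟨fun e => hp' (e ▸ hm.1), h⟩⟩
    · rw [hs, Finset.card_insert_of_notMem (fun h => hq'.2 (Finset.mem_of_mem_erase h)),
        Finset.card_erase_of_mem hp]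
      omega
  intro x
  induction hn : (H.supp x).card using Nat.strong_induction_on generalizing x with
  | _ n ih =>
  intro hQx hxb
  obtain ⟨k, hk'⟩ := hodd x hQx
  rcases (show n = 1 ∨ n = 3 ∨ 4 ≤ n by omega) with h | h | h
  · obtain ⟨l, hl⟩ := Finset.card_eq_one.1 (hn.trans h)
    have hxl := H.mem_block_of_supp (i := l) (x := x) fun m hm => H.pr_zero_of_not_mem (by rw [hl]; simp [hm] : m ∉ H.supp x)
    refine S.block l (fun e => hQx ?_) x hxl hQx
    subst e
    rw [← H.pr_self hxl, hxb, map_zero]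
  · exact three hxb (hn.trans h)
  obtain ⟨p, hp⟩ := Finset.card_pos.1 (show 0 < (H.supp x).card by omega)
  obtain ⟨q, hq', r, hr, hqp, hrp, hqr⟩ := three_in_finset (show 3 ≤ (H.supp x).card by omega) hp
  obtain ⟨ap, hap, hap0, hne⟩ : ∃ ap ∈ D p, ap ≠ 0 ∧ ap ≠ H.pr p x := by
    obtain ⟨y₁, h₁, y₂, hy₂, -, -, q₁, q₂, -, l₁₂, -, -⟩ := H.exists_three_value (Or.inl ⟨han, hq3⟩) p (one_ne_zero (α := F))
    by_cases h' : y₁ = H.pr p x
    · refine ⟨y₂, hy₂, fun e => one_ne_zero (α := F) (by rw [← q₂, e, map_zero]), fun e => ?_⟩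
      exact one_ne_zero (α := F) (LinearIndependent.pair_iff.1 l₁₂ 1 (-1) (by rw [h', e]; module)).1
    · exact ⟨y₁, h₁, fun e => one_ne_zero (α := F) (by rw [← q₁, e, map_zero]), h'⟩
  set a := ap + H.pr q x + H.pr r x with had
  have pp : H.pr p a = ap := by
    rw [had, map_add, map_add, H.pr_self hap, H.pr_other (H.pr_mem q x) hqp.symm,
      H.pr_other (H.pr_mem r x) hrp.symm, add_zero, add_zero]
  have pq : H.pr q a = H.pr q x := by
    rw [had, map_add, map_add, H.pr_other hap hqp, H.pr_self (H.pr_mem q x), H.pr_other (H.pr_mem r x) hqr,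
      add_zero, zero_add]
  have pr' : H.pr r a = H.pr r x := by
    rw [had, map_add, map_add, H.pr_other hap hrp, H.pr_other (H.pr_mem q x) hqr.symm, H.pr_self (H.pr_mem r x),
      zero_add, zero_add]
  have po : ∀ m, m ∉ ({p, q, r} : Finset (Fin t)) → H.pr m a = 0 := fun m hm => by
    simp only [Finset.mem_insert, Finset.mem_singleton, not_or] at hm
    rw [had, map_add, map_add, H.pr_other hap hm.1, H.pr_other (H.pr_mem q x) hm.2.1,
      H.pr_other (H.pr_mem r x) hm.2.2, add_zero, add_zero]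
  have hab : H.pr b a = 0 := po b (by
    simp only [Finset.mem_insert, Finset.mem_singleton, not_or]
    exact ⟨fun e => H.mem_supp.1 hp (e ▸ hxb), fun e => H.mem_supp.1 hq' (e ▸ hxb),
      fun e => H.mem_supp.1 hr (e ▸ hxb)⟩)
  have hsa : H.supp a = {p, q, r} := by
    ext m
    refine ⟨fun hm => by_contra fun h => H.mem_supp.1 hm (po m h), fun hm => H.mem_supp.2 ?_⟩
    simp only [Finset.mem_insert, Finset.mem_singleton] at hm
    rcases hm with rfl | rfl | rfl
    · rw [pp]; exact hap0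
    · rw [pq]; exact H.mem_supp.1 hq'
    · rw [pr']; exact H.mem_supp.1 hr
  have hca : (H.supp a).card = 3 := by
    rw [hsa, Finset.card_insert_of_notMem (by simp [hqp.symm, hrp.symm]), Finset.card_pair hqr]
  have ha : a ∈ R := three hab hca
  have hQa : Q a = 1 := by rw [hsum, hca]; push_cast; linear_combination h2
  have hpol : polar Q a x = 1 := by
    rw [H.polar_sum_supp a x (S := {p, q, r}) (fun m hm => Or.inl (po m hm)),
      Finset.sum_insert (by simp [hqp.symm, hrp.symm]), Finset.sum_pair hqr, pp, pq, pr', polar_self', polar_self',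
      h2, zero_mul, zero_mul, add_zero, add_zero]
    have h1 : Q (ap - H.pr p x) = 1 := hval p _ ((D p).sub_mem hap (H.pr_mem p x)) (sub_ne_zero.2 hne)
    rw [qmap_sub, hval p _ hap hap0, hval p _ (H.pr_mem p x) (H.mem_supp.1 hp)] at h1
    linear_combination -h1
  have hr' : (rO Q a : V ≃ₗ[F] V) x = x - a := by rw [rO_app, hQa, hpol, inv_one, mul_one, one_smul]
  have hlt : (H.supp ((rO Q a : V ≃ₗ[F] V) x)).card < n := by
    refine lt_of_le_of_lt (Finset.card_le_card (t := (H.supp x).erase q) fun m hm => ?_)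
      (hn ▸ Finset.card_erase_lt_of_mem hq')
    rw [PDec.mem_supp, hr', map_sub] at hm
    refine Finset.mem_erase.2 ⟨fun e => hm (by rw [e, pq, sub_self]), by_contra fun hmx => hm ?_⟩
    rw [H.pr_zero_of_not_mem hmx, po m (by
      simp only [Finset.mem_insert, Finset.mem_singleton, not_or]
      exact ⟨fun e => hmx (e ▸ hp), fun e => hmx (e ▸ hq'), fun e => hmx (e ▸ hr)⟩), sub_zero]
  have hm := ih _ hlt rfl (by rw [O.map_app]; exact hQx) (by rw [hr', map_sub, hxb, hab, sub_zero])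
  have := S.refl a ha _ hm
  rwa [← mul_app, ← Subgroup.coe_mul, rO_mul_self, OneMemClass.coe_one, one_app] at this

end RSys

/-- Everything orthogonal to the block. -/
theorem RSys.all_mem (S : RSys H b R) (ht : 5 ≤ t) (hL : Large Q D) {u : V} (hu : u ∈ R)
    (hu2 : 2 ≤ (H.supp u).card) {x : V} (hQx : Q x ≠ 0) (hx : H.pr b x = 0) : x ∈ R := by
  classical
  obtain ⟨δ, η, hk, hη, hsing, hT⟩ := H.exists_kind (show 0 < t by omega)
  by_cases hq : 4 ≤ Fintype.card F
  · exact S.mem_of_large hk hT ht hL hq (S.has_all hk hT ht hL hq hη hsing hu hu2) hQx hx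
  · exact S.mem_of_two_elements hk hT ht (not_le.1 hq) hL hη hu hu2 hQx hx

end Cfsg.Agent.H72.OrthPlanes
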