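import Cfsg.Agent.H72.OrthPlanes.Plane
import Cfsg.Agent.Orthogonal.Parity

/-!
Sums and products of trace parameters.
-/

set_option autoImplicit false

namespace Cfsg.Agent.H72.OrthPlanes

open Cfsg.Agent.Orthogonal

variable {F : Type*} [Field F] [Fintype F] [DecidableEq F]

/-- The image of `s ↦ s ^ 2 + s`, as a finset. -/
def pfin (F : Type*) [Field F] [Fintype F] [DecidableEq F] : Finset F := Finset.univ.image fun s : F => s ^ 2 + s

theorem mem_pfin {w : F} : w ∈ pfin F ↔ w ∈ asImage F := by simp [pfin, asImage, eq_comm]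

theorem card_le_two_mul_pfin : Fintype.card F ≤ 2 * (pfin F).card := card_le_two_mul_asImage

theorem card_lt_two_mul_pfin (h2 : (2 : F) ≠ 0) : Fintype.card F < 2 * (pfin F).card := by
  have h := card_le_two_mul_pfin (F := F)
  obtain ⟨k, hk⟩ : Odd (Fintype.card F) := by
    rw [← Nat.card_eq_fintype_card]; exact odd_natCard_of_two_ne_zero h2
  omega

/-- The nonzero trace parameters, as a finset. -/
def tfin (δ η : F) : Finset F := ((pfin F).filter fun w => w + η ≠ 0).image fun w => δ / (w + η)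

theorem mem_tfin {δ η T : F} : T ∈ tfin δ η ↔ ∃ w ∈ asImage F, w + η ≠ 0 ∧ T = δ / (w + η) := by
  simp only [tfin, Finset.mem_image, Finset.mem_filter, mem_pfin]
  exact ⟨fun ⟨w, ⟨h1, h3⟩, e⟩ => ⟨w, h1, h3, e.symm⟩, fun ⟨w, h1, h3, e⟩ => ⟨w, ⟨h1, h3⟩, e.symm⟩⟩

theorem tfin_subset {δ η T : F} (h : T ∈ tfin δ η) : T ∈ tset δ η := Or.inr (mem_tfin.1 h)

theorem mem_insert_tfin {δ η T : F} : T ∈ insert 0 (tfin δ η) ↔ T ∈ tset δ η := by
  rw [Finset.mem_insert, mem_tfin]; rfl

theorem ne_zero_of_mem_tfin {δ η T : F} (hk : Kind δ η) (h : T ∈ tfin δ η) : T ≠ 0 := by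
  obtain ⟨w, -, hw, rfl⟩ := mem_tfin.1 h
  exact div_ne_zero hk.2.1 hw

theorem card_insert_tfin {δ η : F} (hk : Kind δ η) : (insert 0 (tfin δ η)).card = (tfin δ η).card + 1 :=
  Finset.card_insert_of_notMem fun h => ne_zero_of_mem_tfin hk h rfl

theorem card_filter_le_tfin {δ η : F} (hk : Kind δ η) :
    ((pfin F).filter fun w => w + η ≠ 0).card ≤ (tfin δ η).card := by
  refine (Finset.card_image_of_injOn fun w hw w' hw' e => ?_).ge
  have h1 := (Finset.mem_filter.1 hw).2
  have h3 := (Finset.mem_filter.1 hw').2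
  field_simp [hk.2.1] at e
  linear_combination -e

theorem card_tfin_aniso {δ η : F} (hk : Kind δ η) (hη : ∀ w ∈ asImage F, w + η ≠ 0) :
    (pfin F).card ≤ (tfin δ η).card := by
  rw [← Finset.filter_true_of_mem (fun w hw => hη w (mem_pfin.1 hw))]
  exact card_filter_le_tfin hk

theorem card_tfin {δ η : F} (hk : Kind δ η) : (pfin F).card ≤ (tfin δ η).card + 1 := by
  refine le_trans ?_ (Nat.add_le_add_right (card_filter_le_tfin hk) 1)
  refine le_trans (Finset.card_le_card (t := insert (-η) ((pfin F).filter fun w => w + η ≠ 0)) fun w hw => ?_)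
    (Finset.card_insert_le _ _)
  by_cases h : w + η = 0
  · exact Finset.mem_insert.2 (Or.inl (eq_neg_of_add_eq_zero_left h))
  · exact Finset.mem_insert_of_mem (Finset.mem_filter.2 ⟨hw, h⟩)

/-- Odd characteristic: every value is a weighted sum of two parameters. -/
theorem exists_pair_odd {δ η : F} (hk : Kind δ η) (h2 : (2 : F) ≠ 0) {r s : F} (hr : r ≠ 0) (hs : s ≠ 0) (c : F) :
    ∃ T ∈ tset δ η, ∃ T' ∈ tset δ η, r * T + s * T' = c := by
  obtain ⟨T, hT, T', hT', h⟩ := exists_lincomb (A := insert 0 (tfin δ η)) (B := insert 0 (tfin δ η)) (by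
    rw [card_insert_tfin hk]
    have := card_tfin hk
    have := card_lt_two_mul_pfin h2
    omega) hr hs c
  exact ⟨T, mem_insert_tfin.1 hT, T', mem_insert_tfin.1 hT', h⟩

/-- Anisotropic planes in odd characteristic: both parameters can be taken nonzero. -/
theorem exists_pair_aniso {δ η : F} (hk : Kind δ η) (hη : ∀ w ∈ asImage F, w + η ≠ 0) (h2 : (2 : F) ≠ 0)
    {r s : F} (hr : r ≠ 0) (hs : s ≠ 0) (c : F) :
    ∃ T ∈ tfin δ η, ∃ T' ∈ tfin δ η, r * T + s * T' = c :=
  exists_lincomb (by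
    have := card_tfin_aniso hk hη
    have := card_lt_two_mul_pfin h2
    omega) hr hs c

section CharTwo

variable (h2 : (2 : F) = 0)
include h2

theorem kind_two {δ η : F} (hk : Kind δ η) : δ = 1 := by linear_combination hk.1 - 2 * η * h2

theorem mem_tset_two {δ η T : F} (hk : Kind δ η) (hT : T ≠ 0) : T ∈ tset δ η ↔ T⁻¹ + η ∈ asImage F := by
  constructor
  · rintro (rfl | ⟨w, hw, hw0, rfl⟩)
    · exact absurd rfl hT
    · rw [kind_two h2 hk, one_div, inv_inv]
      rwa [show w + η + η = w by linear_combination η * h2]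
  · intro h
    refine Or.inr ⟨T⁻¹ + η, h, ?_, ?_⟩
    · rw [show T⁻¹ + η + η = T⁻¹ by linear_combination η * h2]; exact inv_ne_zero hT
    · rw [kind_two h2 hk, show T⁻¹ + η + η = T⁻¹ by linear_combination η * h2, one_div, inv_inv]

theorem two_mul_pfin : 2 * (pfin F).card = Fintype.card F := by
  rw [← two_mul_natCard_asImage h2, show asImage F = ↑(pfin F) from Set.ext fun w => mem_pfin.symm,
    Nat.card_coe_set_eq, Set.ncard_coe_finset]

theorem mem_tset_hyp {δ η T : F} (hk : Kind δ η) (hη : η = 0) : T ∈ tset δ η ↔ T⁻¹ ∈ asImage F := by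
  rcases eq_or_ne T 0 with rfl | hT
  · simp [zero_mem_tset, asImage_zero h2]
  · rw [mem_tset_two h2 hk hT, hη, add_zero]

/-- Characteristic two: three parameters, at least two of them nonzero. -/
theorem exists_triple_even {δ η : F} (hk : Kind δ η)
    (hq : (∀ w ∈ asImage F, w + η ≠ 0) ∨ 8 ≤ Fintype.card F)
    {r₁ r₂ r₃ c : F} (h₁ : r₁ ≠ 0) (hr₂ : r₂ ≠ 0) (h₃ : r₃ ≠ 0) (hc : c ≠ 0) :
    ∃ T₁ ∈ tset δ η, ∃ T₂ ∈ tset δ η, ∃ T₃ ∈ tset δ η,
      r₁ * T₁ + r₂ * T₂ + r₃ * T₃ = c ∧ T₃ ≠ 0 ∧ (T₁ ≠ 0 ∨ T₂ ≠ 0) := by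
  have hp := two_mul_pfin h2
  have key : ∀ T₃ ∈ tfin δ η, c - r₃ * T₃ ≠ 0 →
      (∃ a ∈ tset δ η, ∃ b ∈ tset δ η, r₁ * a + r₂ * b = c - r₃ * T₃) →
      ∃ T₁ ∈ tset δ η, ∃ T₂ ∈ tset δ η, ∃ T₃ ∈ tset δ η,
        r₁ * T₁ + r₂ * T₂ + r₃ * T₃ = c ∧ T₃ ≠ 0 ∧ (T₁ ≠ 0 ∨ T₂ ≠ 0) := by
    rintro T₃ hT₃ hne ⟨a, ha, b, hb, h⟩
    refine ⟨a, ha, b, hb, T₃, tfin_subset hT₃, by linear_combination h, ne_zero_of_mem_tfin hk hT₃, ?_⟩
    by_contra hab
    push Not at hab
    exact hne (by rw [← h, hab.1, hab.2]; ring)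
  rcases hk.2.2 with hη | hη
  · have hcard := card_tfin_aniso hk hη
    by_cases hT : ∃ T₃ ∈ tfin δ η, c - r₃ * T₃ ≠ 0
    · obtain ⟨T₃, hT₃, hne⟩ := hT
      refine key T₃ hT₃ hne ?_
      obtain ⟨a, ha, b, hb, h⟩ := exists_lincomb (A := insert 0 (tfin δ η)) (B := insert 0 (tfin δ η)) (by
        rw [card_insert_tfin hk]; omega) h₁ hr₂ (c - r₃ * T₃)
      exact ⟨a, mem_insert_tfin.1 ha, b, mem_insert_tfin.1 hb, h⟩
    · push Not at hT
      have h1 : (tfin δ η).card ≤ 1 := Finset.card_le_one.2 fun a ha b hb => by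
        have := hT a ha; have := hT b hb
        exact mul_left_cancel₀ h₃ (by linear_combination hT b hb - hT a ha)
      have hq2 : Fintype.card F = 2 := by
        have := Fintype.one_lt_card (α := F)
        omega
      have hall : ∀ x : F, x ≠ 0 → x = 1 := fun x hx => by
        by_contra h
        have := Finset.card_le_univ ({x, 1, 0} : Finset F)
        rw [Finset.card_insert_of_notMem (by simp [h, hx]), Finset.card_insert_of_notMem (by simp),
          Finset.card_singleton] at this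
        omega
      have hone : (1 : F) ∈ tset δ η := by
        rw [mem_tset_two h2 hk one_ne_zero]
        refine ⟨0, ?_⟩
        have := hη 0 (asImage_zero h2)
        rw [zero_add] at this
        rw [hall η this]; linear_combination -h2
      refine ⟨1, hone, 1, hone, 1, hone, ?_, one_ne_zero, Or.inl one_ne_zero⟩
      rw [hall _ h₁, hall _ hr₂, hall _ h₃, hall _ hc]; linear_combination h2
  · rcases hq with hq | hq
    · exact absurd (by rw [hη, add_zero]) (hq 0 (asImage_zero h2))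
    have hT : (insert 0 (tfin δ η)).card = (tfin δ η).card + 1 := card_insert_tfin hk
    have hlow := card_tfin hk
    have hbad : ∀ x x', (∀ a ∈ tset δ η, ∀ b ∈ tset δ η, r₁ * a + r₂ * b ≠ x) →
        (∀ a ∈ tset δ η, ∀ b ∈ tset δ η, r₁ * a + r₂ * b ≠ x') → x = x' := by
      intro x x' hx hx'
      by_contra hne
      have hmem : ∀ y, (∀ a ∈ tset δ η, ∀ b ∈ tset δ η, r₁ * a + r₂ * b ≠ y) → ∀ b ∈ tset δ η,
          (y - r₂ * b) / r₁ ∉ tset δ η := fun y hy b hb h => hy _ h b hb (by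
            rw [mul_div_cancel₀ _ h₁]; ring)
      have hcompl : ∀ z, z ∉ tset δ η → (x' - r₁ * z) / r₂ ∈ tset δ η := by
        intro z hz
        by_contra hc'
        obtain ⟨w, hw1, hw2⟩ := exists_mem_mem_of_card (U := (Finset.univ : Finset F))
          (A := insert z (insert 0 (tfin δ η))) (B := (insert 0 (tfin δ η)).image fun b => (x' - r₂ * b) / r₁)
          (Finset.subset_univ _) (Finset.subset_univ _) (by
            rw [Finset.card_insert_of_notMem (fun h => hz (mem_insert_tfin.1 h)),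
              Finset.card_image_of_injective _ (fun u v e => by field_simp at e; exact mul_left_cancel₀ hr₂ (sub_right_injective e)), hT,
              Finset.card_univ]
            omega)
        obtain ⟨b, hb, rfl⟩ := Finset.mem_image.1 hw2
        rcases Finset.mem_insert.1 hw1 with h | h
        · refine hc' ?_
          rw [← h, mul_div_cancel₀ _ h₁, sub_sub_cancel, mul_div_cancel_left₀ _ hr₂]
          exact mem_insert_tfin.1 hb
        · exact hmem x' hx' b (mem_insert_tfin.1 hb) (mem_insert_tfin.1 h)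
      have hp0 : (x' - x) / r₂ ≠ 0 := div_ne_zero (sub_ne_zero.2 (Ne.symm hne)) hr₂
      have := card_le_four_of_period h2 hp0 fun b hb => by
        have hb' := (mem_tset_hyp h2 hk hη).2 hb
        have := hcompl _ (hmem x hx b hb')
        rw [← mem_tset_hyp h2 hk hη]
        convert this using 1
        field_simp
        ring
      omega
    obtain ⟨T₃, hT₃, hne, hgood⟩ : ∃ T₃ ∈ tfin δ η, c - r₃ * T₃ ≠ 0 ∧
        ∃ a ∈ tset δ η, ∃ b ∈ tset δ η, r₁ * a + r₂ * b = c - r₃ * T₃ := by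
      by_contra hc'
      push Not at hc'
      have hle : ((tfin δ η).erase (c / r₃)).card ≤ 1 := Finset.card_le_one.2 fun a ha b hb => by
        have hne : ∀ u ∈ (tfin δ η).erase (c / r₃), c - r₃ * u ≠ 0 := fun u hu e =>
          Finset.ne_of_mem_erase hu (by rw [sub_eq_zero.1 e, mul_div_cancel_left₀ _ h₃])
        exact mul_left_cancel₀ h₃ (sub_right_injective (hbad _ _ (hc' a (Finset.mem_of_mem_erase ha) (hne a ha))
          (hc' b (Finset.mem_of_mem_erase hb) (hne b hb))))
      have := Finset.pred_card_le_card_erase (s := tfin δ η) (a := c / r₃)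
      omega
    exact key T₃ hT₃ hne hgood

/-- Anisotropic planes: if two nonzero parameters cannot represent `c`, then `c / s` is a parameter. -/
theorem mem_of_no_pair {δ η : F} (hk : Kind δ η) (hη : ∀ w ∈ asImage F, w + η ≠ 0) {r s c : F}
    (hr : r ≠ 0) (hs : s ≠ 0) (h : ∀ T ∈ tfin δ η, ∀ T' ∈ tfin δ η, r * T + s * T' ≠ c) :
    c / s ∈ tfin δ η := by
  have hcard := card_tfin_aniso hk hη
  have hp := two_mul_pfin h2
  by_contra hcs
  obtain ⟨x, hx1, hx2⟩ := exists_mem_mem_of_card (U := Finset.univ.erase (0 : F))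
    (A := (tfin δ η).image fun T => r * T) (B := (tfin δ η).image fun T => c - s * T)
    (fun x hx => by
      obtain ⟨T, hT, rfl⟩ := Finset.mem_image.1 hx
      exact Finset.mem_erase.2 ⟨mul_ne_zero hr (ne_zero_of_mem_tfin hk hT), Finset.mem_univ _⟩)
    (fun x hx => by
      obtain ⟨T, hT, rfl⟩ := Finset.mem_image.1 hx
      refine Finset.mem_erase.2 ⟨fun e => hcs ?_, Finset.mem_univ _⟩
      rwa [sub_eq_zero.1 e, mul_div_cancel_left₀ _ hs])
    (by
      rw [Finset.card_image_of_injective _ (mul_right_injective₀ hr),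
        Finset.card_image_of_injective _ (fun u v e => mul_left_cancel₀ hs (sub_right_injective e)),
        Finset.card_erase_of_mem (Finset.mem_univ _), Finset.card_univ]
      have := Fintype.card_pos (α := F)
      omega)
  obtain ⟨T, hT, rfl⟩ := Finset.mem_image.1 hx1
  obtain ⟨T', hT', e⟩ := Finset.mem_image.1 hx2
  exact h T hT T' hT' (by linear_combination -e)

end CharTwo

end Cfsg.Agent.H72.OrthPlanes
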